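import Cfsg.Agent.Perm.Prime
import Cfsg.Agent.Comp.Syl
import Mathlib.GroupTheory.GroupAction.Jordan

/-! Theorems of Jordan and Witt. -/

set_option autoImplicit false

namespace Cfsg.Agent.Perm

open Subgroup MulAction Cfsg.Agent.Comp
open scoped Pointwise commutatorElement

variable {G Ω : Type*} [Group G] [MulAction G Ω]

theorem witt [Finite G] {p : ℕ} [Fact p.Prime] {P : Subgroup G} {s : Set Ω}
    (hP : SylIn p P (fixingSubgroup G s)) {g : G} (hg : ∀ x ∈ s, ∀ u ∈ P, u • g • x = g • x) :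
    ∃ u ∈ normalizer (P : Set G), ∀ x ∈ s, u • x = g • x := by
  obtain ⟨h, h1, h2⟩ := hP.le_conj (Q := P.map (MulAut.conj g⁻¹).toMonoidHom) (fun u hu =>
    (mem_fixingSubgroup_iff _).2 fun x hx => by
      have := hg x hx _ (mem_map_conj.1 hu)
      rwa [inv_inv, mul_smul, mul_smul, inv_smul_smul, smul_left_cancel_iff] at this) (hP.pg.map _)
  refine ⟨g * h, mem_normalizer_of_map_conj_eq ?_, fun x hx => by
    rw [mul_smul, (mem_fixingSubgroup_iff _).1 h1 x hx]⟩
  rw [← map_conj_map_conj, ← eq_of_le_of_card_ge h2 (by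
    rw [card_map_of_injective map_conj_inj, card_map_of_injective map_conj_inj]),
    map_conj_map_conj, mul_inv_cancel, map_conj_one]

theorem faithful_ofFixing [FaithfulSMul G Ω] (s : Set Ω) :
    FaithfulSMul (fixingSubgroup G s) (SubMulAction.ofFixingSubgroup G s) :=
  ⟨fun {g h} e => Subtype.ext (eq_of_smul_eq_smul (α := Ω) fun x => by
    by_cases hx : x ∈ s
    · rw [(mem_fixingSubgroup_iff _).1 g.2 x hx, (mem_fixingSubgroup_iff _).1 h.2 x hx]
    · exact congrArg Subtype.val (e ⟨x, hx⟩))⟩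

theorem comm_of_norm_zpowers [Finite G] {g u v : G} (hu : u ∈ normalizer (zpowers g : Set G))
    (hv : v ∈ normalizer (zpowers g : Set G)) : Commute ((v * u)⁻¹ * (u * v)) g := by
  obtain ⟨k, hk⟩ := exists_conj_eq_pow hu
  obtain ⟨l, hl⟩ := exists_conj_eq_pow hv
  have : u * v * g * (u * v)⁻¹ = v * u * g * (v * u)⁻¹ := by
    calc _ = u * (v * g * v⁻¹) * u⁻¹ := by group
      _ = v * (u * g * u⁻¹) * v⁻¹ := by
        rw [hk, hl, ← conj_pow, ← conj_pow, hk, hl, ← pow_mul, ← pow_mul, mul_comm]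
      _ = _ := by group
  rw [Commute, SemiconjBy, mul_assoc, ← inv_mul_cancel_right (u * v * g) (u * v), this]
  group

section perm

open Equiv Equiv.Perm

variable {α : Type*} [Fintype α] [DecidableEq α] {H : Subgroup (Perm α)}

theorem kt_of_cycle (hG : IsPreprimitive H α) {g : Perm α} (hgc : g.IsCycle)
    (hp : g.support.card.Prime) (hg : g ∈ H) (hn : g.support.card < Fintype.card α) :
    KT α H (g.supportᶜ.card + 1) := by
  have h1 := Finset.card_add_card_compl g.support
  have h2 := hp.two_le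
  obtain ⟨n, e⟩ : ∃ n, g.supportᶜ.card = n + 1 := ⟨_, (Nat.sub_add_cancel (by omega)).symm⟩
  have := isPretransitive_of_isCycle_mem hgc hg
  have h3 := hG.isMultiplyPreprimitive (s := (g.support : Set α)ᶜ) (n := n)
    (by rw [← e, ← Finset.coe_compl, Set.ncard_coe_finset])
    (by rw [Nat.card_eq_fintype_card]; omega) (IsPreprimitive.of_prime_card (by
      have := card_ofFixing (G := H) g.supportᶜ
      rw [Finset.coe_compl, Nat.card_eq_fintype_card (α := α)] at this
      rwa [show Nat.card (SubMulAction.ofFixingSubgroup H (g.support : Set α)ᶜ) = g.support.card by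
        omega]))
  rw [e]
  exact kt_of_multi h3.isMultiplyPretransitive (by rw [Nat.card_eq_fintype_card]; omega)

theorem jordan_cycle (hG : IsPreprimitive H α) {g : Perm α} (hgc : g.IsCycle)
    (hp : g.support.card.Prime) (hg : g ∈ H) (hn : g.support.card + 3 ≤ Fintype.card α) :
    alternatingGroup α ≤ H := by
  have := Fact.mk hp
  have h1 := Finset.card_add_card_compl g.support
  have h2 := kt_top_iff.2 (kt_of_cycle hG hgc hp hg (by omega))
  have o1 : orderOf (⟨g, hg⟩ : H) = g.support.card := by rw [orderOf_mk, hgc.orderOf]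
  have hP : SylIn g.support.card (zpowers (⟨g, hg⟩ : H)) (fixingSubgroup H (g.support : Set α)ᶜ) := by
    have l : zpowers (⟨g, hg⟩ : H) ≤ fixingSubgroup H (g.support : Set α)ᶜ :=
      zpowers_le.2 ((mem_fixingSubgroup_iff _).2 fun x hx => notMem_support.1 hx)
    obtain ⟨Q, q1, q2⟩ := exists_sylIn_ge l (isPGroup_zpowers_of_orderOf o1)
    obtain ⟨S, rfl⟩ := q2.exists_sylow
    have := isPretransitive_of_isCycle_mem hgc hg
    have := faithful_ofFixing (G := H) (g.support : Set α)ᶜ
    obtain ⟨σ, s1, s2, -⟩ := sylow_gen (Ω := SubMulAction.ofFixingSubgroup H (g.support : Set α)ᶜ) (by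
      have := card_ofFixing (G := H) g.supportᶜ
      rw [Finset.coe_compl, Nat.card_eq_fintype_card (α := α)] at this
      omega) S
    rwa [eq_of_le_of_card_ge q1 (by
      rw [card_map_of_injective (subtype_injective _), ← s1, Nat.card_zpowers, Nat.card_zpowers, o1, s2])]
  have key : ∀ a ∉ g.support, ∀ b ∉ g.support, ∃ u ∈ normalizer (zpowers (⟨g, hg⟩ : H) : Set H),
      ∀ x ∉ g.support, (u : Perm α) x = swap a b x := fun a ha b hb => by
    obtain ⟨h, -, h3⟩ := h2.exists_map g.supportᶜ (Nat.le_succ _) (swap a b) (swap a b).injective.injOn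
    obtain ⟨u, u1, u2⟩ := witt hP (g := h) fun x hx u hu => (mem_fixingSubgroup_iff _).1 (hP.le hu) _ (by
      rw [h3 x (by simpa using hx), swap_apply_def]
      split_ifs <;> assumption)
    exact ⟨u, u1, fun x hx => (u2 x hx).trans (h3 x (by simpa using hx))⟩
  obtain ⟨a, b, c, ha, hb, hc, ab, ac, bc⟩ := Finset.two_lt_card_iff.1
    (show 2 < g.supportᶜ.card by omega)
  rw [Finset.mem_compl] at ha hb hc
  obtain ⟨u, u1, u2⟩ := key a ha b hb
  obtain ⟨v, v1, v2⟩ := key a ha c hc
  have c1 : Commute (((v * u)⁻¹ * (u * v) : H) : Perm α) g :=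
    congrArg Subtype.val (comm_of_norm_zpowers u1 v1)
  have k : ∀ {y z}, y ∉ g.support → z ∉ g.support → ∀ x ∉ g.support, swap y z x ∉ g.support :=
    fun hy hz x hx => by rw [swap_apply_def]; split_ifs <;> assumption
  have c2 : ∀ x ∉ g.support, (((v * u)⁻¹ * (u * v) : H) : Perm α) x =
      ((swap a b * swap a c) * (swap a b * swap a c)) x := fun x hx => by
    simp only [Subgroup.coe_mul, Subgroup.coe_inv, Perm.mul_apply, Perm.inv_eq_iff_eq]
    rw [v2 x hx, u2 _ (k ha hc x hx), u2 _ (k ha hb _ (k ha hc _ (k ha hb _ (k ha hc _ hx)))),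
      swap_apply_self, v2 _ (k ha hc _ (k ha hb _ (k ha hc _ hx))), swap_apply_self]
  generalize ((v * u)⁻¹ * (u * v) : H) = w at c1 c2
  obtain ⟨x, hx, -⟩ := id hgc
  obtain ⟨i, hi⟩ := hgc.exists_pow_eq hx (y := (w : Perm α) x) fun e => hx ((w : Perm α).injective (by
    rw [← Perm.mul_apply, c1.eq, Perm.mul_apply, e]))
  refine alternatingGroup_le_of_isPreprimitive_of_isThreeCycle_mem hG
    (isThreeCycle_swap_mul_swap_same ab ac bc).isThreeCycle_sq ?_
  convert mul_mem (inv_mem (pow_mem hg i)) w.2 using 1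
  ext y
  rw [Perm.mul_apply (g ^ i)⁻¹, Perm.eq_inv_iff_eq]
  by_cases hy : y ∈ g.support
  · obtain ⟨j, rfl⟩ := hgc.exists_pow_eq hx (mem_support.1 hy)
    have e : ∀ z, z ∉ g.support → (g ^ j) x ≠ z := fun z hz e => hz (e ▸ hy)
    simp only [Perm.mul_apply, swap_apply_of_ne_of_ne (e a ha) (e b hb),
      swap_apply_of_ne_of_ne (e a ha) (e c hc)]
    rw [← Perm.mul_apply (w : Perm α), (c1.pow_right j).eq, Perm.mul_apply, ← hi, ← Perm.mul_apply,
      ← Perm.mul_apply, pow_mul_comm]
  · rw [c2 y hy]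
    exact pow_apply_eq_self_of_apply_eq_self (notMem_support.1
      (k ha hb _ (k ha hc _ (k ha hb _ (k ha hc _ hy))))) i

theorem exists_segment (g : Perm α) (j : ℕ) (hj : j ≤ g.support.card) :
    ∃ S ⊆ g.support, S.card = j ∧ ∃ y : Option α, ∀ x ∈ S, some x ≠ y → g x ∈ S := by
  induction j with
  | zero => exact ⟨∅, by simp, rfl, none, by simp⟩
  | succ j ih =>
    obtain ⟨S, s1, s2, y, s3⟩ := ih (by omega)
    by_cases h : ∀ x ∈ S, g x ∈ S
    · obtain ⟨z, z1, z2⟩ := Finset.exists_mem_notMem_of_card_lt_card (s := S) (t := g.support) (by omega)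
      exact ⟨insert z S, Finset.insert_subset z1 s1, by rw [Finset.card_insert_of_notMem z2, s2],
        some z, fun x hx e => Finset.mem_insert_of_mem (h x ((Finset.mem_insert.1 hx).resolve_left
          fun e' => e (e' ▸ rfl)))⟩
    push Not at h
    obtain ⟨z, z1, z2⟩ := h
    refine ⟨insert (g z) S, Finset.insert_subset (apply_mem_support.2 (s1 z1)) s1,
      by rw [Finset.card_insert_of_notMem z2, s2], some (g z), fun x hx e => ?_⟩
    by_cases e' : x = z
    · exact e' ▸ Finset.mem_insert_self _ _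
    · refine Finset.mem_insert_of_mem (s3 x ((Finset.mem_insert.1 hx).resolve_left
        fun e' => e (e' ▸ rfl)) ?_)
      rintro rfl
      exact z2 (s3 z z1 fun e => e' (Option.some_injective _ e).symm)

theorem reduce_support {k : ℕ} (hG : KT α H k) {g : Perm α} (hg : g ∈ H) (h4 : 4 ≤ g.support.card)
    (h1 : g.support.card < 2 * k - 2) (h2 : g.support.card < Fintype.card α) :
    ∃ h ∈ H, h ≠ 1 ∧ h.support.card < g.support.card := by
  obtain ⟨S, s1, s2, y, s3⟩ := exists_segment g (min (k - 1) (g.support.card - 1)) (by omega)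
  have s4 := Finset.card_sdiff_add_card_eq_card s1
  obtain ⟨d, hd⟩ := exists_notMem_of_card_lt (s := g.support) (by rwa [Nat.card_eq_fintype_card])
  have key : ∀ u : Perm α, (∀ x ∈ S, u x = x) → ∀ z ∈ (g⁻¹ * (u * g * u⁻¹)).support,
      (z ∈ S ∧ g z ∉ S) ∨ z ∈ g.support \ S ∪ (g.support \ S).map u.toEmbedding := fun u hu z hz => by
    by_cases e : z ∈ S
    · refine Or.inl ⟨e, fun e' => mem_support.1 hz ?_⟩
      simp only [Perm.mul_apply, Perm.inv_eq_iff_eq.2 (hu z e).symm, hu _ e', Perm.inv_eq_iff_eq]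
    refine Or.inr (Finset.mem_union.2 ((Finset.mem_union.1 (support_mul_le _ _ hz)).imp
      (fun h => Finset.mem_sdiff.2 ⟨support_inv g ▸ h, e⟩) fun h => ?_))
    rw [support_conj] at h
    obtain ⟨x, x1, rfl⟩ := Finset.mem_map.1 h
    exact Finset.mem_map_of_mem _ (Finset.mem_sdiff.2 ⟨x1, fun e' => e ((hu x e').symm ▸ e')⟩)
  by_cases h : ∀ x ∈ S, g x ∈ S
  · obtain ⟨c, c1, c2⟩ := Finset.exists_mem_notMem_of_card_lt_card (s := S) (t := g.support) (by omega)
    obtain ⟨u, u1, u2, u3⟩ := hG S (by omega) c c2 d fun e => hd (s1 e)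
    refine ⟨_, mul_mem (inv_mem hg) (mul_mem (mul_mem u1 hg) (inv_mem u1)), fun e => hd ?_,
      (Finset.card_le_card fun z hz => (key u u2 z hz).resolve_left fun e => e.2 (h z e.1)).trans_lt
        ((Finset.card_union_le _ _).trans_lt (by rw [Finset.card_map]; omega))⟩
    rw [inv_mul_eq_one.1 e, support_conj]
    exact Finset.mem_map.2 ⟨c, c1, u3⟩
  push Not at h
  obtain ⟨z, z1, z2⟩ := h
  have key2 : ∀ d ∉ S, d ≠ g z → ∃ h ∈ H, h ≠ 1 ∧ ∃ u : Perm α, u (g z) = d ∧
      h.support ⊆ insert z (g.support \ S ∪ (g.support \ S).map u.toEmbedding) := fun d d1 d2 => by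
    obtain ⟨u, u1, u2, u3⟩ := hG S (by omega) _ z2 d d1
    refine ⟨_, mul_mem (inv_mem hg) (mul_mem (mul_mem u1 hg) (inv_mem u1)), fun e => d2 ?_, u, u3,
      fun x hx => Finset.mem_insert.2 ((key u u2 x hx).imp_left fun e => ?_)⟩
    · conv_rhs => rw [inv_mul_eq_one.1 e, Perm.mul_apply, Perm.mul_apply,
        Perm.inv_eq_iff_eq.2 (u2 z z1).symm]
      exact u3.symm
    · by_contra e'
      by_cases e2 : some x = y
      · exact z2 (s3 z z1 fun e3 => e' (Option.some_injective _ (e2.trans e3.symm)))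
      · exact e.2 (s3 x e.1 e2)
  have z3 : g z ∈ g.support \ S := Finset.mem_sdiff.2 ⟨apply_mem_support.2 (s1 z1), z2⟩
  by_cases h : (g.support \ S).card ≤ 1
  · obtain ⟨w, w1, w2, u, -, w3⟩ := key2 d (fun e => hd (s1 e))
      fun e => hd (e ▸ (Finset.mem_sdiff.1 z3).1)
    exact ⟨w, w1, w2, (Finset.card_le_card w3).trans_lt ((Finset.card_insert_le _ _).trans_lt
      (by have := Finset.card_union_le (g.support \ S) ((g.support \ S).map u.toEmbedding)
          rw [Finset.card_map] at this; omega))⟩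
  obtain ⟨e, e1, e2⟩ := Finset.exists_mem_ne (not_le.1 h) (g z)
  obtain ⟨w, w1, w2, u, u1, w3⟩ := key2 e (Finset.mem_sdiff.1 e1).2 e2
  refine ⟨w, w1, w2, (Finset.card_le_card w3).trans_lt ((Finset.card_insert_le _ _).trans_lt ?_)⟩
  have e3 := Finset.card_union_add_card_inter (g.support \ S) ((g.support \ S).map u.toEmbedding)
  have e4 := Finset.card_pos.2 ⟨e, Finset.mem_inter.2 ⟨e1, (Finset.mem_map (f := u.toEmbedding)).2
    ⟨_, z3, u1⟩⟩⟩
  rw [Finset.card_map] at e3
  omega

theorem prim_of_kt_two {K : Subgroup G} (h : KT Ω K 2) : IsPreprimitive K Ω :=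
  isPreprimitive_of_is_two_pretransitive h.multi

theorem alt_le_of_support (hG : IsPreprimitive H α) {h : Perm α} (h1 : h ∈ H) (h2 : h ≠ 1)
    (h3 : h.support.card ≤ 3) : alternatingGroup α ≤ H := by
  have := one_lt_card_support_of_ne_one h2
  rcases (by omega : h.support.card = 2 ∨ h.support.card = 3) with e | e
  · exact le_top.trans (subgroup_eq_top_of_isPreprimitive_of_isSwap_mem hG h
      (card_support_eq_two.1 e) h1).ge
  · exact alternatingGroup_le_of_isPreprimitive_of_isThreeCycle_mem hG (card_support_eq_three_iff.1 e) h1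

theorem small_support {k : ℕ} (hk : 3 ≤ k) (hG : KT α H k) {g : Perm α} (hg : g ∈ H) (h0 : g ≠ 1)
    (h1 : g.support.card < 2 * k - 2) : ∃ h ∈ H, h ≠ 1 ∧ h.support.card ≤ 3 := by
  induction e : g.support.card using Nat.strong_induction_on generalizing g with | _ m ih => ?_
  subst e
  by_cases h3 : g.support.card ≤ 3
  · exact ⟨g, hg, h0, h3⟩
  suffices ∃ h ∈ H, h ≠ 1 ∧ h.support.card < g.support.card from
    let ⟨h, a1, a2, a3⟩ := this; ih _ a3 a1 a2 (by omega) rfl
  rcases (Finset.card_le_univ g.support).lt_or_eq with h2 | h2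
  · exact reduce_support hG hg (by omega) h1 h2
  obtain ⟨a, -, b, -, c, -, ab, ac, bc⟩ := Finset.two_lt_card.1 (show 2 < g.support.card by omega)
  obtain ⟨u, u1, u2, u3⟩ := hG.two (by omega) ab ac
  exact ⟨u, u1, fun e => bc (by simpa [e] using u3), h2 ▸ (Finset.card_lt_iff_ne_univ _).2
    fun e => mem_support.1 (e.ge (Finset.mem_univ a)) u2⟩

end perm

end Cfsg.Agent.Perm
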