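import Cfsg.Agent.Perm.Jordan

/-! More on permutation groups of prime degree. -/

set_option autoImplicit false

namespace Cfsg.Agent.Perm

open Subgroup MulAction Cfsg.Agent.Comp
open scoped Pointwise commutatorElement

variable {G Ω : Type*} [Group G] [MulAction G Ω] {p : ℕ} [hp : Fact p.Prime]

theorem card_sylow_prime_deg [Finite G] [Finite Ω] [FaithfulSMul G Ω] [IsPretransitive G Ω]
    (hc : Nat.card Ω = p) (P : Sylow p G) : Nat.card P = p := by
  obtain ⟨σ, h1, h2, -⟩ := sylow_gen hc P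
  exact (congrArg (fun K : Subgroup G => Nat.card K) h1).symm.trans ((Nat.card_zpowers σ).trans h2)

theorem simple_of_prime_deg [Finite G] [Finite Ω] [FaithfulSMul G Ω] [IsPretransitive G Ω]
    (hc : Nat.card Ω = p) (P : Sylow p G) (h1 : ¬ (P : Subgroup G).Normal)
    (h2 : ((P : Subgroup G).relIndex (normalizer ((P : Subgroup G) : Set G))).Prime) :
    IsSimpleGroup G := by
  have : Nontrivial G := by
    by_contra h
    rw [not_nontrivial_iff_subsingleton] at h
    exact h1 ⟨fun n hn g => by rwa [Subsingleton.elim (g * n * g⁻¹) n]⟩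
  refine ⟨fun M hM => or_iff_not_imp_left.2 fun h => ?_⟩
  have := IsPreprimitive.of_prime_card (G := G) (X := Ω) (hc ▸ hp.out)
  have := kt_one_iff'.1 (kt_one_of_normal (Ω := Ω) h)
  obtain ⟨Q, hQ⟩ := ((sylIn_top P).inf_normal (N := M) le_top le_normalizer_of_normal).exists_sylow
  have e1 : (P : Subgroup G) ≤ M := inf_eq_left.1 (eq_of_le_of_card_ge inf_le_left (by
    rw [← hQ, card_map_of_injective M.subtype_injective]
    exact ((card_sylow_prime_deg hc P).trans (card_sylow_prime_deg hc Q).symm).le))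
  have e2 := relIndex_mul_relIndex (P : Subgroup G) (normalizer ((P : Subgroup G) : Set G) ⊓ M) _
    (le_inf le_normalizer e1) inf_le_left
  rcases h2.eq_one_or_self_of_dvd _ (Dvd.intro _ e2) with e | e
  · obtain ⟨d, n, -, -, d1, d2, d3⟩ := card_prime_deg hc (P.subtype e1)
    rw [Sylow.coe_subtype, ← subgroupOf_normalizer_eq e1, Core.card_subgroupOf,
      le_antisymm (relIndex_eq_one.1 e) (le_inf le_normalizer e1)] at d1
    obtain rfl : d = 1 := Nat.eq_of_mul_eq_mul_left hp.out.pos
      (d1.symm.trans ((card_sylow_prime_deg hc P).trans (mul_one p).symm))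
    rw [d3 rfl, mul_one, mul_one] at d2
    exact absurd (eq_of_le_of_card_ge e1 (d2.trans (card_sylow_prime_deg hc P).symm).le ▸ hM) h1
  · rw [e, mul_eq_left₀ h2.ne_zero, relIndex_eq_one] at e2
    rw [← P.normalizer_sup_eq_top' e1]
    exact (sup_eq_right.2 (e2.trans inf_le_right)).symm

omit hp in
theorem KT.card_eq [Finite Ω] {k : ℕ} (h : KT Ω (⊤ : Subgroup G) k) {s : Finset Ω} (hs : s.card = k) :
    Nat.card G = Nat.card (fixingSubgroup G (s : Set Ω)) * (Nat.card Ω).descFactorial k := by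
  have := IsMultiplyPretransitive.index_of_fixingSubgroup_eq (G := G) (s : Set Ω)
    (by rw [Set.ncard_coe_finset, hs]; exact h.multi_top)
  rw [Set.ncard_coe_finset, hs] at this
  rw [Nat.descFactorial_eq_factorial_mul_choose, mul_comm k.factorial, ← this, card_mul_index]

omit hp in
theorem KT.dvd_card [Finite Ω] {k : ℕ} (h : KT Ω (⊤ : Subgroup G) k) (hk : k ≤ Nat.card Ω) :
    (Nat.card Ω).descFactorial k ∣ Nat.card G := by
  have := Fintype.ofFinite Ω
  obtain ⟨s, -, hs⟩ := Finset.exists_subset_card_eq (s := Finset.univ) (n := k) (by simpa using hk)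
  exact Dvd.intro_left _ (h.card_eq hs).symm

theorem two_of_insoluble [Finite G] [Finite Ω] [FaithfulSMul G Ω] [IsPretransitive G Ω]
    (hc : Nat.card Ω = p) (hG : ¬ Group.IsSolvable G) : KT Ω (⊤ : Subgroup G) 2 := by
  obtain ⟨P⟩ : Nonempty (Sylow p G) := inferInstance
  obtain ⟨σ, -, h, x, hx⟩ := sylow_gen hc P
  exact (two_or_affine (orderOf_dvd_iff_pow_eq_one.1 h.dvd) hx).resolve_right
    (mt (solvable_of_affine x.injective) hG)

theorem three_of_even' [Finite G] [Finite Ω] [FaithfulSMul G Ω] [IsPretransitive G Ω]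
    (hc : Nat.card Ω = p) (h2 : p ≠ 2) (hG : ¬ Group.IsSolvable G) (P : Sylow p G)
    (h : Even (Nat.card (normalizer ((P : Subgroup G) : Set G)))) : KT Ω (⊤ : Subgroup G) 3 := by
  have := Fintype.ofFinite Ω
  obtain ⟨σ, h1, h3, x, hx⟩ := sylow_gen hc P
  exact three_of_even h2 (orderOf_dvd_iff_pow_eq_one.1 h3.dvd) hx hG (h1 ▸ h)

section perm

open Equiv Equiv.Perm

variable {α : Type*} [Fintype α] [DecidableEq α] {H : Subgroup (Perm α)}

theorem odd_norm [IsPretransitive H α] (hc : Nat.card α = p) (h4 : p % 4 = 3)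
    (hA : H ≤ alternatingGroup α) (P : Sylow p H) :
    ¬ Even (Nat.card (normalizer ((P : Subgroup H) : Set H))) := fun h => by
  obtain ⟨σ, h1, h3, x, hx⟩ := sylow_gen hc P
  have h2 : p ≠ 2 := by omega
  obtain ⟨τ, t1, k, k1, k2⟩ := exists_inverting h2 hx (h1 ▸ h)
  obtain ⟨c, t2⟩ : ∃ c, ∀ b, x (τ • b) = -1 * x b + c := ⟨_, k1 ▸ coord_affine hx k2⟩
  have n2 : (2 : ZMod p) ≠ 0 := Ring.two_ne_zero (by rwa [ZMod.ringChar_zmod_n])
  have e := sign_of_pow_two_eq_one (σ := (τ : Perm α)) (by rw [sq]; exact congrArg Subtype.val t1)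
  rw [mem_alternatingGroup.1 (hA τ.2), ← Nat.card_eq_fintype_card, hc, (Fintype.card_eq_one_iff
    (α := Function.fixedPoints (τ : Perm α))).2 ⟨⟨x.symm (c / 2), x.injective ((t2 _).trans (by
      rw [apply_symm_apply]; linear_combination -mul_div_cancel₀ c n2))⟩, fun y => Subtype.ext (by
      rw [eq_symm_apply, eq_div_iff n2]
      linear_combination (t2 y).symm.trans (congrArg x y.2) * -1)⟩,
    Odd.neg_one_pow (Nat.odd_iff.2 (by omega))] at e
  exact absurd e (by decide)

theorem even_part [IsPretransitive H α] (hc : Nat.card α = p) (h2 : p ≠ 2) (hG : ¬ Group.IsSolvable H) :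
    IsPretransitive ↥(H ⊓ alternatingGroup α) α ∧ ¬ Group.IsSolvable ↥(H ⊓ alternatingGroup α) ∧
      (H ≤ alternatingGroup α ∨ Nat.card H = 2 * Nat.card ↥(H ⊓ alternatingGroup α)) := by
  obtain ⟨P⟩ : Nonempty (Sylow p H) := inferInstance
  obtain ⟨σ, -, h3, x, hx⟩ := sylow_gen hc P
  refine ⟨kt_one_iff'.1 ((coord_kt (σ := (σ : Perm α)) hx).mono (zpowers_le.2 ⟨σ.2, ?_⟩) le_rfl),
    fun h => hG (solvable_of_map (f := sign) inferInstance h), ?_⟩
  · have e : sign (σ : Perm α) ^ p = 1 := by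
      rw [← map_pow, ← Subgroup.coe_pow, orderOf_dvd_iff_pow_eq_one.1 h3.dvd, Subgroup.coe_one, map_one]
    rcases Int.units_eq_one_or (sign (σ : Perm α)) with h | h
    · exact h
    · rw [h, (hp.out.odd_of_ne_two h2).neg_one_pow] at e
      exact absurd e (by decide)
  · have e := Core.card_map_mul_card_inf_ker H sign
    have e1 := card_subgroup_dvd_card (H.map sign)
    rw [Nat.card_eq_fintype_card (α := ℤˣ), Fintype.card_units_int, Nat.dvd_prime Nat.prime_two] at e1
    exact e1.imp (fun h => (map_eq_bot_iff H).1 (card_eq_one.1 h)) fun h => by rw [← e, h]; rfl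

omit hp in
theorem deg_seven [IsPretransitive H α] (hc : Nat.card α = 7) (hG : ¬ Group.IsSolvable H)
    (hA : H < alternatingGroup α) : Nat.card H = 168 ∧ IsSimpleGroup H := by
  have : Fact (Nat.Prime 7) := ⟨by norm_num⟩
  obtain ⟨P⟩ : Nonempty (Sylow 7 H) := inferInstance
  obtain ⟨d, n, h1, h2, h3, h4, h5⟩ := card_prime_deg hc P
  have h6 := odd_norm hc rfl hA.le P
  have h7 := (two_of_insoluble hc hG).dvd_card (by omega)
  have : Nontrivial α := Finite.one_lt_card_iff_nontrivial.1 (by omega)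
  have h8 := card_dvd_of_le hA.le
  have h9 : Nat.card H ≠ Nat.card (alternatingGroup α) := fun e =>
    hA.ne (eq_of_le_of_card_ge hA.le e.ge)
  rw [nat_card_alternatingGroup, hc] at h8 h9
  rw [hc] at h7
  rw [h3, Nat.not_even_iff_odd, Nat.odd_iff] at h6
  simp only [Nat.factorial, Nat.descFactorial] at h7 h8 h9
  have := Nat.le_of_dvd (by norm_num) h1
  obtain rfl : d = 3 := by interval_cases d <;> omega
  obtain rfl : n = 8 := by
    have : n ∣ 120 := Nat.dvd_of_mul_dvd_mul_left (show 0 < 21 by norm_num) (h4 ▸ h8)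
    have := Nat.le_of_dvd (by norm_num) this
    unfold Nat.ModEq at h2
    interval_cases n <;> omega
  refine ⟨h4, simple_of_prime_deg hc P (fun h => ?_) ?_⟩
  · rw [normalizer_eq_top, card_top] at h3; omega
  · have := Core.card_mul_relIndex (le_normalizer (H := (P : Subgroup H)))
    rw [h3, show Nat.card (P : Subgroup H) = 7 from card_sylow_prime_deg hc P] at this
    rw [Nat.eq_of_mul_eq_mul_left (by norm_num) this]; norm_num

end perm

end Cfsg.Agent.Perm
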