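import Mathlib.GroupTheory.GroupAction.Jordan
import Mathlib.GroupTheory.GroupAction.SubMulAction.Combination
import Cfsg.Agent.Core.Cores
import Cfsg.Agent.Core.Frattini
import Cfsg.Prelude.Def_Perm

/-! Concrete multiple transitivity. -/

set_option autoImplicit false

namespace Cfsg.Agent.Perm

open Subgroup MulAction
open scoped Pointwise

variable {G Ω : Type*} [Group G] [MulAction G Ω]

variable (Ω) in
/-- the subgroup `H` is `k`-transitive -/
def KT (H : Subgroup G) (k : ℕ) : Prop :=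
  ∀ s : Finset Ω, s.card < k → ∀ a ∉ s, ∀ b ∉ s, ∃ g ∈ H, (∀ x ∈ s, g • x = x) ∧ g • a = b

theorem KT.mono {H K : Subgroup G} {k j : ℕ} (h : KT Ω H k) (h1 : H ≤ K) (h2 : j ≤ k) :
    KT Ω K j := fun s hs a ha b hb =>
  let ⟨g, g1, g2⟩ := h s (hs.trans_le h2) a ha b hb; ⟨g, h1 g1, g2⟩

theorem KT.of_le {H : Subgroup G} {k j : ℕ} (h : KT Ω H k) (h2 : j ≤ k) : KT Ω H j :=
  h.mono le_rfl h2

theorem kt_zero (H : Subgroup G) : KT Ω H 0 := fun _ h => absurd h (Nat.not_lt_zero _)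

theorem KT.exists_map {H : Subgroup G} {k : ℕ} (h : KT Ω H k) (s : Finset Ω) (hs : s.card ≤ k)
    (f : Ω → Ω) (hf : Set.InjOn f s) : ∃ g ∈ H, ∀ x ∈ s, g • x = f x := by
  classical
  induction s using Finset.induction_on with
  | empty => exact ⟨1, one_mem _, by simp⟩
  | insert a s ha ih =>
    rw [Finset.card_insert_of_notMem ha] at hs
    obtain ⟨g, g1, g2⟩ := ih (by omega) (hf.mono (by simp))
    obtain ⟨u, u1, u2, u3⟩ := h (s.image f) (Finset.card_image_le.trans_lt hs) (g • a) (by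
      simp only [Finset.mem_image, not_exists, not_and]
      intro x hx e
      rw [← g2 x hx, smul_left_cancel_iff] at e
      exact ha (e ▸ hx)) (f a) (by
      simp only [Finset.mem_image, not_exists, not_and]
      intro x hx e
      exact ha (hf (by simp [hx]) (by simp) e ▸ hx))
    refine ⟨u * g, mul_mem u1 g1, fun x hx => ?_⟩
    rcases Finset.mem_insert.1 hx with rfl | hx
    · rw [mul_smul, u3]
    · rw [mul_smul, g2 x hx, u2 _ (Finset.mem_image_of_mem f hx)]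

theorem KT.exists_fun {H : Subgroup G} {k : ℕ} (h : KT Ω H k) {ι : Type*} [Fintype ι]
    (hι : Fintype.card ι ≤ k) {x y : ι → Ω} (hx : Function.Injective x)
    (hy : Function.Injective y) : ∃ g ∈ H, ∀ i, g • x i = y i := by
  classical
  obtain ⟨g, g1, g2⟩ := h.exists_map (Finset.univ.image x) (Finset.card_image_le.trans hι)
    (Function.extend x y id) (by
      intro a ha b hb e
      simp only [Finset.coe_image, Set.mem_image] at ha hb
      obtain ⟨i, -, rfl⟩ := ha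
      obtain ⟨j, -, rfl⟩ := hb
      rw [hx.extend_apply, hx.extend_apply] at e
      rw [hy e])
  exact ⟨g, g1, fun i => by rw [g2 _ (Finset.mem_image_of_mem x (Finset.mem_univ i)),
    hx.extend_apply]⟩

theorem KT.multi {H : Subgroup G} {k : ℕ} (h : KT Ω H k) : IsMultiplyPretransitive H Ω k :=
  ⟨fun x y => let ⟨g, g1, g2⟩ := h.exists_fun (Fintype.card_fin k).le x.injective y.injective
    ⟨⟨g, g1⟩, Function.Embedding.ext g2⟩⟩

theorem KT.multi_top {k : ℕ} (h : KT Ω (⊤ : Subgroup G) k) : IsMultiplyPretransitive G Ω k :=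
  ⟨fun x y => let ⟨g, _, g2⟩ := h.exists_fun (Fintype.card_fin k).le x.injective y.injective
    ⟨g, Function.Embedding.ext g2⟩⟩

theorem kt_top_of_multi' {k : ℕ} (h : IsMultiplyPretransitive G Ω k) (hk : k ≤ ENat.card Ω) :
    KT Ω (⊤ : Subgroup G) k := by
  intro s hs a ha b hb
  have h1 := is_one_pretransitive_iff.1
    (SubMulAction.ofFixingSubgroup.isMultiplyPretransitive' (G := G) (m := 1) (s : Set Ω)
      (by rwa [Set.ncard_coe_finset]) hk)
  obtain ⟨g, hg⟩ := h1.exists_smul_eq ⟨a, ha⟩ ⟨b, hb⟩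
  exact ⟨g, mem_top _, fun x hx => g.2 ⟨x, hx⟩, congrArg Subtype.val hg⟩

theorem kt_top_iff {H : Subgroup G} {k : ℕ} : KT Ω (⊤ : Subgroup H) k ↔ KT Ω H k :=
  ⟨fun h s hs a ha b hb => let ⟨g, _, g2⟩ := h s hs a ha b hb; ⟨g, g.2, g2⟩,
    fun h s hs a ha b hb => let ⟨g, g1, g2⟩ := h s hs a ha b hb; ⟨⟨g, g1⟩, mem_top _, g2⟩⟩

theorem kt_map_subtype {H : Subgroup G} {K : Subgroup H} {k : ℕ} :
    KT Ω (K.map H.subtype) k ↔ KT Ω K k :=
  ⟨fun h s hs a ha b hb => let ⟨_, ⟨g, g1, rfl⟩, g2⟩ := h s hs a ha b hb; ⟨g, g1, g2⟩,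
    fun h s hs a ha b hb => let ⟨g, g1, g2⟩ := h s hs a ha b hb; ⟨g, ⟨g, g1, rfl⟩, g2⟩⟩

theorem kt_top_of_multi [Finite Ω] {k : ℕ} (h : IsMultiplyPretransitive G Ω k)
    (hk : k ≤ Nat.card Ω) : KT Ω (⊤ : Subgroup G) k :=
  kt_top_of_multi' h (by rw [ENat.card_eq_coe_natCard]; exact_mod_cast hk)

theorem kt_of_multi [Finite Ω] {H : Subgroup G} {k : ℕ} (h : IsMultiplyPretransitive H Ω k)
    (hk : k ≤ Nat.card Ω) : KT Ω H k := kt_top_iff.1 (kt_top_of_multi h hk)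

theorem kt_one_iff {H : Subgroup G} : KT Ω H 1 ↔ ∀ a b : Ω, ∃ g ∈ H, g • a = b :=
  ⟨fun h a b => let ⟨g, g1, _, g2⟩ := h ∅ (by simp) a (by simp) b (by simp); ⟨g, g1, g2⟩,
    fun h s hs a _ b _ => let ⟨g, g1, g2⟩ := h a b; ⟨g, g1, by
      rw [Finset.card_eq_zero.1 (Nat.lt_one_iff.1 hs)]; simp, g2⟩⟩

theorem kt_one_iff' {H : Subgroup G} : KT Ω H 1 ↔ IsPretransitive H Ω :=
  kt_one_iff.trans ⟨fun h => ⟨fun a b => let ⟨g, g1, g2⟩ := h a b; ⟨⟨g, g1⟩, g2⟩⟩,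
    fun h a b => let ⟨g, g2⟩ := h.exists_smul_eq a b; ⟨g, g.2, g2⟩⟩

theorem kt_one_top [IsPretransitive G Ω] : KT Ω (⊤ : Subgroup G) 1 :=
  kt_one_iff.2 fun a b => let ⟨g, g2⟩ := exists_smul_eq G a b; ⟨g, mem_top _, g2⟩

theorem KT.trans {H : Subgroup G} {k : ℕ} (h : KT Ω H k) (hk : 1 ≤ k) (a b : Ω) :
    ∃ g ∈ H, g • a = b := kt_one_iff.1 (h.of_le hk) a b

theorem KT.succ {H : Subgroup G} {k : ℕ} (h : KT Ω H k) (s : Finset Ω) (hs : s.card = k)
    (h1 : ∀ a ∉ s, ∀ b ∉ s, ∃ g ∈ H, (∀ x ∈ s, g • x = x) ∧ g • a = b) : KT Ω H (k + 1) := by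
  classical
  intro t ht a ha b hb
  rcases (Nat.lt_succ_iff.1 ht).lt_or_eq with ht | ht
  · exact h t ht a ha b hb
  obtain ⟨u, u1, u2⟩ := h.exists_fun (ι := t) (by simp [ht]) Subtype.val_injective
    (y := fun i => (Finset.equivOfCardEq (ht.trans hs.symm) i : Ω))
    (Subtype.val_injective.comp (Equiv.injective _))
  have k1 : ∀ c ∉ t, u • c ∉ s := fun c hc e => by
    have := u2 ((Finset.equivOfCardEq (ht.trans hs.symm)).symm ⟨_, e⟩)
    rw [Equiv.apply_symm_apply, smul_left_cancel_iff] at this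
    exact hc (this ▸ Subtype.property _)
  obtain ⟨g, g1, g2, g3⟩ := h1 _ (k1 a ha) _ (k1 b hb)
  refine ⟨u⁻¹ * g * u, mul_mem (mul_mem (inv_mem u1) g1) u1, fun x hx => ?_, ?_⟩
  · rw [mul_smul, mul_smul, g2 _ ((u2 ⟨x, hx⟩).symm ▸ Subtype.property _), inv_smul_smul]
  · rw [mul_smul, mul_smul, g3, inv_smul_smul]

theorem KT.two {H : Subgroup G} {k : ℕ} (h : KT Ω H k) (hk : 2 ≤ k) {a b c d : Ω} (h1 : a ≠ b)
    (h2 : c ≠ d) : ∃ g ∈ H, g • a = c ∧ g • b = d := by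
  obtain ⟨g, g1, g2⟩ := h.exists_fun (ι := Fin 2) (by simpa) (x := ![a, b]) (y := ![c, d])
    (List.nodup_ofFn.1 (by simp [*])) (List.nodup_ofFn.1 (by simp [*]))
  exact ⟨g, g1, g2 0, g2 1⟩

theorem KT.three {H : Subgroup G} {k : ℕ} (h : KT Ω H k) (hk : 3 ≤ k) {a b c a' b' c' : Ω}
    (h1 : a ≠ b) (h2 : a ≠ c) (h3 : b ≠ c) (h4 : a' ≠ b') (h5 : a' ≠ c') (h6 : b' ≠ c') :
    ∃ g ∈ H, g • a = a' ∧ g • b = b' ∧ g • c = c' := by
  obtain ⟨g, g1, g2⟩ := h.exists_fun (ι := Fin 3) (by simpa) (x := ![a, b, c]) (y := ![a', b', c'])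
    (List.nodup_ofFn.1 (by simp [*])) (List.nodup_ofFn.1 (by simp [*]))
  exact ⟨g, g1, g2 0, g2 1, g2 2⟩

theorem KT.four {H : Subgroup G} {k : ℕ} (h : KT Ω H k) (hk : 4 ≤ k) {a b c d a' b' c' d' : Ω}
    (h1 : a ≠ b) (h2 : a ≠ c) (h3 : a ≠ d) (h4 : b ≠ c) (h5 : b ≠ d) (h6 : c ≠ d)
    (k1 : a' ≠ b') (k2 : a' ≠ c') (k3 : a' ≠ d') (k4 : b' ≠ c') (k5 : b' ≠ d') (k6 : c' ≠ d') :
    ∃ g ∈ H, g • a = a' ∧ g • b = b' ∧ g • c = c' ∧ g • d = d' := by
  obtain ⟨g, g1, g2⟩ := h.exists_fun (ι := Fin 4) (by simpa) (x := ![a, b, c, d])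
    (y := ![a', b', c', d']) (List.nodup_ofFn.1 (by simp [*])) (List.nodup_ofFn.1 (by simp [*]))
  exact ⟨g, g1, g2 0, g2 1, g2 2, g2 3⟩

theorem kt_two_iff {H : Subgroup G} (h : KT Ω H 1) :
    KT Ω H 2 ↔ ∀ a b c : Ω, b ≠ a → c ≠ a → ∃ g ∈ H, g • a = a ∧ g • b = c := by
  refine ⟨fun h a b c h1 h2 => h.two le_rfl h1.symm h2.symm, fun h1 s hs a ha b hb => ?_⟩
  rcases (Nat.lt_succ_iff.1 hs).lt_or_eq with hs | hs
  · exact h s hs a ha b hb
  · obtain ⟨c, rfl⟩ := Finset.card_eq_one.1 hs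
    simpa using h1 c a b (by simpa using ha) (by simpa using hb)

theorem KT.two_of {H : Subgroup G} (h : KT Ω H 1) (a : Ω)
    (h1 : ∀ b c : Ω, b ≠ a → c ≠ a → ∃ g ∈ H, g • a = a ∧ g • b = c) : KT Ω H 2 :=
  h.succ {a} (Finset.card_singleton a) fun b hb c hc => by
    simpa using h1 b c (by simpa using hb) (by simpa using hc)

theorem KT.three_of {H : Subgroup G} (h : KT Ω H 2) {a b : Ω} (hab : a ≠ b)
    (h1 : ∀ c d : Ω, c ≠ a → c ≠ b → d ≠ a → d ≠ b →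
      ∃ g ∈ H, g • a = a ∧ g • b = b ∧ g • c = d) : KT Ω H 3 := by
  classical
  refine h.succ {a, b} (Finset.card_pair hab) fun c hc d hd => ?_
  simp only [Finset.mem_insert, Finset.mem_singleton, not_or] at hc hd
  simpa [and_assoc] using h1 c d hc.1 hc.2 hd.1 hd.2

theorem kt_two_top_iff [IsPretransitive G Ω] :
    IsMultiplyPretransitive G Ω 2 ↔ KT Ω (⊤ : Subgroup G) 2 :=
  ⟨fun h => (kt_two_iff kt_one_top).2 fun _ _ _ h1 h2 =>
    let ⟨g, g1⟩ := is_two_pretransitive_iff.1 h h1.symm h2.symm; ⟨g, mem_top _, g1⟩, KT.multi_top⟩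

theorem exists_notMem_of_card_lt [Finite Ω] {s : Finset Ω} (h : s.card < Nat.card Ω) :
    ∃ a, a ∉ s := by
  have := Fintype.ofFinite Ω
  exact Finset.exists_mem_notMem_of_card_lt_card (t := Finset.univ) (by simpa using h) |>.imp
    fun _ h => h.2

theorem exists_ne_two [Finite Ω] (h : 3 ≤ Nat.card Ω) (a b : Ω) : ∃ c, c ≠ a ∧ c ≠ b := by
  classical
  simpa using exists_notMem_of_card_lt (s := {a, b}) (Finset.card_le_two.trans_lt h)

theorem exists_ne_three [Finite Ω] (h : 4 ≤ Nat.card Ω) (a b c : Ω) :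
    ∃ d, d ≠ a ∧ d ≠ b ∧ d ≠ c := by
  classical
  simpa using exists_notMem_of_card_lt (s := {a, b, c}) (Finset.card_le_three.trans_lt h)

theorem exists_ne_four [Finite Ω] (h : 5 ≤ Nat.card Ω) (a b c d : Ω) :
    ∃ e, e ≠ a ∧ e ≠ b ∧ e ≠ c ∧ e ≠ d := by
  classical
  simpa using exists_notMem_of_card_lt (s := {a, b, c, d}) (Finset.card_le_four.trans_lt h)

theorem eq_one_of_smul [FaithfulSMul G Ω] {g : G} (h : ∀ x : Ω, g • x = x) : g = 1 :=
  eq_of_smul_eq_smul (α := Ω) fun x => by rw [h, one_smul]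

theorem exists_smul_ne [FaithfulSMul G Ω] {g : G} (h : g ≠ 1) : ∃ x : Ω, g • x ≠ x := by
  by_contra h1; push Not at h1; exact h (eq_one_of_smul h1)

theorem stab_bot_iff {H : Subgroup G} {a : Ω} :
    stabilizer H a = ⊥ ↔ ∀ g ∈ H, g • a = a → g = 1 :=
  (eq_bot_iff_forall _).trans ⟨fun h g hg e => congrArg Subtype.val (h ⟨g, hg⟩ e),
    fun h g e => Subtype.ext (h g g.2 e)⟩

theorem stab_emb_bot_iff {ι : Type*} {x : ι ↪ Ω} :
    stabilizer G x = ⊥ ↔ ∀ g : G, (∀ i, g • x i = x i) → g = 1 :=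
  (eq_bot_iff_forall _).trans ⟨fun h g e => h g (Function.Embedding.ext e),
    fun h g e => h g fun i => congrArg (fun y : ι ↪ Ω => y i) e⟩

/-- a subgroup centralizing a transitive subgroup is semiregular -/
theorem eq_one_of_centralizes [FaithfulSMul G Ω] {H : Subgroup G} (h : KT Ω H 1) {c : G}
    (hc : c ∈ centralizer (H : Set G)) {a : Ω} (e : c • a = a) : c = 1 :=
  eq_one_of_smul (Ω := Ω) fun x => by
    obtain ⟨g, g1, rfl⟩ := h.trans le_rfl a x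
    rw [← mul_smul, ← hc g g1, mul_smul, e]

theorem kt_one_of_normal [FaithfulSMul G Ω] [IsPreprimitive G Ω] {N : Subgroup G} [N.Normal]
    (h : N ≠ ⊥) : KT Ω N 1 := by
  refine kt_one_iff'.2 (IsQuasiPreprimitive.isPretransitive_of_normal fun e => h ?_)
  exact (eq_bot_iff_forall _).2 fun g hg => eq_one_of_smul (Ω := Ω) fun x =>
    (e.ge (Set.mem_univ x) : x ∈ fixedPoints N Ω) ⟨g, hg⟩

theorem card_stab_mul (H : Subgroup G) (a : Ω) :
    Nat.card ↥(H ⊓ stabilizer G a) * Nat.card (orbit H a) = Nat.card H := by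
  rw [Nat.card_coe_set_eq, ← index_stabilizer, inf_comm, ← Core.card_subgroupOf]
  exact card_mul_index _

theorem orbit_eq_univ' {H : Subgroup G} (h : KT Ω H 1) (a : Ω) : orbit H a = Set.univ :=
  have := kt_one_iff'.1 h
  orbit_eq_univ H a

theorem card_stab_mul_of_kt {H : Subgroup G} (h : KT Ω H 1) (a : Ω) :
    Nat.card ↥(H ⊓ stabilizer G a) * Nat.card Ω = Nat.card H := by
  rw [← card_stab_mul H a, orbit_eq_univ' h, Nat.card_coe_set_eq, Set.ncard_univ]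

theorem kt_one_of_card [Finite G] [Finite Ω] {H : Subgroup G} (a : Ω)
    (h : Nat.card ↥(H ⊓ stabilizer G a) * Nat.card Ω ≤ Nat.card H) : KT Ω H 1 := by
  rw [← card_stab_mul H a] at h
  have h1 := Nat.le_of_mul_le_mul_left h Nat.card_pos
  rw [kt_one_iff', isPretransitive_iff_orbit_eq_univ a]
  exact Set.eq_of_subset_of_ncard_le (Set.subset_univ _) (by rwa [Set.ncard_univ])

theorem sup_stab_eq_top {N : Subgroup G} (h : KT Ω N 1) (a : Ω) : N ⊔ stabilizer G a = ⊤ :=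
  eq_top_iff.2 fun g _ => by
    obtain ⟨n, n1, n2⟩ := h.trans le_rfl a (g • a)
    rw [← mul_inv_cancel_left n g]
    exact mul_mem_sup n1 (by rw [mem_stabilizer_iff, mul_smul, ← n2, inv_smul_smul])

theorem exists_mul_stab {N : Subgroup G} (h : KT Ω N 1) (a : Ω) (g : G) :
    ∃ n ∈ N, ∃ u, u • a = a ∧ g = n * u := by
  obtain ⟨n, n1, n2⟩ := h.trans le_rfl a (g • a)
  exact ⟨n, n1, n⁻¹ * g, by rw [mul_smul, ← n2, inv_smul_smul], by group⟩

/-- the Sylow subgroups of a transitive group of prime power degree are transitive -/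
theorem sylow_kt [Finite G] [Finite Ω] {p f : ℕ} [hp : Fact p.Prime] [IsPretransitive G Ω]
    (h : Nat.card Ω = p ^ f) (P : Sylow p G) : KT Ω (P : Subgroup G) 1 := by
  have : Nonempty Ω := (Nat.card_pos_iff.1 (h ▸ pow_pos hp.out.pos f)).1
  obtain ⟨a⟩ := this
  refine kt_one_of_card a (Nat.le_of_dvd Nat.card_pos ?_)
  obtain ⟨n, hn⟩ := (P.2.to_le (inf_le_left (b := stabilizer G a))).exists_card_eq
  rw [hn, h, ← pow_add, P.card_eq_multiplicity]
  refine pow_dvd_pow _ ((Nat.Prime.pow_dvd_iff_le_factorization hp.out Nat.card_pos.ne').1 ?_)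
  rw [← card_top, ← card_stab_mul_of_kt kt_one_top a, pow_add, h, ← hn]
  exact Nat.mul_dvd_mul_right (card_dvd_of_le (inf_le_inf_right _ le_top)) _

theorem prim_iff_coatom [IsPretransitive G Ω] [Nontrivial Ω] (a : Ω) :
    IsPreprimitive G Ω ↔ ∀ K : Subgroup G, stabilizer G a ≤ K → K = stabilizer G a ∨ K = ⊤ := by
  rw [← isCoatom_stabilizer_iff_preprimitive G a]
  refine ⟨fun h K hK => (h.le_iff.1 hK).symm, fun h => ⟨fun e => ?_, fun K hK =>
    (h K hK.le).resolve_left hK.ne'⟩⟩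
  obtain ⟨b, hb⟩ := exists_ne a
  obtain ⟨g, rfl⟩ := exists_smul_eq G a b
  exact hb (e.ge (mem_top g))

theorem gen_ext {α : Type*} [Fintype α] [DecidableEq α] {G : Subgroup (Equiv.Perm α)} {k : ℕ}
    (hk : k < Fintype.card α) (hgen : ∀ s : Finset α, s.card = k + 1 → ∀ σ : Equiv.Perm s,
      ∃ g ∈ G, ∀ x : s, g (x : α) = σ x) {t : Finset α} (ht : t.card ≤ k + 1) {σ : Equiv.Perm α}
    (h : ∀ x ∉ t, σ x = x) : ∃ g ∈ G, ∀ x ∈ t, g x = σ x := by
  obtain ⟨u, u1, -, u2⟩ := Finset.exists_subsuperset_card_eq (Finset.subset_univ t) ht hk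
  obtain ⟨g, g1, g2⟩ := hgen u u2 (σ.subtypePerm fun x => by
    by_cases e : σ x = x
    · rw [e]
    · exact iff_of_true (u1 (by_contra fun e' => e (σ.injective (h _ e'))))
        (u1 (by_contra fun e' => e (h _ e'))))
  exact ⟨g, g1, fun x hx => g2 ⟨x, u1 hx⟩⟩

theorem gen_kt {α : Type*} [Fintype α] [DecidableEq α] {G : Subgroup (Equiv.Perm α)} {k : ℕ}
    (hk : k < Fintype.card α) (hgen : ∀ s : Finset α, s.card = k + 1 → ∀ σ : Equiv.Perm s,
      ∃ g ∈ G, ∀ x : s, g (x : α) = σ x) : KT α G k := fun s hs a ha b hb => by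
  obtain ⟨g, g1, g2⟩ := gen_ext hk hgen (t := insert a (insert b s)) (σ := Equiv.swap a b)
    ((Finset.card_insert_le _ _).trans (Nat.succ_le_succ ((Finset.card_insert_le _ _).trans hs)))
    fun x hx => by
      simp only [Finset.mem_insert, not_or] at hx
      exact Equiv.swap_apply_of_ne_of_ne hx.1 hx.2.1
  exact ⟨g, g1, fun x hx => (g2 x (by simp [hx])).trans (Equiv.swap_apply_of_ne_of_ne
    (fun e => ha (e ▸ hx)) fun e => hb (e ▸ hx)), (g2 a (by simp)).trans (Equiv.swap_apply_left a b)⟩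

/-- in a generously `k`-transitive group every permutation of a `k`-set extends fixing any given
further point -/
theorem gen_fix {α : Type*} [Fintype α] [DecidableEq α] {G : Subgroup (Equiv.Perm α)} {k : ℕ}
    (hk : k < Fintype.card α) (hgen : ∀ s : Finset α, s.card = k + 1 → ∀ σ : Equiv.Perm s,
      ∃ g ∈ G, ∀ x : s, g (x : α) = σ x) {s : Finset α} (hs : s.card = k) {σ : Equiv.Perm α}
    (h : ∀ x, σ x ∈ s ↔ x ∈ s) {b : α} (hb : b ∉ s) :
    ∃ g ∈ G, (∀ x ∈ s, g x = σ x) ∧ g b = b := by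
  obtain ⟨g, g1, g2⟩ := gen_ext hk hgen (t := insert b s)
    (σ := Equiv.Perm.ofSubtype (σ.subtypePerm h)) ((Finset.card_insert_le _ _).trans (by omega))
    fun x hx => Equiv.Perm.ofSubtype_apply_of_not_mem _ fun e => hx (by simp [e])
  exact ⟨g, g1, fun x hx => (g2 x (by simp [hx])).trans (Equiv.Perm.ofSubtype_apply_of_mem _ hx),
    (g2 b (by simp)).trans (Equiv.Perm.ofSubtype_apply_of_not_mem _ hb)⟩

theorem hom_iff [DecidableEq Ω] {k : ℕ} : IsPretransitive G (Set.powersetCard Ω k) ↔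
    ∀ s t : Finset Ω, s.card = k → t.card = k → ∃ g : G, g • s = t :=
  ⟨fun h s t hs ht => let ⟨g, hg⟩ := h.exists_smul_eq ⟨s, hs⟩ ⟨t, ht⟩; ⟨g, congrArg Subtype.val hg⟩,
    fun h => ⟨fun s t => let ⟨g, hg⟩ := h s t s.2 t.2; ⟨g, Subtype.ext hg⟩⟩⟩

end Cfsg.Agent.Perm
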