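import Cfsg.Agent.Perm.Basic
import Cfsg.Agent.Core.Primitive
import Cfsg.Agent.Char.TI
import Mathlib.GroupTheory.Perm.Cycle.PossibleTypes

/-! Normal subgroups of multiply transitive groups. -/

set_option autoImplicit false

namespace Cfsg.Agent.Perm

open Subgroup MulAction SubMulAction
open scoped Pointwise

variable {G Ω : Type*} [Group G] [MulAction G Ω]

theorem ncard_modEq [Finite Ω] {p : ℕ} [Fact p.Prime] {P : Subgroup G} (hP : IsPGroup p P)
    {O : Set Ω} (h : ∀ g ∈ P, ∀ x ∈ O, g • x ∈ O) :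
    O.ncard ≡ (O ∩ fixedPoints P Ω).ncard [MOD p] := by
  let S : SubMulAction P Ω := ⟨O, fun g x hx => h g g.2 x hx⟩
  have := hP.card_modEq_card_fixedPoints S
  rw [Nat.card_coe_set_eq, ← Set.ncard_image_of_injective _ Subtype.val_injective] at this
  rwa [show O ∩ fixedPoints P Ω = Subtype.val '' fixedPoints P S from Set.ext fun x =>
    ⟨fun h => ⟨⟨x, h.1⟩, fun g => Subtype.ext (h.2 g), rfl⟩,
      by rintro ⟨y, hy, rfl⟩; exact ⟨y.2, fun g => congrArg Subtype.val (hy g)⟩⟩]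

theorem exists_fixed_of_not_dvd [Finite Ω] {p : ℕ} [Fact p.Prime] {P : Subgroup G}
    (hP : IsPGroup p P) {O : Set Ω} (h : ∀ g ∈ P, ∀ x ∈ O, g • x ∈ O) (hd : ¬ p ∣ O.ncard) :
    ∃ x ∈ O, ∀ g ∈ P, g • x = x := by
  by_contra e
  refine hd ((Nat.modEq_zero_iff_dvd.1 ((ncard_modEq hP h).trans ?_)))
  rw [Set.eq_empty_of_forall_notMem (s := O ∩ fixedPoints P Ω) fun x hx => e ⟨x, hx.1, fun g hg => hx.2 ⟨g, hg⟩⟩,
    Set.ncard_empty]

theorem gleason [Finite Ω] {p k : ℕ} (hp : p.Prime) (hkn : k < Nat.card Ω)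
    (h : ∀ s : Finset Ω, s.card = k → ∃ P : Subgroup G, IsPGroup p P ∧ fixedPoints P Ω = s) :
    KT Ω (⊤ : Subgroup G) k := by
  classical
  have := Fact.mk hp
  have := Fintype.ofFinite Ω
  intro s hs a ha b hb
  by_contra hn
  set O := orbit (fixingSubgroup G (s : Set Ω)) a
  have hab : b ∉ O := fun ⟨g, hg⟩ => hn ⟨g, mem_top _, fun x hx => g.2 ⟨x, hx⟩, hg⟩
  have h1 : a ≠ b := fun e => hab (e ▸ mem_orbit_self a)
  obtain ⟨t, t1, t2, t3⟩ := Finset.exists_subsuperset_card_eq (s := s) (t := {a, b}ᶜ) (n := k - 1)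
    (fun x hx => by
      simp only [Finset.mem_compl, Finset.mem_insert, Finset.mem_singleton, not_or]
      exact ⟨fun e => ha (e ▸ hx), fun e => hb (e ▸ hx)⟩) (by omega) (by
      rw [Finset.card_compl, Finset.card_pair h1, ← Nat.card_eq_fintype_card]; omega)
  have k1 : ∀ c ∉ t, O.ncard ≡ (O ∩ insert c t).ncard [MOD p] := fun c hc => by
    obtain ⟨P, p1, p2⟩ := h (insert c t) (by rw [Finset.card_insert_of_notMem hc]; omega)
    rw [← Finset.coe_insert, ← p2]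
    refine ncard_modEq p1 ?_
    rintro g hg _ ⟨u, rfl⟩
    exact ⟨⟨g, fun x => (p2.ge (by simp [t1 x.2]) : (x : Ω) ∈ fixedPoints P Ω) ⟨g, hg⟩⟩ * u,
      mul_smul _ _ _⟩
  have a1 : a ∉ t := fun e => by simpa using t2 e
  have a2 := (k1 a a1).symm.trans (k1 b fun e => by simpa using t2 e)
  rw [Set.inter_insert_of_mem (mem_orbit_self a), Set.inter_insert_of_notMem hab,
    Set.ncard_insert_of_notMem fun e => a1 e.2] at a2
  exact hp.one_lt.ne' (Nat.dvd_one.1 (by simpa using (Nat.modEq_iff_dvd' (Nat.le_succ _)).1 a2.symm))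

theorem prim_block {s : Set Ω} (h : IsPreprimitive (fixingSubgroup G s) (ofFixingSubgroup G s))
    {B : Set Ω} (h1 : ∀ x ∈ B, x ∉ s)
    (h2 : ∀ g : G, (∀ x ∈ s, g • x = x) → ∀ x ∈ B, g • x ∈ B → ∀ y ∈ B, g • y ∈ B) :
    B.Subsingleton ∨ B = sᶜ := by
  have k : ∀ (g : fixingSubgroup G s) (x : ofFixingSubgroup G s), x.1 ∈ B → (g • x).1 ∈ B →
      ∀ y : ofFixingSubgroup G s, y.1 ∈ B → (g • y).1 ∈ B := fun g x a1 a2 y a3 =>
    h2 g (fun x hx => g.2 ⟨x, hx⟩) x a1 a2 y a3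
  rcases h.isTrivialBlock_of_isBlock (B := Subtype.val ⁻¹' B) (isBlock_iff_smul_eq_of_mem.2
    fun {g x} a1 a2 => Set.Subset.antisymm (by rintro _ ⟨y, hy, rfl⟩; exact k g x a1 a2 y hy)
      fun y hy => Set.mem_smul_set_iff_inv_smul_mem.2
        (k g⁻¹ _ a2 (by rwa [inv_smul_smul]) y hy)) with e | e
  · exact Or.inl fun x hx y hy => congrArg Subtype.val (e (x := ⟨x, h1 x hx⟩) hx (y := ⟨y, h1 y hy⟩) hy)
  · exact Or.inr (Set.Subset.antisymm h1 fun x hx => e.ge (Set.mem_univ (⟨x, hx⟩ :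
      ofFixingSubgroup G s)))

theorem prim_block' {k : ℕ} (h : IsMultiplyPreprimitive G Ω k) {s : Finset Ω} (hs : s.card + 1 = k)
    {B : Set Ω} (h1 : ∀ x ∈ B, x ∉ s)
    (h2 : ∀ g : G, (∀ x ∈ s, g • x = x) → ∀ x ∈ B, g • x ∈ B → ∀ y ∈ B, g • y ∈ B) :
    B.Subsingleton ∨ B = (s : Set Ω)ᶜ :=
  prim_block (IsMultiplyPreprimitive.isPreprimitive_ofFixingSubgroup G k (by
    rw [Set.encard_coe_eq_coe_finsetCard]; exact_mod_cast hs)) h1 h2

/-- the Frobenius kernel -/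
theorem exists_kernel [Finite G] {H : Subgroup G} (h : KT Ω H 1) (a : Ω)
    (h2 : ∀ g ∈ H, ∀ b, b ≠ a → g • a = a → g • b = b → g = 1) :
    ∃ N : Subgroup G, (∀ g, g ∈ N ↔ g ∈ H ∧ (g = 1 ∨ ∀ x : Ω, g • x ≠ x)) ∧ KT Ω N 1 := by
  obtain ⟨N, -, n2, n3⟩ := Char.frobenius_kernel (stabilizer H a) fun g hg u hu e =>
    Subtype.ext (h2 u u.2 (g⁻¹ • a) (fun e' => hg ((inv_mem_iff (x := g)).1 e')) hu (by
      rwa [mem_stabilizer_iff, mul_smul, mul_smul, smul_eq_iff_eq_inv_smul] at e))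
  refine ⟨N.map H.subtype, fun g => ⟨?_, fun ⟨h1, h3⟩ => ⟨⟨g, h1⟩, (n2 _).2
    (h3.imp Subtype.ext fun h4 u e => h4 (u⁻¹ • a) ?_), rfl⟩⟩, kt_map_subtype.2 (kt_one_iff.2 ?_)⟩
  · rintro ⟨g, hg, rfl⟩
    refine ⟨g.2, ((n2 g).1 hg).imp (congrArg Subtype.val) fun h3 x e => ?_⟩
    obtain ⟨u, u1, rfl⟩ := h.trans le_rfl a x
    refine h3 ⟨u, u1⟩⁻¹ ?_
    rw [mem_stabilizer_iff, mul_smul, mul_smul, inv_inv, inv_smul_eq_iff]
    exact e
  · rwa [mem_stabilizer_iff, mul_smul, mul_smul, smul_eq_iff_eq_inv_smul] at e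
  · have k : ∀ b, ∃ g ∈ N, g • a = b := fun b => by
      obtain ⟨u, u1, rfl⟩ := h.trans le_rfl a b
      obtain ⟨n, n1, v, v1, e⟩ := Core.exists_mul_of_isComplement' n3 ⟨u, u1⟩
      exact ⟨n, n1, by rw [show u • a = (⟨u, u1⟩ : H) • a from rfl, ← e, mul_smul, v1]⟩
    intro b c
    obtain ⟨g, g1, rfl⟩ := k b
    obtain ⟨u, u1, rfl⟩ := k c
    exact ⟨u * g⁻¹, mul_mem u1 (inv_mem g1), by rw [mul_smul, inv_smul_smul]⟩

theorem kernel_normal {H N : Subgroup G} [hH : H.Normal]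
    (h : ∀ g, g ∈ N ↔ g ∈ H ∧ (g = 1 ∨ ∀ x : Ω, g • x ≠ x)) : N.Normal :=
  ⟨fun n hn g => (h _).2 ⟨hH.conj_mem n ((h n).1 hn).1 g, ((h n).1 hn).2.imp (by simp)
    fun h1 x e => h1 (g⁻¹ • x) (by
      rwa [mul_smul, mul_smul, smul_eq_iff_eq_inv_smul] at e)⟩⟩

theorem kernel_reg {H N : Subgroup G}
    (h : ∀ g, g ∈ N ↔ g ∈ H ∧ (g = 1 ∨ ∀ x : Ω, g • x ≠ x)) :
    ∀ g ∈ N, ∀ a : Ω, g • a = a → g = 1 := fun g hg a e =>
  ((h g).1 hg).2.resolve_right fun h1 => h1 a e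

theorem reg_inj {N : Subgroup G} {a : Ω} (h : ∀ g ∈ N, g • a = a → g = 1) {x y : G} (hx : x ∈ N)
    (hy : y ∈ N) (e : x • a = y • a) : x = y :=
  inv_mul_eq_one.1 (h _ (mul_mem (inv_mem hx) hy) (by rw [mul_smul, ← e, inv_smul_smul]))

theorem reg_card {N : Subgroup G} (h1 : KT Ω N 1) {a : Ω} (h : ∀ g ∈ N, g • a = a → g = 1) :
    Nat.card N = Nat.card Ω := by
  rw [← card_stab_mul_of_kt h1 a, (eq_bot_iff_forall (N ⊓ stabilizer G a)).2 fun g hg => h g hg.1 hg.2,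
    card_bot,
    one_mul]

theorem conj_smul_of_fix {g n : G} {a : Ω} (h : g • a = a) : (g * n * g⁻¹) • a = g • n • a := by
  rw [mul_smul, mul_smul, inv_smul_eq_iff.2 h.symm]

theorem two_prim_reg [Finite Ω] (h2 : IsMultiplyPreprimitive G Ω 2) {N : Subgroup G} [hN : N.Normal]
    {a : Ω} (hr : ∀ g ∈ N, g • a = a → g = 1) : Nat.card Ω = 3 ∨ ∀ n ∈ N, n ^ 2 = 1 := by
  classical
  refine or_iff_not_imp_right.2 fun h => ?_
  push Not at h
  obtain ⟨n, n1, n2⟩ := h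
  have a1 : n • a ≠ n⁻¹ • a := fun e => n2 (by
    rw [sq, ← eq_inv_iff_mul_eq_one]; exact reg_inj hr n1 (inv_mem n1) e)
  have a2 : n • a ≠ a := fun e => n2 (by rw [hr n n1 e, one_pow])
  have a3 : n⁻¹ • a ≠ a := fun e => a2 (inv_smul_eq_iff.1 e).symm
  rcases prim_block' h2 (s := {a}) rfl (B := {n • a, n⁻¹ • a}) (by simp [a2, a3]) (by
    intro g hg
    have k : ∀ {m m' : G}, m ∈ N → m' ∈ N → g • m • a = m' • a → g • m⁻¹ • a = m'⁻¹ • a :=
      fun h1 h2 e => by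
        rw [← conj_smul_of_fix (hg a (by simp))] at e ⊢
        rw [← reg_inj hr (hN.conj_mem _ h1 g) h2 e, conj_inv]
    have k1 := @k n n n1 n1
    have k2 := @k n n⁻¹ n1 (inv_mem n1)
    have k3 := @k n⁻¹ n (inv_mem n1) n1
    have k4 := @k n⁻¹ n⁻¹ (inv_mem n1) (inv_mem n1)
    simp only [inv_inv] at k2 k3 k4
    simp only [Set.mem_insert_iff, Set.mem_singleton_iff, forall_eq_or_imp, forall_eq]
    tauto) with e | e
  · exact absurd (e (by simp) (by simp)) a1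
  · rw [← Set.ncard_add_ncard_compl ({a} : Finset Ω), ← e, Set.ncard_pair a1]; simp

theorem three_prim_reg [Finite Ω] (h3 : IsMultiplyPreprimitive G Ω 3) (hc : 3 ≤ Nat.card Ω)
    {N : Subgroup G} [hN : N.Normal] (h1 : KT Ω N 1) {a : Ω} (hr : ∀ g ∈ N, g • a = a → g = 1) :
    Nat.card Ω = 3 ∨ Nat.card Ω = 4 := by
  classical
  refine (two_prim_reg (isMultiplyPreprimitive_of_le G Ω h3 (by norm_num)
    (by rw [ENat.card_eq_coe_natCard]; exact_mod_cast hc)) hr).imp_right fun h => ?_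
  obtain ⟨b, hb, -⟩ := exists_ne_two hc a a
  obtain ⟨c, c1, c2⟩ := exists_ne_two hc a b
  obtain ⟨n, n1, rfl⟩ := h1.trans le_rfl a b
  have n2 : ∀ x : Ω, n • n • x = x := fun x => by rw [← mul_smul, ← sq, h n n1, one_smul]
  have a1 : n • c ≠ c := fun e => by
    obtain ⟨m, m1, rfl⟩ := h1.trans le_rfl a c
    rw [← mul_smul] at e
    exact hb (by rw [mul_eq_right.1 (reg_inj hr (mul_mem n1 m1) m1 e), one_smul])
  have a2 : n • c ≠ a := fun e => c2 (by rw [← e, n2])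
  have a3 : n • c ≠ n • a := fun e => c1 (smul_left_cancel n e)
  rcases prim_block' h3 (s := {a, n • a}) (by rw [Finset.card_pair hb.symm]) (B := {c, n • c})
    (by simp [c1, c2, a2, a3]) (by
    intro g hg
    have k : ∀ x : Ω, g • n • x = n • g • x := fun x => by
      rw [← mul_smul, ← mul_smul, mul_inv_eq_iff_eq_mul.1 (reg_inj hr (hN.conj_mem _ n1 g) n1
        ((conj_smul_of_fix (hg a (by simp))).trans (hg _ (by simp))))]
    simp only [Set.mem_insert_iff, Set.mem_singleton_iff, forall_eq_or_imp, forall_eq, k,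
      smul_left_cancel_iff]
    have k2 : n • g • c = c ↔ g • c = n • c :=
      ⟨fun e => by rw [← n2 (g • c), e], fun e => by rw [e, n2]⟩
    tauto) with e | e
  · exact absurd (e (by simp) (by simp)) a1
  · rw [← Set.ncard_add_ncard_compl ({a, n • a} : Finset Ω), ← e, Set.ncard_pair a1.symm,
      Set.ncard_coe_finset, Finset.card_pair hb.symm]

theorem KT.fixing {H : Subgroup G} {t : Finset Ω} {m : ℕ} (h : KT Ω H (t.card + m)) :
    KT (ofFixingSubgroup G (t : Set Ω)) (H.subgroupOf (fixingSubgroup G (t : Set Ω))) m := by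
  classical
  intro s hs a ha b hb
  have k : ∀ c : ofFixingSubgroup G (t : Set Ω), c ∉ s → c.1 ∉ t ∪ s.image Subtype.val :=
    fun c hc e => by
      rcases Finset.mem_union.1 e with e | e
      · exact c.2 e
      · obtain ⟨x, hx, e⟩ := Finset.mem_image.1 e
        exact hc (Subtype.ext e ▸ hx)
  obtain ⟨g, g1, g2, g3⟩ := h (t ∪ s.image Subtype.val) ((Finset.card_union_le _ _).trans_lt
    (Nat.add_lt_add_left (Finset.card_image_le.trans_lt hs) _)) a (k a ha) b (k b hb)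
  exact ⟨⟨g, fun x => g2 x (Finset.mem_union_left _ x.2)⟩, g1, fun x hx => Subtype.ext
    (g2 x (Finset.mem_union_right _ (Finset.mem_image_of_mem _ hx))), Subtype.ext g3⟩

theorem card_ofFixing [Finite Ω] (t : Finset Ω) :
    t.card + Nat.card (ofFixingSubgroup G (t : Set Ω)) = Nat.card Ω := by
  rw [← Set.ncard_add_ncard_compl (t : Set Ω), Set.ncard_coe_finset]; rfl

theorem normal_kt [Finite G] [Finite Ω] [FaithfulSMul G Ω] {k : ℕ}
    (hG : IsMultiplyPreprimitive G Ω k) (hn : k + 1 < Nat.card Ω) {H : Subgroup G} [hH : H.Normal]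
    (hnr : ∃ a : Ω, ∃ g ∈ H, g ≠ 1 ∧ g • a = a) : KT Ω H k := by
  classical
  have hc : (k : ℕ∞) ≤ ENat.card Ω := by
    rw [ENat.card_eq_coe_natCard]; exact_mod_cast (by omega : k ≤ Nat.card Ω)
  suffices h : ∀ j ≤ k, KT Ω H j from h k le_rfl
  intro j
  induction j with
  | zero => exact fun _ => kt_zero H
  | succ j ih =>
  intro hj
  have h1 := ih (by omega)
  obtain ⟨s, g, s1, g1, g2, g3⟩ : ∃ (s : Finset Ω) (g : G), s.card = j ∧ g ∈ H ∧ g ≠ 1 ∧
      ∀ x ∈ s, g • x = x := by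
    obtain ⟨a, g, g1, g2, g3⟩ := hnr
    rcases j with _ | _ | j
    · exact ⟨∅, g, rfl, g1, g2, by simp⟩
    · exact ⟨{a}, g, rfl, g1, g2, by simpa⟩
    by_contra e
    have := Fintype.ofFinite Ω
    obtain ⟨t, -, t1⟩ := Finset.exists_subset_card_eq (s := (Finset.univ : Finset Ω)) (n := j)
      (by rw [Finset.card_univ, ← Nat.card_eq_fintype_card]; omega)
    have a1 := card_ofFixing (G := G) t
    have a2 : KT _ _ 2 := KT.fixing (t := t) (by rwa [t1])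
    have : Nonempty (ofFixingSubgroup G (t : Set Ω)) := (Nat.card_pos_iff.1 (by omega)).1
    obtain ⟨b⟩ := this
    obtain ⟨N, n1, n2⟩ := exists_kernel (a2.of_le (by norm_num)) b fun u hu c h1 h2 h3 => by
      by_contra e'
      have b1 : b.1 ∉ t := b.2
      have b2 : c.1 ∉ insert b.1 t := by
        simp only [Finset.mem_insert, not_or]; exact ⟨fun e => h1 (Subtype.ext e), c.2⟩
      refine e ⟨insert c.1 (insert b.1 t), u, by
        rw [Finset.card_insert_of_notMem b2, Finset.card_insert_of_notMem b1, t1], hu,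
        fun e => e' (Subtype.ext e), ?_⟩
      simp only [Finset.mem_insert, forall_eq_or_imp]
      exact ⟨congrArg Subtype.val h3, congrArg Subtype.val h2, fun x hx => u.2 ⟨x, hx⟩⟩
    have := kernel_normal n1
    have := isMultiplyPreprimitive_of_le G Ω hG hj hc
    have := three_prim_reg (ofFixingSubgroup.isMultiplyPreprimitive G Ω (s := (t : Set Ω))
      (n := j + 1 + 1 + 1) (by rw [Set.ncard_coe_finset, t1])) (by omega) n2
      fun g hg => kernel_reg n1 g hg b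
    omega
  obtain ⟨a, ha⟩ := exists_smul_ne (Ω := Ω) g2
  have a1 : a ∉ s := fun e => ha (g3 a e)
  have k1 : ∀ u : G, (∀ x ∈ s, u • x = x) → ∀ b ∉ s, u • b ∉ s := fun u hu b hb e =>
    hb (smul_left_cancel u (hu _ e) ▸ e)
  rcases prim_block' (isMultiplyPreprimitive_of_le G Ω hG hj hc) (s := s) (by rw [s1])
    (B := {b | ∃ u ∈ H, (∀ x ∈ s, u • x = x) ∧ u • a = b})
    (by rintro _ ⟨u, -, u1, rfl⟩; exact k1 u u1 a a1) (by
      rintro v hv _ ⟨u, u1, u2, rfl⟩ ⟨w, w1, w2, w3⟩ _ ⟨y, y1, y2, rfl⟩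
      refine ⟨v * (y * u⁻¹) * v⁻¹ * w, mul_mem (hH.conj_mem _ (mul_mem y1 (inv_mem u1)) v) w1,
        fun x hx => ?_, ?_⟩
      · simp only [mul_smul, w2 x hx, inv_smul_eq_iff.2 (hv x hx).symm,
          inv_smul_eq_iff.2 (u2 x hx).symm, y2 x hx, hv x hx]
      · simp only [mul_smul, w3, inv_smul_smul]) with e | e
  · exact absurd (e ⟨g, g1, g3, rfl⟩ ⟨1, one_mem _, by simp, one_smul _ _⟩) ha
  refine h1.succ s s1 fun b hb c hc => ?_
  obtain ⟨u, u1, u2, rfl⟩ := e.ge hb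
  obtain ⟨w, w1, w2, rfl⟩ := e.ge hc
  exact ⟨w * u⁻¹, mul_mem w1 (inv_mem u1), fun x hx => by
    rw [mul_smul, inv_smul_eq_iff.2 (u2 x hx).symm, w2 x hx], by rw [mul_smul, inv_smul_smul]⟩

theorem exists_fix_of_stab {H : Subgroup G} {a : Ω} (h : stabilizer H a ≠ ⊥) :
    ∃ g ∈ H, g ≠ 1 ∧ g • a = a := by
  rw [Ne, stab_bot_iff] at h
  push Not at h
  obtain ⟨g, g1, g2, g3⟩ := h
  exact ⟨g, g1, g3, g2⟩

theorem comm_of_sq {N : Subgroup G} (h : ∀ n ∈ N, n ^ 2 = 1) : IsMulCommutative N :=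
  ⟨⟨fun a b => Subtype.ext (Commute.of_orderOf_dvd_two (G := N)
    (fun g => orderOf_dvd_of_pow_eq_one (Subtype.ext (h g g.2))) a b ▸ rfl)⟩⟩

theorem jordan_normal [Finite G] [Finite Ω] [FaithfulSMul G Ω] {k : ℕ} (hk : 1 ≤ k)
    (hG : IsMultiplyPretransitive G Ω (k + 1)) (hn : k + 1 < Nat.card Ω) {N : Subgroup G}
    [N.Normal] (hN : N ≠ ⊥) : KT Ω N k ∨ (k = 2 ∧ (∀ n ∈ N, n ^ 2 = 1) ∧
      Nat.card N = Nat.card Ω) := by
  have hc : ((k + 1 : ℕ) : ℕ∞) ≤ ENat.card Ω := by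
    rw [ENat.card_eq_coe_natCard]; exact_mod_cast hn.le
  have h1 := isMultiplyPreprimitive_of_isMultiplyPretransitive_succ G Ω hc
  have hc' : (k : ℕ∞) ≤ ENat.card Ω := le_trans (by exact_mod_cast Nat.le_succ k) hc
  by_cases hr : ∃ a : Ω, ∃ g ∈ N, g ≠ 1 ∧ g • a = a
  · exact Or.inl (normal_kt h1 hn hr)
  have := (is_one_preprimitive_iff G Ω).1 (isMultiplyPreprimitive_of_le G Ω h1 hk hc')
  have h2 : KT Ω N 1 := kt_one_of_normal hN
  obtain ⟨a⟩ : Nonempty Ω := (Nat.card_pos_iff.1 (by omega)).1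
  have h3 : ∀ g ∈ N, g • a = a → g = 1 := fun g h4 h5 => by_contra fun e => hr ⟨a, g, h4, e, h5⟩
  rcases k with _ | _ | _ | k
  · omega
  · exact Or.inl h2
  · exact Or.inr ⟨rfl, (two_prim_reg h1 h3).resolve_left (by omega), reg_card h2 h3⟩
  · have := three_prim_reg (isMultiplyPreprimitive_of_le G Ω h1 (by omega) hc') (by omega) h2 h3
    omega

theorem card_fixing_eq [Finite G] [Finite Ω] {k : ℕ} (h : IsMultiplyPretransitive G Ω k)
    {s t : Finset Ω} (hs : s.card = k) (ht : t.card = k) :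
    Nat.card (fixingSubgroup G (s : Set Ω)) = Nat.card (fixingSubgroup G (t : Set Ω)) := by
  have h1 := h.index_of_fixingSubgroup_mul (s := s) (by rwa [Set.ncard_coe_finset])
  rw [← h.index_of_fixingSubgroup_mul (s := t) (by rwa [Set.ncard_coe_finset])] at h1
  have h2 := (fixingSubgroup G (s : Set Ω)).card_mul_index
  rw [Nat.eq_of_mul_eq_mul_right (Nat.factorial_pos _) h1,
    ← (fixingSubgroup G (t : Set Ω)).card_mul_index] at h2
  exact Nat.eq_of_mul_eq_mul_right (Core.index_pos _) h2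

/-- Neumann's lemma on generously transitive groups -/
theorem generous [Finite G] [Finite Ω] {k p : ℕ} (hp : p.Prime) (hpk : p ≤ k)
    (h : IsMultiplyPretransitive G Ω k) {Γ : Finset Ω} (hΓ : Γ.card = k)
    (hgen : ∀ σ : Equiv.Perm Γ, ∀ b ∉ Γ, ∃ g : G, (∀ x : Γ, g • (x : Ω) = σ x) ∧ g • b = b)
    (f : Fin p → Ω) (hf : ∀ i, f i ∉ Γ)
    (hd : ∀ i j, i ≠ j → f j ∉ orbit (fixingSubgroup G (Γ : Set Ω)) (f i)) :
    ∃ i, p ∣ Nat.card (orbit (fixingSubgroup G (Γ : Set Ω)) (f i)) := by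
  classical
  have := Fact.mk hp
  by_contra hn
  push Not at hn
  set F := fixingSubgroup G (Γ : Set Ω)
  obtain ⟨c, hc⟩ := (Equiv.Perm.exists_with_cycleType_iff Γ (m := {p})).2
    ⟨by simpa [hΓ], by simpa using hp.two_le⟩
  have c1 : orderOf c = p := by rw [← Equiv.Perm.lcm_cycleType, hc]; simp
  have c2 : c.support.card = p := by rw [← Equiv.Perm.sum_cycleType, hc]; simp
  let S := stabilizer G (Γ : Set Ω)
  let ρ : S →* Equiv.Perm Γ := toPermHom S (Γ : Set Ω)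
  have hρ : ∀ (g : S) (x : Γ), (ρ g x : Ω) = (g : G) • (x : Ω) := fun _ _ => rfl
  have mk : ∀ {g : G} {σ : Equiv.Perm Γ}, (∀ x : Γ, g • (x : Ω) = σ x) → g ∈ S := fun {g σ} h1 =>
    Set.eq_of_subset_of_ncard_le (by rintro _ ⟨x, hx, rfl⟩; exact ((h1 ⟨x, hx⟩).symm ▸ (σ _).2 : g • x ∈ Γ))
      (Set.ncard_smul_set g _).ge
  have r1 : Function.Surjective ρ := fun σ => by
    obtain ⟨g, g1, -⟩ := hgen σ _ (hf ⟨0, hp.pos⟩)
    exact ⟨⟨g, mk g1⟩, Equiv.ext fun x => Subtype.ext (g1 x)⟩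
  have r2 : ρ.ker = F.subgroupOf S := by
    ext g
    exact ⟨fun h x => congrArg Subtype.val (congrArg (fun σ : Equiv.Perm Γ => σ x) h),
      fun h => Equiv.ext fun x => Subtype.ext (h x)⟩
  obtain ⟨v, hv⟩ : ∃ v, p ^ v ∣ Nat.card F ∧ ¬ p ^ (v + 1) ∣ Nat.card F :=
    ⟨_, Nat.ordProj_dvd _ p, Nat.pow_succ_factorization_not_dvd Nat.card_pos.ne' hp⟩
  obtain ⟨Q, hQ⟩ := Sylow.exists_subgroup_card_pow_prime (G := (zpowers c).comap ρ) p (n := v + 1) (by
    rw [Core.card_comap_of_surjective r1, r2, Core.card_subgroupOf_of_le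
      (fixingSubgroup_le_stabilizer G _), Nat.card_zpowers, c1, pow_succ]
    first | exact Nat.mul_dvd_mul_right hv.1 p | (rw [mul_comm p]; exact Nat.mul_dvd_mul_right hv.1 p))
  set R := (Q.map ((zpowers c).comap ρ).subtype).map S.subtype
  have q1 : Nat.card R = p ^ (v + 1) := by rw [card_subtype, card_subtype, hQ]
  have q2 : ∀ i, ∃ x ∈ orbit F (f i), ∀ g ∈ R, g • x = x := fun i =>
    exists_fixed_of_not_dvd (IsPGroup.of_card q1) (by
      rintro _ ⟨g, -, rfl⟩ _ ⟨u, rfl⟩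
      obtain ⟨w, w1, w2⟩ := hgen (ρ (g * ⟨u, fixingSubgroup_le_stabilizer G _ u.2⟩))⁻¹ (f i) (hf i)
      refine ⟨⟨g * u * w, fun x => ?_⟩, ?_⟩
      · rw [mul_smul, w1 x]
        exact (hρ (g * ⟨u, fixingSubgroup_le_stabilizer G _ u.2⟩) _).symm.trans
          (congrArg Subtype.val (Equiv.apply_symm_apply _ _))
      · change ((g : G) * u * w) • f i = _
        rw [mul_smul, w2, mul_smul]; rfl) (hn i)
  choose δ d1 d2 using q2
  have d3 : Function.Injective δ := fun i j e => by_contra fun e' =>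
    hd i j e' (orbit_eq_iff.2 (d1 i) ▸ e ▸ (orbit_eq_iff.2 (d1 j)).symm ▸ mem_orbit_self _)
  have d4 : ∀ i, δ i ∉ Γ := fun i e => by
    obtain ⟨u, hu⟩ := d1 i
    exact hf i (smul_left_cancel u (hu.trans (u.2 ⟨_, e⟩).symm) ▸ e)
  have a1 := card_fixing_eq h (s := c.supportᶜ.image Subtype.val ∪ Finset.univ.image δ) (by
    rw [Finset.card_union_of_disjoint, Finset.card_image_of_injective _ Subtype.val_injective,
      Finset.card_image_of_injective _ d3, Finset.card_compl, c2]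
    · simp [hΓ, hpk]
    · simp only [Finset.disjoint_left, Finset.mem_image]
      rintro _ ⟨x, -, rfl⟩ ⟨i, -, e⟩
      exact d4 i (e ▸ x.2)) hΓ
  refine hv.2 (a1 ▸ q1 ▸ card_dvd_of_le ?_)
  rintro g hg ⟨x, hx⟩
  rcases Finset.mem_union.1 hx with e | e
  · obtain ⟨y, y1, rfl⟩ := Finset.mem_image.1 e
    obtain ⟨u, ⟨w, -, rfl⟩, rfl⟩ := hg
    obtain ⟨m, hm⟩ := w.2
    refine (hρ _ y).symm.trans (congrArg Subtype.val ?_)
    change ρ w y = y
    rw [← hm]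
    exact Equiv.Perm.zpow_apply_eq_self_of_apply_eq_self (by simpa using y1) m
  · obtain ⟨i, -, rfl⟩ := Finset.mem_image.1 e
    exact d2 i g hg

theorem orbit_card_dvd [Finite Ω] {N : Subgroup G} [N.Normal] {s : Finset Ω}
    (h : KT Ω (⊤ : Subgroup G) (s.card + 1)) {x : Ω} (hx : x ∉ s) :
    Nat.card (orbit (fixingSubgroup N (s : Set Ω)) x) ∣ (s : Set Ω)ᶜ.ncard := by
  have h1 := h.fixing
  rw [top_subgroupOf] at h1
  have := is_one_pretransitive_iff.1 h1.multi_top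
  have h2 := (IsBlock.orbit_of_normal (N := N.subgroupOf (fixingSubgroup G (s : Set Ω)))
    (⟨x, hx⟩ : ofFixingSubgroup G (s : Set Ω))).ncard_dvd_card ⟨_, mem_orbit_self _⟩
  rw [← Set.ncard_image_of_injective _ Subtype.val_injective] at h2
  rwa [Nat.card_coe_set_eq, show orbit (fixingSubgroup N (s : Set Ω)) x = Subtype.val ''
    orbit (N.subgroupOf (fixingSubgroup G (s : Set Ω))) (⟨x, hx⟩ : ofFixingSubgroup G (s : Set Ω)) from
    Set.ext fun y => ⟨by rintro ⟨g, rfl⟩; exact ⟨_, ⟨⟨⟨g.1, g.2⟩, g.1.2⟩, rfl⟩, rfl⟩,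
      by rintro ⟨_, ⟨g, rfl⟩, rfl⟩; exact ⟨⟨⟨g.1, g.2⟩, g.1.2⟩, rfl⟩⟩]

end Cfsg.Agent.Perm
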