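import Cfsg.Agent.Perm.Mod
import Cfsg.Agent.Perm.Normal
import Mathlib.GroupTheory.Transfer
import Mathlib.GroupTheory.GroupAction.SubMulAction.Combination

/-! Permutation groups of prime degree. -/

set_option autoImplicit false

namespace Cfsg.Agent.Perm

open Subgroup MulAction
open scoped Pointwise commutatorElement

variable {G Ω K : Type*} [Group G] [MulAction G Ω] [Field K]

theorem three_of_kernels [Fintype Ω] [DecidableEq Ω] (h2 : KT Ω (⊤ : Subgroup G) 2) {t : G}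
    (t1 : t * t = 1) {a c : Ω} (t2 : t • a ≠ a) (t3 : t • c = c)
    (h : ∀ w : Set.powersetCard Ω 2 → Ω → K, (∀ (g : G) s z, w (g • s) (g • z) = w s z) →
      (∀ s, ∑ z, w s z = 0) → ∀ s z z', w s z = w s z') : KT Ω (⊤ : Subgroup G) 3 := by
  classical
  have t4 : t • t • a = a := by rw [← mul_smul, t1, one_smul]
  have c1 : c ≠ a := fun e => t2 (e ▸ t3)
  have c2 : c ≠ t • a := fun e => c1 (by rw [← t3, e, t4])
  let s₀ : Set.powersetCard Ω 2 := ⟨{a, t • a}, Finset.card_pair t2.symm⟩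
  have m : ∀ (g : G) (s : Set.powersetCard Ω 2) z, g • z ∈ (g • s).1 ↔ z ∈ s.1 := fun g s z =>
    Finset.smul_mem_smul_finset_iff g
  have key : ∀ d, d ≠ a → d ≠ t • a → ∃ g ∈ (⊤ : Subgroup G), g • a = a ∧ g • t • a = t • a ∧
      g • c = d := by
    intro d d1 d2
    suffices ∃ g : G, g • s₀ = s₀ ∧ g • c = d by
      obtain ⟨g, g1, g2⟩ := this
      have e1 : g • a ∈ s₀.1 := g1 ▸ (m g s₀ a).2 (by simp [s₀])
      have e2 : g • t • a ∈ s₀.1 := g1 ▸ (m g s₀ _).2 (by simp [s₀])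
      have e3 : g • t • a ≠ g • a := fun e => t2 (smul_left_cancel g e)
      simp only [s₀, Finset.mem_insert, Finset.mem_singleton] at e1 e2
      rcases e1 with e1 | e1
      · exact ⟨g, mem_top _, e1, e2.resolve_left fun e => e3 (e.trans e1.symm), g2⟩
      · exact ⟨g * t, mem_top _, by rw [mul_smul, e2.resolve_right fun e => e3 (e.trans e1.symm)],
          by rw [mul_smul, t4, e1], by rw [mul_smul, t3, g2]⟩
    by_contra hn
    let r : Set.powersetCard Ω 2 → Ω → K := fun s z => if ∃ g : G, g • s₀ = s ∧ g • c = z then 1 else 0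
    have r1 : ∀ (g : G) x y, r (g • x) (g • y) = r x y := fun g x y => if_congr
      ⟨fun ⟨u, u1, u2⟩ => ⟨g⁻¹ * u, by simp [mul_smul, u1], by simp [mul_smul, u2]⟩,
        fun ⟨u, u1, u2⟩ => ⟨g * u, by simp [mul_smul, u1], by simp [mul_smul, u2]⟩⟩ rfl rfl
    have r2 : r s₀ a = 0 := if_neg fun ⟨g, g1, g2⟩ => by
      have : c ∈ s₀.1 := (m g s₀ c).1 (by rw [g1, g2]; simp [s₀])
      simp [s₀, c1, c2] at this
    have r3 : ∀ s, ∑ z, r s z = ∑ z, r s₀ z := fun s => by
      obtain ⟨g, rfl⟩ := (Set.powersetCard.isPretransitive_of_isMultiplyPretransitive G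
        h2.multi_top).exists_smul_eq s₀ s
      exact (Fintype.sum_equiv (toPerm g) _ _ fun x => (r1 g s₀ x).symm).symm
    have r4 := h (fun s z => 2 * r s z - if z ∈ s.1 then ∑ z, r s₀ z else 0)
      (fun g s z => by simp only [r1, m]) (fun s => by
        rw [Finset.sum_sub_distrib, ← Finset.mul_sum, r3, Finset.sum_ite_mem, Finset.univ_inter,
          Finset.sum_const, s.2, two_nsmul, two_mul, sub_self]) s₀ a d
    simp only [r2, show r s₀ d = 0 from if_neg hn] at r4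
    rw [if_pos (by simp [s₀]), if_neg (by simp [s₀, d1, d2]), sub_zero, sub_eq_self] at r4
    have := h r r1 (fun s => (r3 s).trans r4) s₀ a c
    rw [r2, show r s₀ c = 1 from if_pos ⟨1, by simp⟩] at this
    exact zero_ne_one this
  refine h2.three_of t2.symm fun x y x1 x2 y1 y2 => ?_
  obtain ⟨g, -, g1, g2, rfl⟩ := key x x1 x2
  obtain ⟨u, -, u1, u2, rfl⟩ := key y y1 y2
  exact ⟨u * g⁻¹, mem_top _, by rw [mul_smul, inv_smul_eq_iff.2 g1.symm, u1],
    by rw [mul_smul, inv_smul_eq_iff.2 g2.symm, u2], by simp [mul_smul]⟩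

theorem comm_transl {X : Ω → K} {g k : G} {u v u' v' : K} (e1 : ∀ a, X (g • a) = u * X a + v)
    (e2 : ∀ a, X (k • a) = u' * X a + v') : ∃ c, ∀ a, X (⁅g, k⁆ • a) = X a + c := by
  refine ⟨u * v' + v - (u' * v + v'), fun a => ?_⟩
  conv_rhs => rw [← smul_inv_smul k a, ← smul_inv_smul g (k⁻¹ • a), e2, e1]
  rw [commutatorElement_def, mul_smul, mul_smul, mul_smul, e1, e2]
  ring

theorem ncard_modEq_elt [Finite Ω] {p : ℕ} [hp : Fact p.Prime] {g : G} (hg : g ^ p = 1) {O : Set Ω}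
    (h : ∀ x ∈ O, g • x ∈ O) : O.ncard ≡ (O ∩ {x | g • x = x}).ncard [MOD p] := by
  have e := ncard_modEq (P := zpowers g) (p := p) (O := O)
    (IsPGroup.of_card_dvd_pow (n := 1) (by
      rw [Nat.card_zpowers, pow_one]; exact orderOf_dvd_of_pow_eq_one hg)) fun u hu => by
      obtain ⟨n, rfl⟩ := (isOfFinOrder_iff_pow_eq_one.2 ⟨p, hp.out.pos, hg⟩).mem_powers_iff_mem_zpowers.2 hu
      exact fun x hx => n.rec (by simpa) fun n ih => by simpa only [pow_succ', mul_smul] using h _ ih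
  rwa [show fixedPoints (zpowers g) Ω = {x | g • x = x} from Set.ext fun r =>
    ⟨fun h => h ⟨g, mem_zpowers g⟩, fun h u => (zpowers_le (H := stabilizer G r)).2 h u.2⟩] at e

theorem fix_or_kt {β : Type*} [MulAction G β] [Finite β] (h2 : KT Ω (⊤ : Subgroup G) 2)
    {ρ : G} (h1 : ρ * ρ = 1) {a : Ω} (ha : ∀ b, ρ • b = b → b = a) {q : β}
    (hq : ∀ r, ρ • r = r ↔ r = q) : stabilizer G q ≤ stabilizer G a ∨ KT Ω (stabilizer G q) 1 := by
  let R : Ω → β → Prop := fun b r => ∃ g : G, g • a = b ∧ g • q = r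
  have r1 : ∀ (g : G) b r, R b r → R (g • b) (g • r) := fun g b r ⟨u, u1, u2⟩ =>
    ⟨g * u, by simp [mul_smul, u1], by simp [mul_smul, u2]⟩
  have t : ∀ b : Ω, ρ • ρ • b = b := fun b => by rw [← mul_smul, h1, one_smul]
  have r2 : ∀ b, {r | R b r ∧ R (ρ • b) r}.ncard % 2 = 1 ↔ R b q := fun b => by
    have e := ncard_modEq_elt (p := 2) (O := {r | R b r ∧ R (ρ • b) r}) ((sq ρ).trans h1)
      fun r hr => ⟨t b ▸ r1 ρ _ _ hr.2, r1 ρ _ _ hr.1⟩
    rw [show {r | ρ • r = r} = {q} from Set.ext hq] at e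
    rw [e]
    refine ⟨fun h => by_contra fun n => ?_, fun h => ?_⟩
    · rw [Set.inter_singleton_eq_empty.2 fun h => n h.1] at h; simp at h
    · rw [Set.inter_eq_right.2 (Set.singleton_subset_iff.2 (by
        exact ⟨h, (hq q).2 rfl ▸ r1 ρ _ _ h⟩))]; simp
  refine or_iff_not_imp_left.2 fun h => ?_
  obtain ⟨g, g1, g2⟩ := SetLike.not_le_iff_exists.1 h
  have k : ∀ b, ∃ u ∈ stabilizer G q, u • a = b := fun b => by
    by_cases e : b = a
    · exact ⟨1, one_mem _, by simp [e]⟩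
    obtain ⟨u, -, u1, u2⟩ := h2.two le_rfl (fun e => g2 (ha _ e.symm) : g • a ≠ ρ • g • a)
      (fun e' => e (ha _ e'.symm) : b ≠ ρ • b)
    obtain ⟨v, v1, v2⟩ := (r2 b).1 (by
      rw [← (r2 (g • a)).2 ⟨g, rfl, g1⟩, ← Set.ncard_smul_set u {r | R (g • a) r ∧ _}]
      congr 2
      ext r
      rw [Set.mem_smul_set_iff_inv_smul_mem, ← u2, ← u1]
      exact ⟨fun h => ⟨by simpa using r1 u⁻¹ _ _ h.1, by simpa using r1 u⁻¹ _ _ h.2⟩,
        fun h => ⟨by simpa using r1 u _ _ h.1, by simpa using r1 u _ _ h.2⟩⟩)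
    exact ⟨v, v2, v1⟩
  refine kt_one_iff.2 fun b c => ?_
  obtain ⟨u, u1, rfl⟩ := k b
  obtain ⟨v, v1, rfl⟩ := k c
  exact ⟨v * u⁻¹, mul_mem v1 (inv_mem u1), by simp [mul_smul]⟩

theorem solvable_of_affine [FaithfulSMul G Ω] {X : Ω → K} (hX : Function.Injective X)
    (h : ∀ g : G, ∃ u v, ∀ a, X (g • a) = u * X a + v) : Group.IsSolvable G := by
  let T : Subgroup G :=
    { carrier := {g | ∃ v, ∀ a, X (g • a) = X a + v}
      one_mem' := ⟨0, by simp⟩
      mul_mem' := fun ⟨u, hu⟩ ⟨v, hv⟩ => ⟨v + u, fun a => by rw [mul_smul, hu, hv, add_assoc]⟩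
      inv_mem' := fun {g} ⟨u, hu⟩ => ⟨-u, fun a => by
        rw [← smul_inv_smul g a, hu, inv_smul_smul, add_neg_cancel_right]⟩ }
  have h1 : derivedSeries G 1 ≤ T := commutator_le.2 fun g _ k _ => by
    obtain ⟨u, v, e1⟩ := h g
    obtain ⟨u', v', e2⟩ := h k
    exact comm_transl e1 e2
  refine ⟨⟨2, eq_bot_iff.2 (commutator_le.2 fun g hg k hk => ?_)⟩⟩
  obtain ⟨u, hu⟩ := h1 hg
  obtain ⟨v, hv⟩ := h1 hk
  rw [mem_bot, commutatorElement_eq_one_iff_mul_comm]
  exact eq_of_smul_eq_smul (α := Ω) fun a => hX (by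
    rw [mul_smul, mul_smul, hu, hv, hv, hu, add_right_comm])

theorem zmod_two_affine : ∀ f : ZMod 2 → ZMod 2, ∃ u v, ∀ j, f j = u * j + v := by decide

variable {p : ℕ} [hp : Fact p.Prime]

theorem exists_coord [Finite Ω] (hc : Nat.card Ω = p) {σ : G} (h1 : σ ^ p = 1) {a : Ω}
    (h2 : σ • a ≠ a) : ∃ x : Ω ≃ ZMod p, ∀ b, x (σ • b) = x b + 1 := by
  have k : ∀ i j : ℕ, i < j → j < p → σ ^ i • a ≠ σ ^ j • a := fun i j e1 e2 e => by
    obtain ⟨d, rfl⟩ := Nat.exists_eq_add_of_lt e1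
    rw [add_assoc, pow_add, mul_smul, smul_left_cancel_iff] at e
    obtain ⟨m, hm⟩ := exists_pow_eq_self_of_coprime (x := σ) (n := d + 1)
      (Nat.Coprime.coprime_dvd_right (orderOf_dvd_of_pow_eq_one h1)
        (Nat.coprime_of_lt_prime d.succ_ne_zero (by omega) hp.out).symm)
    exact h2 (hm ▸ (stabilizer G a).pow_mem e.symm m : σ ∈ stabilizer G a)
  let f : ZMod p → Ω := fun j => σ ^ j.val • a
  have f1 : Function.Injective f := fun i j e => ZMod.val_injective p <| by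
    rcases lt_trichotomy i.val j.val with h | h | h
    · exact absurd e (k _ _ h j.val_lt)
    · exact h
    · exact absurd e.symm (k _ _ h i.val_lt)
  refine ⟨(Equiv.ofBijective f ((Nat.bijective_iff_injective_and_card f).2
    ⟨f1, by rw [Nat.card_zmod, hc]⟩)).symm, fun b => ?_⟩
  obtain ⟨j, rfl⟩ := ((Nat.bijective_iff_injective_and_card f).2
    ⟨f1, by rw [Nat.card_zmod, hc]⟩).2 b
  rw [Equiv.symm_apply_eq, Equiv.ofBijective_symm_apply_apply, Equiv.ofBijective_apply]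
  simp only [f]
  rw [ZMod.val_add, ← pow_eq_pow_mod _ h1, ZMod.val_one, pow_succ', mul_smul]

theorem coord_pow {σ : G} {x : Ω ≃ ZMod p} (hx : ∀ b, x (σ • b) = x b + 1) (k : ℕ) (b : Ω) :
    x (σ ^ k • b) = x b + k := by
  induction k with
  | zero => simp
  | succ k ih => rw [pow_succ', mul_smul, hx, ih, Nat.cast_succ, add_assoc]

theorem coord_kt {σ : G} {x : Ω ≃ ZMod p} (hx : ∀ b, x (σ • b) = x b + 1) :
    KT Ω (zpowers σ) 1 := kt_one_iff.2 fun a b => ⟨σ ^ (x b - x a).val, npow_mem_zpowers _ _,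
      x.injective (by rw [coord_pow hx]; simp)⟩

theorem coord_affine {σ τ : G} {x : Ω ≃ ZMod p} (hx : ∀ b, x (σ • b) = x b + 1) {k : ℕ}
    (h : τ * σ * τ⁻¹ = σ ^ k) (b : Ω) : x (τ • b) = k * x b + x (τ • x.symm 0) := by
  have e : b = σ ^ (x b).val • x.symm 0 := x.injective (by rw [coord_pow hx]; simp)
  conv_lhs => rw [e, ← mul_smul, ← inv_mul_cancel_right (τ * _) τ, ← conj_pow, h, ← pow_mul, mul_smul,
    coord_pow hx]
  simp [add_comm]

variable [CharP K p]

theorem mem_iff_poly {σ : G} {x : Ω ≃ ZMod p} (hx : ∀ b, x (σ • b) = x b + 1)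
    {W : Submodule K (Ω → K)} (hW : InvSub G W) {f : Ω → K} : f ∈ W ↔
      ∃ P : Polynomial K, P.degree < Module.finrank K W ∧ ∀ a, f a = P.eval (ZMod.cast (x a) : K) := by
  let L := LinearEquiv.funCongrLeft K K x.symm
  have h1 := eq_polyFun (W := W.map (L : (Ω → K) →ₗ[K] _)) (by
    rintro _ ⟨u, hu, rfl⟩
    refine ⟨_, hW σ⁻¹ u hu, funext fun j => congrArg u (x.injective ?_)⟩
    rw [Equiv.apply_symm_apply, eq_sub_iff_add_eq, ← hx, smul_inv_smul, Equiv.apply_symm_apply])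
  rw [L.finrank_map_eq] at h1
  rw [show f ∈ W ↔ L f ∈ W.map (L : (Ω → K) →ₗ[K] _) by simp, h1, mem_polyFun]
  exact exists_congr fun P => and_congr_right fun _ => x.surjective.forall.trans
    (forall_congr' fun a => by simp [L])

theorem affine_of_small {σ : G} {x : Ω ≃ ZMod p} (hx : ∀ b, x (σ • b) = x b + 1)
    {W : Submodule K (Ω → K)} (hW : InvSub G W) (h1 : 2 ≤ Module.finrank K W)
    (h2 : 2 * Module.finrank K W ≤ p + 1) (g : G) :
    ∃ u v : K, ∀ a, (ZMod.cast (x (g • a)) : K) = u * ZMod.cast (x a) + v := by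
  have k : ∀ j, j < Module.finrank K W → ∃ P : Polynomial K, P.degree < Module.finrank K W ∧
      ∀ a, (ZMod.cast (x (g • a)) : K) ^ j = P.eval (ZMod.cast (x a) : K) := fun j hj =>
    (mem_iff_poly hx hW).1 (hW g _ ((mem_iff_poly hx hW (f := fun a => (ZMod.cast (x a) : K) ^ j)).2
      ⟨Polynomial.X ^ j, by rw [Polynomial.degree_X_pow]; exact_mod_cast hj, by simp⟩))
  obtain ⟨P, p1, p2⟩ := k 1 h1
  simp only [pow_one] at p2
  by_cases e : P.natDegree ≤ 1
  · exact ⟨P.coeff 1, P.coeff 0, fun a => by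
      rw [p2]; conv_lhs => rw [Polynomial.eq_X_add_C_of_natDegree_le_one e]
      simp⟩
  have p0 : P ≠ 0 := by rintro rfl; simp at e
  rw [← Polynomial.natDegree_lt_iff_degree_lt p0] at p1
  obtain ⟨d, hd⟩ : ∃ d, Module.finrank K W = d + 1 := ⟨_, (Nat.sub_add_cancel (by omega)).symm⟩
  obtain ⟨j, j1, j2, j3⟩ : ∃ j, j ≤ d ∧ d < j * P.natDegree ∧ j * P.natDegree ≤ 2 * d := by
    have e1 := Nat.div_add_mod d P.natDegree
    have e2 := Nat.mod_lt d (y := P.natDegree) (by omega)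
    have e3 := Nat.div_le_div_left (a := d) (show 2 ≤ P.natDegree by omega) two_pos
    refine ⟨d / P.natDegree + 1, by omega, ?_, ?_⟩ <;> rw [add_mul, mul_comm] <;> omega
  obtain ⟨Q, q1, q2⟩ := k j (by omega)
  have e3 : (P ^ j).degree = (j * P.natDegree : ℕ) := by
    rw [Polynomial.degree_eq_natDegree (pow_ne_zero _ p0), Polynomial.natDegree_pow]
  have e4 := eq_zero_of_eval (p := p) (P := P ^ j - Q)
    ((Polynomial.degree_sub_le _ _).trans_lt (max_lt (by rw [e3]; exact_mod_cast (by omega))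
      (q1.trans_le (by exact_mod_cast (by omega))))) fun j => by
      obtain ⟨a, rfl⟩ := x.surjective j
      rw [Polynomial.eval_sub, Polynomial.eval_pow, ← p2, q2, sub_self]
  rw [← sub_eq_zero.1 e4, e3] at q1
  have : j * P.natDegree < Module.finrank K W := by exact_mod_cast q1
  omega

theorem affine_of_mid [Fintype Ω] {σ : G} {x : Ω ≃ ZMod p} (hx : ∀ b, x (σ • b) = x b + 1)
    {W : Submodule K (Ω → K)} (hW : InvSub G W) (h1 : 2 ≤ Module.finrank K W)
    (h2 : Module.finrank K W + 2 ≤ p) (g : G) :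
    ∃ u v : K, ∀ a, (ZMod.cast (x (g • a)) : K) = u * ZMod.cast (x a) + v := by
  by_cases h : 2 * Module.finrank K W ≤ p + 1
  · exact affine_of_small hx hW h1 h g
  have := finrank_perp W
  rw [Fintype.card_congr x, ZMod.card] at this
  exact affine_of_small hx hW.perp (by omega) (by omega) g

theorem heart_irr [Fintype Ω] {σ : G} {x : Ω ≃ ZMod p} (hx : ∀ b, x (σ • b) = x b + 1)
    (h : ¬ ∀ g : G, ∃ u v : K, ∀ a, (ZMod.cast (x (g • a)) : K) = u * ZMod.cast (x a) + v)
    {W : Submodule K (Ω → K)} (hW : InvSub G W) (h1 : (fun _ => 1) ∈ W)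
    (h2 : ∀ f ∈ W, ∑ a, f a = 0) : W = K ∙ (fun _ => 1) ∨ W = (permSumZero K G Ω).toSubmodule := by
  classical
  by_cases e : Module.finrank K W ≤ 1
  · refine Or.inl (Submodule.eq_of_le_of_finrank_le ((Submodule.span_singleton_le_iff_mem _ _).2 h1)
      ?_).symm
    rwa [finrank_span_singleton fun e => one_ne_zero (congrFun e (x.symm 0))]
  refine Or.inr (Submodule.eq_of_le_of_finrank_le h2 ?_)
  have e1 : Module.finrank K (permSumZero K G Ω).toSubmodule < Module.finrank K (Ω → K) :=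
    Submodule.finrank_lt fun e => by
      have : ∑ a, (Pi.single (x.symm 0) 1 : Ω → K) a = 0 := e.ge (Submodule.mem_top)
      simp at this
  rw [Module.finrank_fintype_fun_eq_card, Fintype.card_congr x, ZMod.card] at e1
  by_contra e2
  exact h (affine_of_mid hx hW (by omega) (by omega))

theorem two_or_affine [Finite G] {σ : G} (hσ : σ ^ p = 1) {x : Ω ≃ ZMod p}
    (hx : ∀ b, x (σ • b) = x b + 1) :
    KT Ω (⊤ : Subgroup G) 2 ∨ ∀ g : G, ∃ u v, ∀ a, x (g • a) = u * x a + v := by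
  have := Fintype.ofEquiv _ x.symm
  refine or_iff_not_imp_right.2 fun h => two_trans_of_heart (K := ZMod p) (P := zpowers σ)
    (IsPGroup.of_card (n := 1) ?_) (coord_kt hx) fun W W' i1 i2 h1 h2 h3 => ?_
  · rw [Nat.card_zpowers, pow_one, orderOf_eq_prime hσ]
    rintro rfl
    simpa using hx (x.symm 0)
  by_contra h4
  push Not at h4
  rcases heart_irr hx (by simpa using h) i1 h1 (fun f hf => h3 f (h2.le hf)) with rfl | rfl
  · refine h fun g => ?_
    have h5 := Submodule.finrank_lt_finrank_of_lt h2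
    rw [finrank_span_singleton fun e => one_ne_zero (congrFun e (x.symm 0))] at h5
    obtain ⟨v, hv⟩ := Submodule.mem_span_singleton.1 (h4 g x ((mem_iff_poly hx i2).2
      ⟨Polynomial.X, by rw [Polynomial.degree_X]; exact_mod_cast h5, by simp⟩))
    exact ⟨1, v, fun a => by simpa [eq_sub_iff_add_eq', eq_comm] using congrFun hv a⟩
  · exact h2.not_ge h3

omit [CharP K p]

theorem not_dvd_card_stab [Finite G] [Finite Ω] [FaithfulSMul G Ω] (hc : Nat.card Ω = p) (a : Ω) :
    ¬ p ∣ Nat.card (stabilizer G a) := fun h => by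
  obtain ⟨g, hg⟩ := exists_prime_orderOf_dvd_card' p h
  have h1 : (g : G) ≠ 1 := fun e => by
    rw [show g = 1 from Subtype.ext e, orderOf_one] at hg; exact hp.out.ne_one hg.symm
  obtain ⟨b, hb⟩ := exists_smul_ne (Ω := Ω) h1
  obtain ⟨x, hx⟩ := exists_coord hc (σ := (g : G)) (by
    rw [← coe_pow, ← hg, pow_orderOf_eq_one, coe_one]) hb
  simpa [show (g : G) • a = a from g.2] using hx a

theorem sylow_gen [Finite G] [Finite Ω] [FaithfulSMul G Ω] [IsPretransitive G Ω]
    (hc : Nat.card Ω = p) (P : Sylow p G) : ∃ σ : G, zpowers σ = P ∧ orderOf σ = p ∧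
      ∃ x : Ω ≃ ZMod p, ∀ b, x (σ • b) = x b + 1 := by
  have : Nonempty Ω := (Nat.card_pos_iff.1 (hc ▸ hp.out.pos)).1
  obtain ⟨a⟩ := this
  have h1 := card_stab_mul_of_kt (sylow_kt (hc.trans (pow_one p).symm) P) a
  obtain ⟨n, hn⟩ := (P.isPGroup'.to_inf_left (K := stabilizer G a)).exists_card_eq
  rcases n with _ | n
  swap
  · exact absurd (((dvd_pow_self p n.succ_ne_zero).trans hn.symm.dvd).trans
      (card_dvd_of_le inf_le_right)) (not_dvd_card_stab hc a)
  rw [hn, pow_zero, one_mul, hc] at h1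
  obtain ⟨σ, hσ⟩ := exists_prime_orderOf_dvd_card' (G := P) p h1.dvd
  rw [← orderOf_coe] at hσ
  obtain ⟨b, hb⟩ := exists_smul_ne (Ω := Ω) (g := (σ : G)) fun e => by
    rw [e, orderOf_one] at hσ; exact hp.out.ne_one hσ.symm
  exact ⟨σ, eq_of_le_of_card_ge (zpowers_le.2 σ.2) (by rw [Nat.card_zpowers, hσ, ← h1]), hσ,
    exists_coord hc (orderOf_dvd_iff_pow_eq_one.1 hσ.dvd) hb⟩

theorem exists_conj_eq_pow [Finite G] {σ τ : G} (h : τ ∈ normalizer (zpowers σ : Set G)) :
    ∃ k : ℕ, τ * σ * τ⁻¹ = σ ^ k :=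
  ((mem_powers_iff_mem_zpowers.2 ((mem_normalizer_iff.1 h σ).1 (mem_zpowers σ))) :).imp
    fun _ h => h.symm

theorem exists_inverting [Finite G] [FaithfulSMul G Ω] (h2 : p ≠ 2) {σ : G} {x : Ω ≃ ZMod p}
    (hx : ∀ b, x (σ • b) = x b + 1) (h : Even (Nat.card (normalizer (zpowers σ : Set G)))) :
    ∃ τ : G, τ * τ = 1 ∧ ∃ k : ℕ, (k : ZMod p) = -1 ∧ τ * σ * τ⁻¹ = σ ^ k := by
  obtain ⟨τ, hτ⟩ := exists_prime_orderOf_dvd_card' 2 h.two_dvd
  obtain ⟨k, hk⟩ := exists_conj_eq_pow τ.2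
  have h1 : (τ : G) * τ = 1 := by rw [← sq, ← coe_pow, ← hτ, pow_orderOf_eq_one, coe_one]
  refine ⟨τ, h1, k, ?_, hk⟩
  have h3 := coord_affine hx hk
  have h4 : ∀ b, x b = k * (k * x b + x ((τ : G) • x.symm 0)) + x ((τ : G) • x.symm 0) := fun b => by
    rw [← h3, ← h3, ← mul_smul, h1, one_smul]
  have h5 := h4 (x.symm 0)
  have h6 := h4 (x.symm 1)
  rw [Equiv.apply_symm_apply] at h5 h6
  refine (mul_self_eq_one_iff.1 (by linear_combination h5 - h6)).resolve_left fun e => ?_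
  have h7 : x ((τ : G) • x.symm 0) = 0 := (mul_eq_zero.1 (by
    rw [e] at h5; linear_combination -h5)).resolve_left (Ring.two_ne_zero (by
      rwa [ZMod.ringChar_zmod_n]))
  rw [show τ = 1 from Subtype.ext (eq_one_of_smul (Ω := Ω) fun b => x.injective (by
    rw [h3, e, h7, one_mul, add_zero])), orderOf_one] at hτ
  exact absurd hτ (by norm_num)

theorem card_prime_deg [Finite G] [Finite Ω] [FaithfulSMul G Ω] [IsPretransitive G Ω]
    (hc : Nat.card Ω = p) (P : Sylow p G) : ∃ d n, d ∣ p - 1 ∧ n ≡ 1 [MOD p] ∧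
      Nat.card (normalizer ((P : Subgroup G) : Set G)) = p * d ∧ Nat.card G = p * d * n ∧
      (d = 1 → n = 1) := by
  obtain ⟨σ, h1, h2, x, hx⟩ := sylow_gen hc P
  have h3 : Nat.card P = p := by rw [← h1, Nat.card_zpowers, h2]
  have h4 := coord_kt hx
  rw [h1] at h4
  have := isCyclic_of_prime_card h3
  have h5 : centralizer ((P : Subgroup G) : Set G) = P := by
    have h6 : (P : Subgroup G) ≤ centralizer ((P : Subgroup G) : Set G) :=
      le_centralizer_iff_isMulCommutative.2 IsCyclic.isMulCommutative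
    refine le_antisymm (fun c hc => ?_) h6
    obtain ⟨n, n1, u, u1, rfl⟩ := exists_mul_stab h4 (x.symm 0) c
    rwa [eq_one_of_centralizes h4 ((mul_mem_cancel_left (h6 n1)).1 hc) u1, mul_one]
  have h6 := (P : Subgroup G).normalizerMonoidHom.ker.card_mul_index
  rw [index_ker, normalizerMonoidHom_ker, h5, Nat.card_congr (subgroupOfEquivOfLe le_normalizer).toEquiv,
    h3] at h6
  refine ⟨_, _, ?_, ?_, h6.symm, by rw [h6, card_mul_index], fun e => ?_⟩
  · have := card_subgroup_dvd_card (P : Subgroup G).normalizerMonoidHom.range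
    rwa [IsCyclic.card_mulAut, h3, Nat.totient_prime hp.out] at this
  · exact P.card_eq_index_normalizer ▸ card_sylow_modEq_one p G
  rw [e, mul_one] at h6
  have h7 : normalizer ((P : Subgroup G) : Set G) = P :=
    (eq_of_le_of_card_ge le_normalizer (by rw [← h6, h3])).symm
  have h8 := MonoidHom.ker_transferSylow_isComplement' P (h7.trans h5.symm).le
  have := IsPreprimitive.of_prime_card (G := G) (X := Ω) (hc ▸ hp.out)
  rw [h7, h8.index_eq_card, card_eq_one]
  by_contra h9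
  exact MonoidHom.not_dvd_card_ker_transferSylow P _ (Dvd.intro_left _
    (hc ▸ card_stab_mul_of_kt (kt_one_of_normal h9) (x.symm 0)))

theorem three_of_even [Finite G] [Fintype Ω] [FaithfulSMul G Ω] (h2 : p ≠ 2) {σ : G} (hσ : σ ^ p = 1)
    {x : Ω ≃ ZMod p} (hx : ∀ b, x (σ • b) = x b + 1) (hG : ¬ Group.IsSolvable G)
    (h : Even (Nat.card (normalizer (zpowers σ : Set G)))) : KT Ω (⊤ : Subgroup G) 3 := by
  classical
  obtain ⟨τ, t1, k, k1, k2⟩ := exists_inverting h2 hx h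
  have t2 := coord_affine hx k2
  rw [k1] at t2
  have n2 : (2 : ZMod p) ≠ 0 := Ring.two_ne_zero (by rwa [ZMod.ringChar_zmod_n])
  have na := mt (solvable_of_affine x.injective) hG
  refine three_of_kernels (K := ZMod p) ((two_or_affine hσ hx).resolve_right na) t1
    (a := x.symm (x (τ • x.symm 0) / 2 + 1)) (c := x.symm (x (τ • x.symm 0) / 2))
    (fun e => n2 ?_) (x.injective ?_) fun w w1 w2 s z z' => ?_
  · have := congrArg x e
    rw [t2, Equiv.apply_symm_apply] at this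
    linear_combination -this - mul_div_cancel₀ (x (τ • x.symm 0)) n2
  · rw [t2, Equiv.apply_symm_apply]
    linear_combination -mul_div_cancel₀ (x (τ • x.symm 0)) n2
  have w3 : kerMap w (fun _ => 1) = 0 := funext fun s => by simp [kerMap, w2]
  have w4 : ∀ (u v : ZMod p) (g : G), (∀ b, x (g • b) = u * x b + v) → ∀ s,
      kerMap w x (g • s) = u * kerMap w x s := fun u v g hg s => by
    rw [← congrFun (kerMap_smul w1 g x) s, show (fun b => x (g • b)) = u • (x : Ω → ZMod p) +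
      v • fun _ => 1 from funext fun b => by simp [hg], map_add, map_smul, map_smul, w3]
    simp
  have w5 : kerMap w x = 0 := funext fun s => by
    obtain ⟨a, b, -, hs⟩ := Finset.card_eq_two.1 s.2
    have e1 := w4 _ _ _ t2 s
    have e2 := coord_pow hx (x (τ • x.symm 0) - x a - x b).val
    rw [show τ • s = σ ^ (x (τ • x.symm 0) - x a - x b).val • s from Subtype.ext (by
      rw [Set.powersetCard.coe_smul, Set.powersetCard.coe_smul, hs]
      simp only [Finset.smul_finset_insert, Finset.smul_finset_singleton]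
      rw [Finset.pair_comm]
      refine congrArg₂ (fun u v => ({u, v} : Finset Ω)) (x.injective ?_) (x.injective ?_) <;>
        rw [t2, e2] <;> simp <;> ring),
      w4 1 _ _ (fun b => by rw [e2, one_mul])] at e1
    exact (mul_eq_zero.1 (by linear_combination e1)).resolve_left n2
  have i1 : InvSub G (LinearMap.ker (kerMap w)) := fun g f hf => by
    rw [LinearMap.mem_ker, kerMap_smul w1, LinearMap.mem_ker.1 hf]; rfl
  suffices kerMap w (Pi.single z 1 - Pi.single z' 1) = 0 by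
    have := congrFun this s
    rw [map_sub, Pi.sub_apply, kerMap_single, kerMap_single, Pi.zero_apply, sub_eq_zero] at this
    convert this
  by_cases e : LinearMap.ker (kerMap w) = ⊤
  · exact e.ge Submodule.mem_top
  rcases heart_irr hx (by simpa using na) i1 w3 (fun f hf => i1.sum_eq_zero (P := zpowers σ)
    (IsPGroup.of_card (n := 1) (by
      rw [Nat.card_zpowers, pow_one, orderOf_eq_prime hσ]
      rintro rfl
      simpa using hx (x.symm 0))) (coord_kt hx) e hf) with e | e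
  · obtain ⟨v, hv⟩ := Submodule.mem_span_singleton.1 (e.le w5)
    have := (congrFun hv (x.symm 0)).symm.trans (congrFun hv (x.symm 1))
    simp at this
  · refine e.ge (?_ : ∑ x, _ = _)
    simp [Finset.sum_sub_distrib]

theorem fix_of_index [Finite G] [Finite Ω] [FaithfulSMul G Ω] [IsPretransitive G Ω]
    (hc : Nat.card Ω = p) (P : Sylow p G) (h : Even (Nat.card (normalizer ((P : Subgroup G) : Set G))))
    {H : Subgroup G} (hH : H.index = p) : ∃ a : Ω, H ≤ stabilizer G a := by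
  classical
  obtain ⟨σ, s1, s2, x, hx⟩ := sylow_gen hc P
  have s3 : σ ^ p = 1 := by rw [← s2, pow_orderOf_eq_one]
  have hd : ¬ p ∣ Nat.card H := fun e => not_dvd_card_stab hc (x.symm 0) (by
    have h1 := (stabilizer G (x.symm 0)).card_mul_index
    rw [index_stabilizer_of_transitive, hc, ← H.card_mul_index, hH] at h1
    rwa [Nat.eq_of_mul_eq_mul_right hp.out.pos h1])
  by_cases hb : H = ⊥
  · exact ⟨x.symm 0, hb.le.trans bot_le⟩
  have nt : ∀ g ∈ H, ∀ v, (∀ b, x (g • b) = x b + v) → g = 1 := fun g hg v hv => by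
    have e : g = σ ^ v.val := eq_of_smul_eq_smul (α := Ω) fun b => x.injective (by
      rw [hv, coord_pow hx]; simp)
    exact orderOf_eq_one_iff.1 (Nat.eq_one_of_dvd_coprimes (hp.out.coprime_iff_not_dvd.2 hd)
      (orderOf_dvd_of_pow_eq_one (by rw [e, ← pow_mul, mul_comm, pow_mul, s3, one_pow]))
      (H.orderOf_dvd_natCard hg))
  have h2 : (p ≠ 2 ∧ KT Ω (⊤ : Subgroup G) 2) ∨ ∀ g : G, ∃ u v, ∀ a, x (g • a) = u * x a + v := by
    by_cases e : p = 2
    · subst e
      refine Or.inr fun g => ?_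
      obtain ⟨u, v, h⟩ := zmod_two_affine fun j => x (g • x.symm j)
      exact ⟨u, v, fun a => by simpa using h (x a)⟩
    · exact (two_or_affine s3 hx).imp_left fun h => ⟨e, h⟩
  rcases h2 with ⟨h1, h2⟩ | h2
  swap
  · obtain ⟨g, g2⟩ := H.ne_bot_iff_exists_ne_one.1 hb
    obtain ⟨u, v, e1⟩ := h2 g
    have e2 : 1 - u ≠ 0 := fun e => g2 (Subtype.ext (nt g g.2 v fun b => by
      rw [e1, ← sub_eq_zero.1 e, one_mul]))
    have e3 : ∀ b, (g : G) • b = b ↔ b = x.symm (v / (1 - u)) := fun b => by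
      rw [← x.injective.eq_iff, e1, Equiv.eq_symm_apply, eq_div_iff e2]
      exact ⟨fun h => by linear_combination -h, fun h => by linear_combination -h⟩
    refine ⟨_, fun k hk => (e3 _).1 ?_⟩
    obtain ⟨u', v', e4⟩ := h2 k
    obtain ⟨c, hc⟩ := comm_transl e1 e4
    rw [← mul_smul, commutatorElement_eq_one_iff_mul_comm.1 (nt _ (mul_mem (mul_mem (mul_mem g.2 hk)
      (inv_mem g.2)) (inv_mem hk)) c hc), mul_smul, (e3 _).2 rfl]
  obtain ⟨τ, t1, k, k1, k2⟩ := exists_inverting h1 hx (s1 ▸ h)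
  have n2 : (2 : ZMod p) ≠ 0 := Ring.two_ne_zero (by rwa [ZMod.ringChar_zmod_n])
  obtain ⟨y, hy⟩ := exists_coord (Ω := G ⧸ H) hH s3 (a := ((1 : G) : G ⧸ H)) fun e =>
    hd (s2 ▸ H.orderOf_dvd_natCard (by rw [← stabilizer_quotient H]; exact e))
  obtain ⟨c, t2⟩ : ∃ c, ∀ b, x (τ • b) = -1 * x b + c := ⟨_, k1 ▸ coord_affine hx k2⟩
  obtain ⟨d, t3⟩ : ∃ c, ∀ b, y (τ • b) = -1 * y b + c := ⟨_, k1 ▸ coord_affine hy k2⟩
  obtain ⟨m, hm⟩ := ZMod.natCast_zmod_surjective (2 * y ((1 : G) : G ⧸ H) - d)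
  rcases fix_or_kt h2 (ρ := σ ^ m * τ) (a := x.symm ((c + m) / 2)) (q := ((1 : G) : G ⧸ H))
    (eq_one_of_smul (Ω := Ω) fun b => x.injective (by
      simp only [mul_smul, coord_pow hx, t2]; ring)) (fun b e => by
      rw [← x.injective.eq_iff, mul_smul, coord_pow hx, t2] at e
      rw [Equiv.eq_symm_apply, eq_div_iff n2]
      linear_combination -e) (fun r => by
      rw [← y.injective.eq_iff, mul_smul, coord_pow hy, t3, ← y.injective.eq_iff, hm]
      exact ⟨fun h => mul_left_cancel₀ n2 (by linear_combination -h),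
        fun h => by linear_combination -2 * h⟩) with e | e
  · exact ⟨_, stabilizer_quotient H ▸ e⟩
  · rw [stabilizer_quotient H] at e
    exact absurd (Dvd.intro_left _ (hc ▸ card_stab_mul_of_kt e (x.symm 0))) hd

end Cfsg.Agent.Perm
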