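import Cfsg.Agent.Perm.Jordan
import Cfsg.Agent.Core.Primitive

/-! Burnside's theorem on minimal normal subgroups of doubly transitive groups. -/

set_option autoImplicit false

namespace Cfsg.Agent.Perm

open Subgroup MulAction Cfsg.Agent.Comp
open scoped Pointwise commutatorElement

variable {G Ω : Type*} [Group G] [MulAction G Ω]

theorem prim_or_frob [Finite Ω] [FaithfulSMul G Ω] (h2 : KT Ω (⊤ : Subgroup G) 2) {N : Subgroup G}
    [hN : N.Normal] (h1 : KT Ω N 1) :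
    IsPreprimitive N Ω ∨ ∀ g ∈ N, ∀ a b : Ω, b ≠ a → g • a = a → g • b = b → g = 1 := by
  have := kt_one_iff'.1 h1
  refine or_iff_not_imp_left.2 fun h => ?_
  let Bl : Set Ω → Prop := fun B => ∀ g ∈ N, ∀ x ∈ B, g • x ∈ B → ∀ y ∈ B, g • y ∈ B
  have b1 : ∀ (u : G) B, Bl B → Bl (u • B) := fun u B hB g hg x hx e y hy => by
    rw [Set.mem_smul_set_iff_inv_smul_mem] at *
    simpa [mul_smul] using hB _ (hN.conj_mem' g hg u) _ hx (by simpa [mul_smul] using e) _ hy
  obtain ⟨B, ⟨B1, B2, B3⟩, B4⟩ := Set.Finite.exists_minimal (s := {B | Bl B ∧ B.Nontrivial ∧ B ≠ Set.univ})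
    (Set.toFinite _) (by
      by_contra e
      refine h (IsPreprimitive.mk fun {B} hB => by_contra fun e' => e ⟨B, fun g hg x hx e y hy => ?_,
        Set.not_subsingleton_iff.1 fun h => e' (Or.inl h), fun h => e' (Or.inr h)⟩)
      rw [← hB.smul_eq_of_mem (g := ⟨g, hg⟩) hx e]
      exact Set.smul_mem_smul_set hy)
  have b2 : ∀ (u v : G) x y, x ≠ y → x ∈ u • B → y ∈ u • B → x ∈ v • B → y ∈ v • B → u • B ⊆ v • B :=
    fun u v x y xy x1 y1 x2 y2 => by
      have k : ∀ {z}, z ∈ u • B → z ∈ v • B → u⁻¹ • z ∈ B ∩ (u⁻¹ * v) • B := fun h1 h2 =>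
        ⟨Set.mem_smul_set_iff_inv_smul_mem.1 h1, by rw [mul_smul]; exact Set.smul_mem_smul_set h2⟩
      have := B4 (y := B ∩ (u⁻¹ * v) • B) ⟨fun g hg x hx e y hy => ⟨B1 g hg x hx.1 e.1 y hy.1,
        b1 _ B B1 g hg x hx.2 e.2 y hy.2⟩, ⟨_, k x1 x2, _, k y1 y2, by simpa using xy⟩,
        fun e => B3 (Set.eq_univ_of_univ_subset (e.ge.trans Set.inter_subset_left))⟩
        Set.inter_subset_left
      rw [Set.smul_set_subset_iff_subset_inv_smul_set, ← mul_smul]
      exact fun z hz => (this hz).2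
  have b3 : ∀ x y, x ≠ y → ∃ u : G, x ∈ u • B ∧ y ∈ u • B := fun x y xy => by
    obtain ⟨a, a1, b, a2, ab⟩ := B2
    obtain ⟨u, -, rfl, rfl⟩ := h2.two le_rfl ab xy
    exact ⟨u, Set.smul_mem_smul_set a1, Set.smul_mem_smul_set a2⟩
  have b4 : ∀ g ∈ N, ∀ a b : Ω, g • a = a → g • b = b → ∀ u : G, a ∈ u • B → b ∈ u • B → a ≠ b →
      ∀ c ∉ u • B, g • c = c := fun g hg a b ha hb u a1 a2 ab c hc => by
    obtain ⟨v, v1, v2⟩ := b3 a c fun e => hc (e ▸ a1)
    obtain ⟨w, w1, w2⟩ := b3 b c fun e => hc (e ▸ a2)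
    by_contra e
    exact hc (b2 v u a b ab v1 (b2 w v c _ (Ne.symm e) w2 (b1 w B B1 g hg b w1 (hb.symm ▸ w1) c w2) v2
      (b1 v B B1 g hg a v1 (ha.symm ▸ v1) c v2) w1) a1 a2 v2)
  intro g hg a b ab ha hb
  obtain ⟨u, u1, u2⟩ := b3 a b ab.symm
  obtain ⟨c, hc⟩ := (Set.ne_univ_iff_exists_notMem _).1 B3
  have c1 : u • c ∉ u • B := fun e => hc (Set.smul_mem_smul_set_iff.1 e)
  refine eq_one_of_smul (Ω := Ω) fun x => ?_
  by_cases hx : x ∈ u • B
  swap
  · exact b4 g hg a b ha hb u u1 u2 ab.symm x hx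
  by_cases e : x = a
  · rwa [e]
  have ac : a ≠ u • c := fun e => c1 (e ▸ u1)
  obtain ⟨v, v1, v2⟩ := b3 a _ ac
  exact b4 g hg a _ ha (b4 g hg a b ha hb u u1 u2 ab.symm _ c1) v v1 v2 ac x
    fun e' => c1 (b2 v u x a e e' v1 hx u1 v2)

theorem simple_of_prim [Finite G] [FaithfulSMul G Ω] (h2 : KT Ω (⊤ : Subgroup G) 2) {N : Subgroup G}
    [hN : N.Normal] (hmin : ∀ M : Subgroup G, M.Normal → M ≤ N → M = ⊥ ∨ M = N) (h0 : N ≠ ⊥)
    (h1 : IsPreprimitive N Ω) : IsSimpleGroup N := by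
  have := (nontrivial_iff_ne_bot N).2 h0
  obtain ⟨T, T1, T2, T3⟩ := Core.exists_minNormal (G := N)
  suffices T = ⊤ from ⟨fun K hK => T3 K hK (this ▸ le_top) |>.imp_right (·.trans this)⟩
  by_contra hT
  let C : G → Subgroup N := fun g => T.comap (MulAut.conjNormal g⁻¹).toMonoidHom
  have C0 : ∀ g (n : N), n ∈ C g ↔ MulAut.conjNormal g⁻¹ n ∈ T := fun _ _ => Iff.rfl
  have C1 : ∀ g, Core.IsMinNormal (C g) := fun g => ⟨T1.comap _, fun e => T2 (by
      rw [← map_comap_eq_self_of_surjective (MulAut.conjNormal g⁻¹).surjective T]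
      exact (congrArg _ e).trans (Subgroup.map_bot _)), fun K hK h =>
    (T3 _ (hK.map (MulAut.conjNormal g⁻¹).toMonoidHom (MulAut.conjNormal g⁻¹).surjective)
      (map_le_iff_le_comap.2 h)).imp (map_eq_bot_iff_of_injective _ (MulAut.conjNormal g⁻¹).injective).1
      fun e => by
        simp only [C, ← e]
        exact (comap_map_eq_self_of_injective (MulAut.conjNormal g⁻¹).injective K).symm⟩
  obtain ⟨g, hg⟩ : ∃ g, ¬ C g ≤ T := by
    by_contra! h
    refine ((hmin (T.map N.subtype) ⟨?_⟩ (map_subtype_le _)).imp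
      (map_eq_bot_iff_of_injective _ N.subtype_injective).1 fun e => map_injective N.subtype_injective
        (e.trans (by rw [← MonoidHom.range_eq_map, range_subtype]))).elim T2 hT
    rintro _ ⟨n, hn, rfl⟩ g
    exact ⟨MulAut.conjNormal g n, h g ((C0 _ _).2 (by simpa using hn)), rfl⟩
  have k1 : KT Ω T 1 := kt_one_of_normal T2
  have k2 : ∀ u, KT Ω (C u) 1 := fun u => have := (C1 u).1; kt_one_of_normal (C1 u).2.1
  have c1 := (C1 g).le_centralizer hg
  have c2 : centralizer (T : Set N) ≤ C g := fun c hc => by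
    obtain ⟨a, -⟩ := exists_smul_ne (Ω := Ω) (exists_ne (1 : N)).choose_spec
    obtain ⟨n, n1, u, u1, rfl⟩ := exists_mul_stab (k2 g) a c
    rwa [eq_one_of_centralizes k1 ((mul_mem_cancel_left (c1 n1)).1 hc) u1, mul_one]
  have k3 : ∀ t ∈ T, ∀ s ∈ C g, ∀ a : Ω, t • a = s • a → orderOf t = orderOf s := fun t t1 s s1 a e => by
    have e1 : ∀ n : ℕ, t ^ n • a = s ^ n • a := fun n => by
      induction n with
      | zero => simp
      | succ n ih => rw [pow_succ, mul_smul, e, ← mul_smul, c1 s1 _ (pow_mem t1 n), mul_smul, ih,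
          pow_succ', mul_smul]
    exact orderOf_eq_orderOf_iff.2 fun n => ⟨fun h => eq_one_of_centralizes k1 (c1 (pow_mem s1 n))
      (by rw [← e1, h, one_smul]), fun h => eq_one_of_centralizes (k2 g)
        (le_centralizer_iff.1 c1 (pow_mem t1 n)) (by rw [e1, h, one_smul])⟩
  have k4 : ∀ t ∈ T, ∀ s ∈ T, t ≠ 1 → s ≠ 1 → orderOf t = orderOf s := fun t t1 s s1 t2 s2 => by
    obtain ⟨a, ha⟩ := exists_smul_ne (Ω := Ω) t2
    have r : ∀ u ∈ T, u • a = a → u = 1 := fun u hu =>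
      eq_one_of_centralizes (k2 g) (le_centralizer_iff.1 c1 hu)
    obtain ⟨u, -, u1, u2⟩ := h2.two le_rfl ha.symm (fun e => s2 (r s s1 e.symm) : a ≠ s • a)
    have e1 : s • a = MulAut.conjNormal u t • a := u2.symm.trans (conj_smul_of_fix u1).symm
    have e2 : MulAut.conjNormal u t ∈ C u := (C0 _ _).2 (by simpa using t1)
    rw [← MulEquiv.orderOf_eq (MulAut.conjNormal u)]
    by_cases h : C u ≤ T
    · rw [reg_inj r s1 (h e2) e1]
    · exact (k3 s s1 _ (c2 ((C1 u).le_centralizer h e2)) a e1).symm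
  obtain ⟨p, hp, hd⟩ := Core.exists_prime_dvd_card T2
  obtain ⟨x, x1, x2⟩ := Core.exists_prime_orderOf_mem hp hd
  have := Fact.mk hp
  have k5 : IsPGroup p T := Core.isPGroup_of_pow_eq_one fun t ht => by
    by_cases e : t = 1
    · simp [e]
    · rw [← x2, ← k4 t ht x x1 e (by rintro rfl; exact hp.ne_one (x2.symm.trans orderOf_one)),
        pow_orderOf_eq_one]
  have := k5.isNilpotent
  have e := Core.IsMinNormal.eq_of_le (C1 g) ((le_centralizer_iff_isMulCommutative.2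
    (Core.IsMinNormal.isMulCommutative ⟨T1, T2, T3⟩ inferInstance)).trans c2) T2
  exact hg e.ge

theorem burnside_min_normal [Finite G] [Finite Ω] [FaithfulSMul G Ω]
    (h : IsMultiplyPretransitive G Ω 2) {N : Subgroup G} [N.Normal] (h0 : N ≠ ⊥)
    (hmin : ∀ M : Subgroup G, M.Normal → M ≤ N → M = ⊥ ∨ M = N) (hr : ¬ ∀ a : Ω, stabilizer N a = ⊥) :
    IsSimpleGroup N ∧ IsPreprimitive N Ω := by
  have := isPreprimitive_of_is_two_pretransitive h
  have h2 := kt_two_top_iff.1 h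
  have h1 : KT Ω N 1 := kt_one_of_normal h0
  suffices IsPreprimitive N Ω from ⟨simple_of_prim h2 hmin h0 this, this⟩
  refine (prim_or_frob h2 h1).resolve_right fun e => hr fun a => ?_
  obtain ⟨K, k1, k2⟩ := exists_kernel h1 a fun g hg b => e g hg a b
  rcases hmin K (kernel_normal k1) fun g hg => ((k1 g).1 hg).1 with rfl | rfl
  · exact stab_bot_iff.2 fun g _ _ => eq_one_of_centralizes k2 (by simp [mem_centralizer_iff]) ‹_›
  · exact stab_bot_iff.2 fun g hg => kernel_reg k1 g hg a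

end Cfsg.Agent.Perm
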