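import Cfsg.Agent.Perm.TwoP
import Cfsg.Agent.Char.Misc
import Cfsg.Agent.Char.Galois

/-! The centraliser ring of a permutation representation. -/

set_option autoImplicit false

namespace Cfsg.Agent.Perm

open Subgroup MulAction Matrix Finset Module Representation Cfsg.Agent.Char
open scoped ComplexConjugate

section rep
variable {G V : Type*} [Group G] [AddCommGroup V] [Module ℂ V] [FiniteDimensional ℂ V]
  (ρ : Representation ℂ G V)

theorem spec (T : End ℂ V) (hT : ∀ g, Commute T (ρ g)) :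
    ∃ (s : Finset ℂ) (θ : ℂ → G → ℂ), (∀ μ, IsCharacter G (θ μ)) ∧ (∀ μ ∈ s, T.HasEigenvalue μ) ∧
      ∀ n g, LinearMap.trace ℂ V (ρ g * T ^ n) = ∑ μ ∈ s, μ ^ n * θ μ g := by
  classical
  have hds := DirectSum.isInternal_submodule_of_iSupIndep_of_iSup_eq_top
    T.independent_maxGenEigenspace T.iSup_maxGenEigenspace_eq_top
  have hf := WellFoundedGT.finite_ne_bot_of_iSupIndep T.independent_maxGenEigenspace
  have hc : ∀ n g, Commute T (ρ g * T ^ n) := fun n g => (hT g).mul_right (.self_pow ..)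
  refine ⟨hf.toFinset, fun μ => (ρ.subrepresentation (T.maxGenEigenspace μ) fun g =>
    T.mapsTo_maxGenEigenspace_of_comm (hT g) μ).character, fun μ => isCharacter_rep _, fun μ h =>
    (End.hasUnifEigenvalue_iff_hasUnifEigenvalue_one (by simp)).1 (hf.mem_toFinset.1 h), fun n g => ?_⟩
  rw [LinearMap.trace_eq_sum_trace_restrict' hds hf (T.mapsTo_maxGenEigenspace_of_comm (hc n g))]
  refine sum_congr rfl fun μ _ => ?_
  induction n with
  | zero => simp only [pow_zero, mul_one, one_mul]; rfl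
  | succ n ih =>
    have h1 := T.mapsTo_maxGenEigenspace_of_comm (Commute.refl _) μ
    have h2 := T.mapsTo_maxGenEigenspace_of_comm (hc n g) μ
    rw [pow_succ' μ, mul_assoc μ, ← ih, ← LinearMap.trace_comp_eq_mul_of_commute_of_isNilpotent μ
      (LinearMap.restrict_commute (hc n g).symm h2 h1)
      (T.isNilpotent_restrict_maxGenEigenspace_sub_algebraMap μ), ← LinearMap.restrict_comp h1 h2]
    simp only [pow_succ, ← mul_assoc]
    rfl

variable [Fintype G]

/-- the central idempotent of a character -/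
noncomputable def eid (χ : G → ℂ) : End ℂ V := (χ 1 / Nat.card G) • ∑ g, conj (χ g) • ρ g

omit [FiniteDimensional ℂ V] in
theorem eid_comm {χ : G → ℂ} (h : IsClassFunction G χ) (x : G) : Commute (eid ρ χ) (ρ x) := by
  refine Commute.smul_left ?_ _
  simp only [Commute, SemiconjBy, sum_mul, mul_sum, smul_mul_assoc, mul_smul_comm, ← map_mul]
  rw [← Equiv.sum_comp (MulAut.conj x).toEquiv]
  exact sum_congr rfl fun g _ => by simp [h g x, ← map_mul]

omit [FiniteDimensional ℂ V] in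
theorem eid_mul {χ ψ : G → ℂ} (h : IsIrrCharacter G χ) (h' : IsIrrCharacter G ψ) :
    eid ρ χ * eid ρ ψ = classInner χ ψ • eid ρ ψ := by
  have h1 := card_ne_zero G
  have h2 : ∀ x, ∑ g, conj (χ g) * conj (ψ (g⁻¹ * x)) =
      Nat.card G * classInner χ ψ * conj (ψ x) / ψ 1 := fun x => by
    have := h'.conj.sum_mul_apply_mul h.isClassFunction x
    rw [h'.isCharacter.conj_apply_one] at this
    rw [card_mul_classInner, ← this, ← Equiv.sum_comp (Equiv.inv G)]
    simp [h.isCharacter.apply_inv]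
  have h3 : (∑ g, conj (χ g) • ρ g) * ∑ g, conj (ψ g) • ρ g =
      ∑ x, (Nat.card G * classInner χ ψ * conj (ψ x) / ψ 1) • ρ x := by
    simp only [← h2, sum_smul]
    rw [sum_mul_sum, sum_comm (f := fun x g => _ • ρ x)]
    refine sum_congr rfl fun g _ => ?_
    rw [← Equiv.sum_comp (Equiv.mulLeft g⁻¹)]
    simp [← map_mul, smul_smul, mul_comm]
  rw [eid, eid, smul_mul_smul_comm, h3]
  simp only [smul_sum, smul_smul]
  refine sum_congr rfl fun x _ => congrArg (· • _) ?_
  by_cases e : χ = ψ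
  · have := h'.one_ne_zero
    subst e; field_simp
  · simp [h.classInner_of_ne h' e]

omit [FiniteDimensional ℂ V] in
theorem trace_eid (χ : G → ℂ) :
    LinearMap.trace ℂ V (eid ρ χ) = χ 1 * classInner ρ.character χ := by
  simp [eid, classInner_def, character, mul_comm, div_eq_mul_inv, mul_assoc, mul_left_comm]

theorem eid_ne {χ : G → ℂ} (h : IsIrrCharacter G χ) (h1 : classInner ρ.character χ ≠ 0) :
    eid ρ χ ≠ 0 := fun e => mul_ne_zero h.one_ne_zero h1 (by rw [← trace_eid, e, map_zero])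

theorem mf_span (h : ∀ χ, IsIrrCharacter G χ → classInner ρ.character χ = 0 ∨
    classInner ρ.character χ = 1) {T : End ℂ V} (hT : ∀ g, Commute T (ρ g)) :
    T ∈ Submodule.span ℂ (eid ρ '' {χ | IsIrrCharacter G χ ∧ classInner ρ.character χ = 1}) := by
  classical
  let v : {χ : IrrCharacter G // classInner ρ.character χ = 1} → IntertwiningMap ρ ρ :=
    fun χ => ⟨eid ρ χ.1, fun g => eid_comm ρ χ.1.2.isClassFunction g⟩
  have h1 : LinearIndependent ℂ v := by
    refine Fintype.linearIndependent_iff.2 fun c hc i => ?_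
    have := congrArg (fun f => f.toLinearMap * eid ρ i.1) hc
    simp only [IntertwiningMap.toLinearMap_sum, IntertwiningMap.toLinearMap_smul, sum_mul, v,
      smul_mul_assoc, eid_mul ρ (Subtype.prop _) i.1.2, irr_classInner, ← Subtype.ext_iff] at this
    simpa [eid_ne ρ i.1.2 (by simp [i.2])] using this
  have h2 := h1.span_eq_top_of_card_eq_finrank' (by
    have := classInner_rep ρ ρ
    rw [(isCharacter_rep ρ).isClassFunction.classInner_eq_sum_irr, sum_congr rfl (g := fun χ : IrrCharacter G =>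
      if classInner ρ.character χ = 1 then 1 else 0) fun χ _ => by
        rcases h _ χ.2 with e | e <;> simp [e]] at this
    simpa [Fintype.card_subtype] using this)
  have := Submodule.mem_map_of_mem (f := IntertwiningMap.toLinearMapl ρ ρ)
    (h2.ge (Submodule.mem_top (x := ⟨T, hT⟩)))
  rw [Submodule.map_span] at this
  refine Submodule.span_mono ?_ this
  rintro _ ⟨_, ⟨χ, rfl⟩, rfl⟩
  exact ⟨χ.1, ⟨χ.1.2, χ.2⟩, rfl⟩

theorem comm_of_mf (h : ∀ χ, IsIrrCharacter G χ → classInner ρ.character χ = 0 ∨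
    classInner ρ.character χ = 1) {S T : End ℂ V} (hS : ∀ g, Commute S (ρ g))
    (hT : ∀ g, Commute T (ρ g)) : Commute S T := by
  have := mf_span ρ h hT
  clear hT
  induction this using Submodule.span_induction with
  | mem _ h =>
    obtain ⟨χ, -, rfl⟩ := h
    exact (Commute.sum_right _ _ _ fun g _ => (hS g).smul_right _).smul_right _
  | zero => exact .zero_right _
  | add _ _ _ _ a b => exact a.add_right b
  | smul _ _ _ a => exact a.smul_right _

theorem mf_of_comm (h : ∀ S T : End ℂ V, (∀ g, Commute S (ρ g)) → (∀ g, Commute T (ρ g)) →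
    Commute S T) {χ : G → ℂ} (hχ : IsIrrCharacter G χ) :
    classInner ρ.character χ = 0 ∨ classInner ρ.character χ = 1 := by
  obtain ⟨n, σ, hσ, rfl⟩ := hχ
  rw [classInner_rep, Nat.cast_eq_zero, Nat.cast_eq_one, ← Nat.le_one_iff_eq_zero_or_eq_one]
  by_cases h0 : ∀ a : IntertwiningMap σ ρ, a = 0
  · exact finrank_le_one 0 fun a => ⟨0, by rw [h0 a, smul_zero]⟩
  push Not at h0
  obtain ⟨a, ha⟩ := h0
  obtain ⟨l, hl⟩ := a.toLinearMap.exists_leftInverse_of_injective (LinearMap.ker_eq_bot.2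
    ((IsIrreducible.injective_or_eq_zero a).resolve_right ha))
  let b : V →ₗ[ℂ] Fin n → ℂ := (Nat.card G : ℂ)⁻¹ • ∑ g, σ g ∘ₗ l ∘ₗ ρ g⁻¹
  have hb : ∀ w, b (a w) = w := fun w => by
    have : ∀ w, l (a w) = w := fun w => congr($hl w)
    simp [b, ← a.isIntertwining, this, ← Nat.cast_smul_eq_nsmul ℂ, smul_smul]
  have hb' : ∀ g v, b (ρ g v) = σ g (b v) := fun g v => by
    simp only [b, LinearMap.smul_apply, LinearMap.sum_apply, map_smul, map_sum, LinearMap.comp_apply]
    rw [← Equiv.sum_comp (Equiv.mulLeft g)]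
    simp [← End.mul_apply, ← map_mul]
  have hc : ∀ c : IntertwiningMap σ ρ, ∀ g, Commute (c.toLinearMap ∘ₗ b) (ρ g) := fun c g =>
    LinearMap.ext fun v => by simp [hb', c.isIntertwining]
  refine finrank_le_one a fun c => ?_
  obtain ⟨β, hβ⟩ := schur_scalar σ (b ∘ₗ c.toLinearMap) fun g =>
    LinearMap.ext fun v => by simp [hb', c.isIntertwining]
  refine ⟨β, IntertwiningMap.ext (LinearMap.ext fun w => ?_)⟩
  have := LinearMap.congr_fun (h _ _ (hc a) (hc c)).eq (a w)
  have h2 : b (c w) = β • w := congr($hβ w)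
  simpa [hb, h2] using this

end rep

theorem eig_integral {V : Type*} [AddCommGroup V] [Module ℂ V] {T : End ℂ V} (h : IsIntegral ℤ T)
    {μ : ℂ} (h1 : T.HasEigenvalue μ) : IsIntegral ℤ μ := by
  obtain ⟨P, a, b⟩ := h
  obtain ⟨v, hv⟩ := h1.exists_hasEigenvector
  have := End.aeval_apply_of_hasEigenvector (p := P.map (algebraMap ℤ ℂ)) hv
  rw [Polynomial.aeval_map_algebraMap, Polynomial.aeval_def, b, Polynomial.eval_map] at this
  exact ⟨P, a, (smul_eq_zero.1 this.symm).resolve_right hv.2⟩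

section perm
variable {G Ω : Type*} [Group G] [Fintype Ω] [MulAction G Ω]

variable (G Ω) in
/-- the permutation character -/
noncomputable abbrev pch : G → ℂ := fun g : G => (Nat.card (MulAction.fixedBy Ω g) : ℂ)

theorem sum_sdeg (a : Ω) [Fintype (orbitRel.Quotient (stabilizer G a) Ω)] :
    ∑ q : orbitRel.Quotient (stabilizer G a) Ω, sdeg G a q.out = Fintype.card Ω := by
  rw [← Nat.card_eq_fintype_card, Nat.card_congr (selfEquivSigmaOrbits (stabilizer G a) Ω),
    Nat.card_sigma]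
  rfl

omit [Fintype Ω] in
theorem sdeg_congr {a y z : Ω} (h : z ∈ orbit (stabilizer G a) y) : sdeg G a z = sdeg G a y := by
  rw [sdeg, orbit_eq_iff.2 h, sdeg]

omit [Fintype Ω] in
theorem sdeg_out (a z : Ω) :
    sdeg G a (⟦z⟧ : orbitRel.Quotient (stabilizer G a) Ω).out = sdeg G a z :=
  sdeg_congr (Quotient.mk_out (s := orbitRel _ Ω) z)

omit [Fintype Ω] in
theorem mk_eq_self {a z : Ω} : (⟦z⟧ : orbitRel.Quotient (stabilizer G a) Ω) = ⟦a⟧ ↔ z = a :=
  ⟨fun h => (Quotient.exact h : z ∈ orbit _ a).elim fun g h => h.symm.trans g.2, fun h => h ▸ rfl⟩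

omit [Fintype Ω] in
theorem sdeg_self (a : Ω) : sdeg G a a = 1 := Nat.card_eq_one_iff_exists.2
  ⟨⟨a, mem_orbit_self a⟩, fun ⟨_, g, h⟩ => Subtype.ext (h.symm.trans g.2)⟩

variable [DecidableEq Ω]

theorem trace_perm (T : Matrix Ω Ω ℂ) (g : G) :
    LinearMap.trace ℂ _ (permRep ℂ G Ω g * toLin' T) = ∑ y, T (g⁻¹ • y) y := by
  rw [LinearMap.trace_eq_matrix_trace ℂ (Pi.basisFun ℂ Ω)]
  simp [Matrix.trace, permRep]

omit [DecidableEq Ω] in
theorem permRep_char : (permRep ℂ G Ω).character = pch G Ω := funext fun g => by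
  classical
  have := trace_perm (Ω := Ω) 1 g
  rw [toLin'_one, ← End.one_eq_id, mul_one] at this
  rw [character, this]
  simp only [one_apply, inv_smul_eq_iff]
  simp [Fintype.card_subtype, eq_comm]

theorem MInv.comm {T : Matrix Ω Ω ℂ} (h : MInv G T) (g : G) :
    Commute (toLin' T) (permRep ℂ G Ω g) := LinearMap.ext fun f => h.mulVec g⁻¹ f

theorem minv_of_comm {T : End ℂ (Ω → ℂ)} (h : ∀ g, Commute T (permRep ℂ G Ω g)) :
    MInv G (LinearMap.toMatrix' T) := fun g y z => by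
  have := congrFun (LinearMap.congr_fun (h g).eq (Pi.single z 1)) (g • y)
  simp only [End.mul_apply, permRep, MonoidHom.coe_mk, OneHom.coe_mk, LinearMap.coe_mk,
    AddHom.coe_mk, inv_smul_smul] at this
  rw [LinearMap.toMatrix'_apply, LinearMap.toMatrix'_apply, ← this]
  exact congrArg (T · _) (funext fun x => by simp [Pi.single_apply, inv_smul_eq_iff])

theorem orbM_integral (a b : Ω) : IsIntegral ℤ (toLin' (orbM G ℂ a b)) := by
  classical
  have := (Matrix.isIntegral (M := of fun y z => if ∃ g : G, g • a = y ∧ g • b = z then (1 : ℤ) else 0)).map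
    ((toLinAlgEquiv'.toAlgHom.restrictScalars ℤ).comp (Algebra.ofId ℤ ℂ).mapMatrix)
  convert this using 1
  refine congrArg toLin' (Matrix.ext fun y z => ?_)
  simp [orbM]

variable [Fintype G]

theorem eid_tr {χ : G → ℂ} (h : IsCharacter G χ) : (LinearMap.toMatrix' (eid (permRep ℂ G Ω) χ))ᵀ =
    LinearMap.toMatrix' (eid (permRep ℂ G Ω) fun g => conj (χ g)) := by
  ext y z
  simp only [eid, transpose_apply, LinearMap.toMatrix'_apply, h.conj_apply_one, LinearMap.smul_apply,
    LinearMap.sum_apply, Pi.smul_apply, Finset.sum_apply]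
  rw [← Equiv.sum_comp (Equiv.inv G)]
  simp [h.apply_inv, permRep, Pi.single_apply, inv_smul_eq_iff, eq_comm (a := y)]

omit [DecidableEq Ω] in
theorem sum_smul_eq [IsPretransitive G Ω] (F : Ω → ℂ) (y : Ω) :
    Fintype.card Ω * ∑ g : G, F (g⁻¹ • y) = Nat.card G * ∑ x, F x := by
  have h1 : ∀ z, ∑ g : G, F (g⁻¹ • z) = ∑ g : G, F (g⁻¹ • y) := fun z => by
    obtain ⟨u, rfl⟩ := exists_smul_eq G y z
    rw [← Equiv.sum_comp (Equiv.mulLeft u)]
    simp [smul_smul]
  have h2 : ∀ g : G, ∑ z, F (g⁻¹ • z) = ∑ x, F x := fun g => Equiv.sum_comp (MulAction.toPerm g⁻¹) F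
  have := sum_comm (s := univ) (t := univ) (f := fun (g : G) (z : Ω) => F (g⁻¹ • z))
  simpa [h1, h2] using this.symm

theorem orb_spec [IsPretransitive G Ω] (a b : Ω) : ∃ (s : Finset ℂ)
    (c : ℂ → IrrCharacter G → ℕ), (∀ μ ∈ s, IsIntegral ℤ μ) ∧
    (∀ χ : IrrCharacter G, classInner (pch G Ω) χ = (∑ μ ∈ s, c μ χ : ℕ)) ∧
    ∑ μ ∈ s, μ * c μ (irrOne G) = sdeg G a b ∧ ∀ n : ℕ,
      (orbM G ℂ a b ^ n).trace = ∑ χ : IrrCharacter G, (∑ μ ∈ s, μ ^ n * c μ χ) * χ.1 1 := by
  obtain ⟨s, θ, h1, h2, h3⟩ := spec (permRep ℂ G Ω) _ (orbM_inv a b).comm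
  choose c hc using fun μ (χ : IrrCharacter G) => (h1 μ).classInner_nat χ.2.isCharacter
  simp only [← toLin'_pow, trace_perm] at h3
  refine ⟨s, c, fun μ h => eig_integral (orbM_integral a b) (h2 μ h), fun χ => ?_, ?_,
    fun n => ?_⟩
  · rw [Nat.cast_sum, ← sum_congr rfl fun μ _ => hc μ χ, ← classInner_sum_left, ← permRep_char]
    congr 1
    ext g
    simpa [character, ← trace_perm, ← End.one_eq_id] using h3 0 g
  · have h4 := fun y => (orbM_inv (G := G) (K := ℂ) a b).row_sum y a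
    have h5 : (Fintype.card Ω : ℂ) ≠ 0 := Nat.cast_ne_zero.2 (Fintype.card_pos_iff.2 ⟨a⟩).ne'
    have h6 := card_ne_zero G
    simp only [← hc, irrOne_coe, classInner_one_right, mul_left_comm _ (Nat.card G : ℂ)⁻¹, mul_sum]
    rw [sum_comm]
    have h7 := h3 1
    simp only [pow_one] at h7
    simp only [← mul_sum, ← h7]
    refine mul_left_cancel₀ h5 ?_
    rw [sum_comm, mul_left_comm, mul_sum, sum_congr rfl fun y _ => sum_smul_eq (orbM G ℂ a b · y) y,
      ← mul_sum, sum_comm, inv_mul_cancel_left₀ h6]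
    simp [h4, orbM_row]
  · rw [sum_congr rfl fun χ _ => sum_mul .., sum_comm]
    have := h3 n 1
    simp only [inv_one, one_smul] at this
    exact this.trans <| sum_congr rfl fun μ _ => by
      rw [(h1 μ).isClassFunction.apply_eq_sum_irr, mul_sum]
      simp only [hc, mul_assoc]

theorem pch_mf_iff : (∀ χ, IsIrrCharacter G χ → classInner (pch G Ω) χ = 0 ∨
    classInner (pch G Ω) χ = 1) ↔ ∀ S T : End ℂ (Ω → ℂ), (∀ g, Commute S (permRep ℂ G Ω g)) →
      (∀ g, Commute T (permRep ℂ G Ω g)) → Commute S T := by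
  rw [← permRep_char]
  exact ⟨fun h _ _ => comm_of_mf _ h, fun h _ => mf_of_comm _ h⟩

omit [DecidableEq Ω] in
theorem real_of_generous (h : ∀ a b : Ω, ∃ g : G, g • a = b ∧ g • b = a) {χ : G → ℂ}
    (h1 : IsIrrCharacter G χ) (h2 : classInner (pch G Ω) χ ≠ 0) :
    classInner (pch G Ω) χ = 1 ∧ ∀ g, conj (χ g) = χ g := by
  classical
  have h3 : ∀ T : End ℂ (Ω → ℂ), (∀ g, Commute T (permRep ℂ G Ω g)) →
      (LinearMap.toMatrix' T)ᵀ = LinearMap.toMatrix' T := fun T hT => Matrix.ext fun y z => by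
    obtain ⟨g, a, b⟩ := h y z
    rw [← minv_of_comm hT g y z, a, b, transpose_apply]
  refine ⟨(pch_mf_iff.2 (fun S T hS hT => LinearMap.toMatrix'.injective ?_) χ h1).resolve_left h2, ?_⟩
  · rw [← h3 _ fun g => (hS g).mul_left (hT g), LinearMap.toMatrix'_mul, LinearMap.toMatrix'_mul,
      transpose_mul, h3 S hS, h3 T hT]
  · have h4 := LinearMap.toMatrix'.injective ((eid_tr h1.isCharacter).symm.trans
      (h3 _ (eid_comm _ h1.isClassFunction)))
    have h5 := eid_mul (permRep ℂ G Ω) h1.conj h1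
    rw [h4, eid_mul _ h1 h1, h1.classInner_self] at h5
    refine congrFun (h1.conj.eq_of_classInner_ne_zero h1 fun e => ?_)
    exact eid_ne _ h1 (permRep_char (G := G) (Ω := Ω) ▸ h2) (by simpa [e] using h5)

theorem orbM_symm (h : ∀ χ, IsIrrCharacter G χ → classInner (pch G Ω) χ ≠ 0 →
    classInner (pch G Ω) χ = 1 ∧ ∀ g, conj (χ g) = χ g) (a b : Ω) :
    (orbM G ℂ a b)ᵀ = orbM G ℂ a b := by
  have := mf_span (permRep ℂ G Ω) (fun χ h1 => by
    rw [permRep_char, or_iff_not_imp_left]; exact fun e => (h χ h1 e).1) (orbM_inv a b).comm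
  rw [← LinearMap.toMatrix'_toLin' (orbM G ℂ a b)]
  generalize toLin' (orbM G ℂ a b) = T at this
  induction this using Submodule.span_induction with
  | mem _ h1 =>
    obtain ⟨χ, ⟨h1, h2⟩, rfl⟩ := h1
    rw [eid_tr h1.isCharacter, funext (h χ h1 (by simp [← permRep_char, h2])).2]
  | zero => simp
  | add _ _ _ _ a b => simp [a, b]
  | smul _ _ _ a => simp [a]

omit [DecidableEq Ω]
variable [IsPretransitive G Ω]

theorem pch_one (a : Ω) : classInner (pch G Ω) (fun _ => 1) = 1 := by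
  rw [classInner_perm_one, Nat.cast_eq_one]
  exact Nat.card_eq_one_iff_exists.2 ⟨⟦a⟧, fun q => q.inductionOn fun y =>
    Quotient.sound (exists_smul_eq G a y)⟩

theorem pch_pch (a : Ω) :
    classInner (pch G Ω) (pch G Ω) = Nat.card (orbitRel.Quotient (stabilizer G a) Ω) := by
  classical
  exact (congrArg _ (perm_eq_indFun Ω a)).trans ((classInner_indFun_right _ _
    (isCharacter_perm Ω).isClassFunction).trans (classInner_perm_one (G := stabilizer G a) Ω))

theorem dvd_sdeg {f : ℕ} (hf : ∀ χ, IsIrrCharacter G χ → χ ≠ (fun _ => 1) →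
    classInner (pch G Ω) χ ≠ 0 → ∃ m : ℕ, χ 1 = (f : ℂ) * m) {a b : Ω} (hab : b ≠ a) :
    f ∣ sdeg G a b := by
  classical
  obtain ⟨s, c, h1, h2, h3, h4⟩ := orb_spec (G := G) a b
  have h5 := h4 1
  simp only [pow_one, Matrix.trace, Matrix.diag, orbM_diag hab, sum_const_zero] at h5
  have h6 : ∀ χ : IrrCharacter G, ∃ ω, IsIntegral ℤ ω ∧ (χ ≠ irrOne G →
      (∑ μ ∈ s, μ * c μ χ) * χ.1 1 = f * ω) := fun χ => by
    by_cases e : χ = irrOne G
    · exact ⟨0, isIntegral_zero, fun h => absurd e h⟩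
    by_cases e' : classInner (pch G Ω) χ = 0
    · rw [h2, Nat.cast_eq_zero, sum_eq_zero_iff] at e'
      exact ⟨0, isIntegral_zero, fun _ => by rw [sum_eq_zero fun μ h => by simp [e' μ h]]; simp⟩
    obtain ⟨m, hm⟩ := hf _ χ.2 (fun h => e (Subtype.ext h)) e'
    exact ⟨(∑ μ ∈ s, μ * c μ χ) * m, (IsIntegral.sum _ fun μ h => (h1 μ h).mul
      (isIntegral_algebraMap (x := (c μ χ : ℤ)))).mul (isIntegral_algebraMap (x := (m : ℤ))),
      fun _ => by rw [hm]; ring⟩
  choose ω h6 h7 using h6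
  rw [← add_sum_erase _ _ (mem_univ (irrOne G)), h3, sum_congr rfl fun χ h => h7 χ (ne_of_mem_erase h),
    ← mul_sum, irrOne_coe, mul_one] at h5
  by_cases e : f = 0
  · exact absurd (by simpa [e] using h5.symm) (sdeg_ne (G := G) a b)
  refine nat_dvd_of_isIntegral_div e ?_
  rw [eq_neg_of_add_eq_zero_left h5.symm, neg_div, mul_div_cancel_left₀ _ (Nat.cast_ne_zero.2 e)]
  exact (IsIntegral.sum _ fun χ _ => h6 χ).neg

theorem exists_mult (a : Ω) : ∃ m : IrrCharacter G → ℕ, (∀ χ : IrrCharacter G,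
    classInner (pch G Ω) χ = m χ) ∧ m (irrOne G) = 1 ∧
    ∑ χ, m χ ^ 2 = Nat.card (orbitRel.Quotient (stabilizer G a) Ω) ∧
    ∑ χ, m χ * χ.1 1 = Fintype.card Ω := by
  have h := isCharacter_perm (G := G) Ω
  choose m hm using fun χ : IrrCharacter G => h.classInner_nat χ.2.isCharacter
  refine ⟨m, hm, Nat.cast_eq_one.1 ((hm (irrOne G)).symm.trans (pch_one a)), ?_, ?_⟩
  · have := pch_pch (G := G) a
    rw [h.isClassFunction.classInner_eq_sum_irr] at this
    simp only [hm, map_natCast, ← sq] at this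
    exact_mod_cast this
  · have := h.isClassFunction.apply_eq_sum_irr 1
    simp only [hm] at this
    simpa using this.symm

theorem same_degree (a : Ω) {f : ℕ} (hf : ∀ χ, IsIrrCharacter G χ → χ ≠ (fun _ => 1) →
    classInner (pch G Ω) χ ≠ 0 → χ 1 = f) : (∀ χ, IsIrrCharacter G χ →
      classInner (pch G Ω) χ = 0 ∨ classInner (pch G Ω) χ = 1) ∧ ∀ b, b ≠ a → sdeg G a b = f := by
  classical
  have := Fintype.ofFinite (orbitRel.Quotient (stabilizer G a) Ω)
  obtain ⟨m, h1, h2, h3, h4⟩ := exists_mult (G := G) a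
  have h5 := sum_sdeg (G := G) a
  have h6 : ∀ q ∈ univ.erase (⟦a⟧ : orbitRel.Quotient (stabilizer G a) Ω), f ≤ sdeg G a q.out :=
    fun q hq => Nat.le_of_dvd (Nat.pos_of_ne_zero (sdeg_ne _ _)) (dvd_sdeg
      (fun χ a b c => ⟨1, by simp [hf χ a b c]⟩) fun e => ne_of_mem_erase hq (by rw [← q.out_eq, e]))
  have h7 : ∀ χ ∈ univ.erase (irrOne G), m χ ≠ 0 → χ.1 1 = f := fun χ h e =>
    hf _ χ.2 (fun e => ne_of_mem_erase h (Subtype.ext e)) (by simpa [h1])
  rw [← add_sum_erase _ _ (mem_univ (irrOne G)), h2] at h3 h4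
  rw [← add_sum_erase _ _ (mem_univ ⟦a⟧), sdeg_out, sdeg_self] at h5
  rw [sum_congr rfl (g := fun χ => (m χ * f : ℂ)) fun χ h => by
    by_cases e : m χ = 0 <;> simp [e, h7 χ h], irrOne_coe, ← sum_mul] at h4
  replace h4 : 1 + (∑ χ ∈ univ.erase (irrOne G), m χ) * f = Fintype.card Ω := by
    simp only [Nat.cast_one, mul_one] at h4
    exact_mod_cast h4
  have h8 := sum_le_sum h6
  have h9 : ∀ χ ∈ univ.erase (irrOne G), m χ ≤ m χ ^ 2 := fun χ _ => Nat.le_self_pow two_ne_zero _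
  have h10 := Nat.mul_le_mul_right f (sum_le_sum h9)
  have h11 : #(univ.erase (⟦a⟧ : orbitRel.Quotient (stabilizer G a) Ω)) =
      ∑ χ ∈ univ.erase (irrOne G), m χ ^ 2 := by
    rw [card_erase_of_mem (mem_univ _), card_univ, ← Nat.card_eq_fintype_card]
    exact (congrArg (· - 1) h3.symm).trans (by simp)
  refine ⟨fun χ h => ?_, fun b hb => ?_⟩
  · rw [h1 ⟨χ, h⟩, or_iff_not_imp_left, Nat.cast_eq_zero, Nat.cast_eq_one]
    intro e
    by_cases e' : ⟨χ, h⟩ = irrOne G
    · rw [e', h2]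
    have e1 := mem_erase.2 ⟨e', mem_univ _⟩
    have e2 : 0 < f := Nat.pos_of_ne_zero fun e2 => h.one_ne_zero (by simpa [e2] using h7 _ e1 e)
    rw [sum_const, h11, smul_eq_mul] at h8
    have := (sum_eq_sum_iff_of_le h9).1 (Nat.eq_of_mul_eq_mul_right e2 (by omega)) _ e1
    exact (Nat.mul_eq_left e).1 (by rw [← sq, ← this])
  · have := (sum_eq_sum_iff_of_le h6).1 (by
      rw [sum_const, h11, smul_eq_mul] at h8 ⊢; omega) ⟦b⟧ (by simpa [mk_eq_self])
    rw [this, sdeg_out]

end perm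

end Cfsg.Agent.Perm
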