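import Cfsg.Agent.Perm.Zs6
import Cfsg.Agent.Perm.Normal
import Cfsg.Agent.BG.S04a
import Cfsg.Agent.BG.S02
import Cfsg.Agent.S0735

/-! Kantor's theorem on 2-homogeneous groups. -/

set_option autoImplicit false

namespace Cfsg.Agent.Perm.Zs

open Cfsg.Agent.Class Cfsg.Agent.BG Subgroup

universe u

variable {G : Type*} [Group G] [Finite G] {F : Type*} [Field F] {V : Type u} [AddCommGroup V]
  [Module F V] [Finite V] {ρ : G →* Module.End F V}

structure PM (ρ : G →* Module.End F V) : Prop where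
  nt : Nontrivial V
  inj : Function.Injective ρ
  tr : ∀ v w : V, v ≠ 0 → w ≠ 0 → ∃ g, ρ g v = w ∨ ρ g v = -w

namespace PM
variable (h : PM ρ)
include h

omit [Finite G] [Finite V] in
theorem cover {N : Subgroup G} [N.Normal] {W : Submodule F V} (h₀ : MinI ρ N W) {x : V}
    (hx : x ≠ 0) : ∃ g, x ∈ W.map (ρ g) := by
  obtain ⟨w, h1, h2⟩ := (Submodule.ne_bot_iff _).1 h₀.1
  obtain ⟨g, e | e⟩ := h.tr w x h2 hx
  · exact ⟨g, w, h1, e⟩
  · exact ⟨g, -w, neg_mem h1, by rw [map_neg, e, neg_neg]⟩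

theorem irr_or (N : Subgroup G) [N.Normal] :
    MinI ρ N ⊤ ∨ (IsCyclic N ∧ ∀ n ∈ N, ∀ v, v ≠ 0 → ρ n v = v → n = 1) := by
  have := h.nt
  obtain ⟨W₀, -, h₀⟩ := exists_minI (ρ := ρ) (N := N) (W := ⊤) (fun _ _ _ _ => trivial) top_ne_bot
  have k : ∀ x ≠ 0, ∃ X, MinI ρ N X ∧ x ∈ X := fun x hx =>
    (h.cover h₀ hx).elim fun g e => ⟨_, h₀.map g, e⟩
  refine (em _).imp_right fun hn => ?_
  suffices hf : ∀ b : Module.End F V, (∀ X, Ivt ρ N X → ∀ w ∈ X, b w ∈ X) → ∀ v ≠ 0, b v = 0 →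
      b = 0 by
    let B : Subring (Module.End F V) :=
      { carrier := {b | ∀ X, Ivt ρ N X → ∀ w ∈ X, b w ∈ X}
        mul_mem' := fun ha hb X hX w hw => ha X hX _ (hb X hX w hw)
        one_mem' := fun _ _ _ h => h
        add_mem' := fun ha hb X hX w hw => add_mem (ha X hX w hw) (hb X hX w hw)
        zero_mem' := fun X _ _ _ => zero_mem X
        neg_mem' := fun ha X hX w hw => neg_mem (ha X hX w hw) }
    obtain ⟨D, _, r, hr⟩ := dom (W := ⊤) B top_ne_bot (fun _ _ _ _ => trivial)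
      fun b hb w _ h2 h3 w' _ => by simp [hf b hb w h2 h3]
    let f : N →* B := (ρ.comp N.subtype).codRestrict B.toSubmonoid fun c X hX => hX c c.2
    refine ⟨isCyclic_of_injective_ringHom (r.toMonoidHom.comp f) ((injective_iff_map_eq_one _).2
      fun c hc => Subtype.ext (h.inj (LinearMap.ext fun w => ?_))), fun n hn v hv e => h.inj ?_⟩
    · have := (hr (f c - 1)).1 (by rw [map_sub, map_one]; exact sub_eq_zero.2 hc) w trivial
      rw [OneMemClass.coe_one, map_one]
      exact sub_eq_zero.1 this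
    · rw [map_one, ← sub_eq_zero]
      exact hf _ (fun X hX w hw => sub_mem (hX n hn w hw) hw) v hv (by simp [e])
  have k2 : ∀ b : Module.End F V, (∀ X, Ivt ρ N X → ∀ w ∈ X, b w ∈ X) → ∀ W, MinI ρ N W →
      ∀ w ∈ W, w ≠ 0 → ∀ u, u ∉ W → (b w = 0 ↔ b u = 0) := fun b hb W hW w hw h0 u hu => by
    obtain ⟨U, hU, huU⟩ := k u fun e => hu (e ▸ zero_mem W)
    obtain ⟨X, hX, hx⟩ := k (w + u) fun e => hu (eq_neg_of_add_eq_zero_right e ▸ neg_mem hw)
    have h1 := hb X hX.2.1 _ hx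
    rw [map_add] at h1
    refine ⟨fun e => by_contra fun h2 => ?_, fun e => by_contra fun h2 => ?_⟩
    · rw [hX.eq hU h2 (by simpa [e] using h1) (hb U hU.2.1 u huU)] at hx
      exact hu (hW.eq hU h0 hw ((Submodule.add_mem_iff_left _ huU).1 hx) ▸ huU)
    · rw [hX.eq hW h2 (by simpa [e] using h1) (hb W hW.2.1 w hw)] at hx
      exact hu ((Submodule.add_mem_iff_right _ hw).1 hx)
  refine fun b hb v hv e => LinearMap.ext fun x => ?_
  obtain ⟨W, hW, hvW⟩ := k v hv
  obtain ⟨u, hu⟩ : ∃ u, u ∉ W := by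
    by_contra h1; push Not at h1
    exact hn (Submodule.eq_top_iff'.2 h1 ▸ hW)
  by_cases h1 : x ∈ W
  · by_cases h2 : x = 0
    · simp [h2]
    · exact (k2 b hb W hW x h1 h2 u hu).2 ((k2 b hb W hW v hvW hv u hu).1 e)
  · exact (k2 b hb W hW v hvW hv x h1).1 e

theorem abel {A : Subgroup G} [A.Normal] (hA : Abel A) :
    IsCyclic A ∧ ∀ n ∈ A, ∀ v, v ≠ 0 → ρ n v = v → n = 1 := by
  refine (h.irr_or A).elim (fun i => ⟨cyc_cent i hA i.2.1 fun c _ e =>
    h.inj (LinearMap.ext fun v => by simpa using e v trivial), fun n hn v hv e => h.inj ?_⟩) id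
  rcases i.2.2 (LinearMap.ker (ρ n - 1)) le_top (fun m hm x hx => by
    simp only [LinearMap.mem_ker, LinearMap.sub_apply, Module.End.one_apply, sub_eq_zero] at hx ⊢
    rw [← rho_mul, mem_C_comm hA hn hm, rho_mul, hx]) with f | f
  · exact absurd ((Submodule.eq_bot_iff _).1 f v (by simp [e])) hv
  · rw [map_one, ← sub_eq_zero]; exact LinearMap.ker_eq_top.1 f

theorem no_extra {N : Subgroup G} [hN : N.Normal] {q : ℕ} (hq : q.Prime) (h3 : 3 ≤ q)
    (he : ∀ x ∈ N, x ^ q = 1) (hc : ⁅N, N⁆ ≤ C[N]) : Cyc N := by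
  by_contra hn
  classical
  have := h.nt
  have := Fintype.ofFinite V
  have := Fintype.ofFinite G
  have : Fact q.Prime := ⟨hq⟩
  have : (Z[N] : Subgroup G).Normal := BG.normal_iff.2 (normZ (norm_of_normal ⊤))
  obtain ⟨hZ, hf⟩ := h.abel (abel_Z N)
  have hZq := cyc_exp_card hq hZ fun x hx => he x hx.1
  have hna : ¬ Abel N := fun i => hn (h.abel i).1
  have hZ1 : #Z[N] = q := ((Nat.dvd_prime hq).1 hZq).resolve_left fun e => hna (by
    rw [abel_iff_der, eq_bot_iff, ← card_eq_one.1 e]; exact le_inf (der_le N) hc)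
  let U : G → Finset V := fun x => {v | v ≠ 0 ∧ ρ x v = v}
  let S : V → Finset G := fun v => {x | x ∈ N ∧ ρ x v = v}
  obtain ⟨x, hx, hm⟩ := Finset.exists_max_image ({x | x ∈ N ∧ x ∉ C[N]} : Finset G)
    (fun x => (U x).card) (by
      obtain ⟨x, h1, h2⟩ := SetLike.not_le_iff_exists.1 hna
      exact ⟨x, by simp [h1, h2]⟩)
  simp only [Finset.mem_filter, Finset.mem_univ, true_and] at hx hm
  have hS : ∀ v w, v ≠ 0 → w ≠ 0 → (S v).card ≤ (S w).card := fun v w hv hw => by
    obtain ⟨g, e⟩ := h.tr v w hv hw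
    refine Finset.card_le_card_of_injOn (fun n => g * n * g⁻¹) (fun n hn => ?_)
      fun a _ b _ e => by simpa using e
    simp only [S, Finset.coe_filter, Finset.mem_univ, true_and, Set.mem_setOf_eq] at hn ⊢
    refine ⟨hN.conj_mem _ hn.1 g, ?_⟩
    have : ρ (g * n * g⁻¹) (ρ g v) = ρ g v := by rw [rho_mul, rho_mul, rho_cancel, hn.2]
    rcases e with e | e <;> rw [e] at this
    · exact this
    · simpa using this
  obtain ⟨g, hg, hg1, v₀, hv₀, e₀⟩ : ∃ g ∈ N, g ≠ 1 ∧ ∃ v, v ≠ 0 ∧ ρ g v = v := by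
    by_contra h1
    push Not at h1
    have l : zpowers x ⊔ Z[N] ≤ N := sup_le (zpowers_le.2 hx.1) inf_le_left
    have := cyc_of_comm (ρ := ρ) (A := zpowers x ⊔ Z[N])
      (fun g hg v hv e => by_contra fun i => h1 g (l hg) i v hv e)
      (Abel.sup (abel_zpowers x) (abel_Z N) (cent_symm (inf_le_right.trans
        (centS (zpowers_le.2 hx.1))))).comm
    have := cyc_exp_card hq this fun y hy => he y (l hy)
    have := eq_of_le_of_card_ge (le_sup_right : Z[N] ≤ zpowers x ⊔ Z[N])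
      (hZ1 ▸ Nat.le_of_dvd hq.pos this)
    exact hx.2 (this ▸ mem_sup_left (mem_zpowers x) : x ∈ Z[N]).2
  obtain ⟨s, hs⟩ : ∃ s, s = (S v₀).card := ⟨_, rfl⟩
  have cardS : ∀ K : Subgroup G, #K = ({x | x ∈ K} : Finset G).card := fun K => by
    rw [Nat.card_eq_fintype_card, Fintype.card_subtype]
  have hsq : q ≤ s := by
    rw [hs, ← orderOf_eq_prime (he g hg) hg1, ← Nat.card_zpowers, cardS]
    refine Finset.card_le_card fun y hy => ?_
    simp only [S, Finset.mem_filter, Finset.mem_univ, true_and] at hy ⊢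
    refine ⟨zpowers_le.2 hg hy, ?_⟩
    obtain ⟨k, rfl⟩ := mem_powers_iff_mem_zpowers.2 hy
    simp only [map_pow, Module.End.pow_apply]
    exact Function.iterate_fixed e₀ k
  obtain ⟨W, hW⟩ : ∃ W : Submodule F V, ∀ v, v ∈ W ↔ ρ x v = v :=
    ⟨LinearMap.ker (ρ x - 1), fun v => by simp [sub_eq_zero]⟩
  obtain ⟨u, hu⟩ : ∃ u, u = (U x).card := ⟨_, rfl⟩
  have hWu : Nat.card W = u + 1 := by
    rw [hu, Nat.card_eq_fintype_card, Fintype.card_subtype, ← Finset.card_insert_of_notMem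
      (a := (0 : V)) (by simp [U])]
    congr 1; ext v
    by_cases hv : v = 0 <;> simp [U, hW, hv]
  have hu0 : 0 < u := hu ▸ lt_of_lt_of_le (Finset.card_pos.2 ⟨v₀, by simp [U, hv₀, e₀]⟩)
    (hm g ⟨hg, fun i => hg1 (hf g ⟨hg, i⟩ v₀ hv₀ e₀)⟩)
  have huq : q ≤ u := by
    have := free_dvd hf (W := W) fun n hn v hv => (hW _).2 (by
      rw [← rho_mul, hn.2 x hx.1, rho_mul, (hW v).1 hv])
    rw [hZ1, hWu] at this
    exact Nat.le_of_dvd hu0 this
  have h1 : #N ≤ q * (s * u) := by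
    obtain ⟨v, hv⟩ := Finset.card_pos.1 (hu ▸ hu0)
    simp only [U, Finset.mem_filter, Finset.mem_univ, true_and] at hv
    have a := idx_C1_dvd (x := x) (R := N) (abel_Z N) inf_le_right fun g hg =>
      le_inf (der_le N) hc (comm_mem hg hx.1)
    rw [← BG.card_mul_relIndex (inf_le_right : C1[x] ⊓ N ≤ N), inf_relIndex_right, mul_comm]
    refine Nat.mul_le_mul (Nat.le_of_dvd hq.pos (hZ1 ▸ a)) ?_
    rw [cardS, hu]
    refine Finset.card_le_mul_card_image_of_maps_to (f := fun c => ρ c v) (fun c hc => ?_) s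
      fun b _ => ?_
    · simp only [U, Finset.mem_filter, Finset.mem_univ, true_and] at hc ⊢
      exact ⟨rho_ne c hv.1, by rw [← rho_mul, ← mem_C1.1 hc.1, rho_mul, hv.2]⟩
    rcases Finset.eq_empty_or_nonempty ({a ∈ ({y | y ∈ C1[x] ⊓ N} : Finset G) | ρ a v = b}) with
      e | ⟨c, e⟩
    · rw [e]; exact Nat.zero_le _
    refine le_trans (Finset.card_le_card_of_injOn (fun n => c⁻¹ * n) (fun n hn => ?_)
      fun a _ b _ e => by simpa using e) (hs ▸ hS v v₀ hv.1 hv₀)
    simp only [S, Finset.coe_filter, Finset.mem_filter, Finset.mem_univ, true_and,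
      Set.mem_setOf_eq] at hn e ⊢
    exact ⟨mul_mem (inv_mem e.1.2) hn.1.2, by rw [rho_mul, hn.2, ← e.2, rho_cancel]⟩
  have h2 : (u + 1) * ((u + 1) * (u + 1)) ≤ Nat.card V := by
    obtain ⟨y, hy, hxy⟩ : ∃ y ∈ N, y * x ≠ x * y := by
      by_contra i; push Not at i; exact hx.2 i
    obtain ⟨z, hz⟩ : ∃ z, z = y⁻¹ * x * y * x⁻¹ := ⟨_, rfl⟩
    have zZ : z ∈ Z[N] := le_inf (der_le N) hc (by simpa [hz] using comm_mem (inv_mem hy) hx.1)
    have z1 : z ≠ 1 := fun e => hxy (by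
      calc _ = y * z * x := by rw [e, mul_one]
        _ = _ := by rw [hz]; group)
    have z2 : z * z ≠ 1 := fun e => by
      have := orderOf_dvd_of_pow_eq_one ((sq z).trans e)
      rw [orderOf_eq_prime (he z zZ.1) z1] at this
      have := Nat.le_of_dvd two_pos this
      omega
    have c : ∀ n ∈ N, ∀ v, ρ n (ρ z v) = ρ z (ρ n v) := fun n hn v => by
      rw [← rho_mul, zZ.2 n hn, rho_mul]
    have k : ∀ v, ρ x (ρ y v) = ρ z (ρ y (ρ x v)) := fun v => by
      rw [← c y hy]; simp only [← rho_mul]; congr 2; rw [hz]; group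
    have f : ∀ g ∈ Z[N], g ≠ 1 → ∀ v, ρ g v - v = 0 → v = 0 := fun g hg h1 v e =>
      by_contra fun hv => h1 (hf g hg v hv (sub_eq_zero.1 e))
    rw [← hWu, ← Nat.card_prod, ← Nat.card_prod]
    let L : W × W × W →+ V := AddMonoidHom.mk'
      (fun w => w.1.1 + ρ y w.2.1.1 + ρ y (ρ y w.2.2.1)) fun a b => by simp; abel
    refine Nat.card_le_card_of_injective L ((injective_iff_map_eq_zero _).2 ?_)
    rintro ⟨⟨a, ha⟩, ⟨b, hb⟩, ⟨d, hd⟩⟩ e
    change a + ρ y b + ρ y (ρ y d) = 0 at e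
    have e1 := congrArg (ρ x) e
    rw [map_add, map_add, k, k, k, c y hy, (hW a).1 ha, (hW b).1 hb, (hW d).1 hd, map_zero] at e1
    have e2 := congrArg (ρ x) e1
    simp only [map_add, c x hx.1, k, c y hy, (hW a).1 ha, (hW b).1 hb, (hW d).1 hd, map_zero] at e2
    have e3 := congrArg (ρ z) e
    have e4 := congrArg (ρ z) e1
    simp only [map_add, map_zero] at e3 e4
    have d0 : ρ y (ρ y d) = 0 := f _ (mul_mem zZ zZ) z2 _ <| f _ zZ z1 _ <| by_contra fun i =>
      rho_ne z i (by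
        simp only [rho_mul, map_sub]
        linear_combination (norm := abel) e2 - e4 - e1 + e3)
    rw [d0] at e e1
    have b0 : ρ y b = 0 := f _ zZ z1 _ (by
      simp only [map_zero] at e1
      linear_combination (norm := abel) e1 - e)
    have z0 : ∀ v, ρ y v = 0 → v = 0 := fun v e => by_contra fun i => rho_ne y i e
    rw [b0] at e
    exact Prod.ext (Subtype.ext (by simpa using e))
      (Prod.ext (Subtype.ext (z0 _ b0)) (Subtype.ext (z0 _ (z0 _ d0))))
  have h4 : (Nat.card V - 1) * s ≤ #N * u + (Nat.card V - 1) := by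
    have e1 : ({v | v ≠ 0} : Finset V).card = Nat.card V - 1 := by
      simp [Finset.filter_ne']
    calc _ ≤ ∑ v ∈ ({v | v ≠ 0} : Finset V), (S v).card := by
          rw [← e1, ← smul_eq_mul]
          exact Finset.card_nsmul_le_sum _ _ _ fun v hv => hs ▸ hS _ _ hv₀ (by simpa using hv)
      _ = ∑ y ∈ ({y | y ∈ N} : Finset G), (U y).card := by
          have := Finset.sum_card_bipartiteAbove_eq_sum_card_bipartiteBelow
            (s := ({v | v ≠ 0} : Finset V)) (t := ({y | y ∈ N} : Finset G)) fun v y => ρ y v = v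
          simpa only [Finset.bipartiteAbove, Finset.bipartiteBelow, Finset.filter_filter] using this
      _ ≤ ∑ y ∈ ({y | y ∈ N} : Finset G), (u + if y = 1 then Nat.card V - 1 else 0) := by
          refine Finset.sum_le_sum fun y hy => ?_
          split_ifs with i
          · exact le_add_left (e1 ▸ Finset.card_le_card fun v hv => by simp_all [U])
          by_cases j : y ∈ C[N]
          · have : U y = ∅ := Finset.eq_empty_of_forall_notMem fun v hv => by
              simp only [U, Finset.mem_filter, Finset.mem_univ, true_and] at hv hy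
              exact i (hf y ⟨hy, j⟩ v hv.1 hv.2)
            simp [this]
          · exact hu ▸ hm y ⟨by simpa using hy, j⟩
      _ = _ := by rw [cardS]; simp [Finset.sum_add_distrib]
  obtain ⟨s, rfl⟩ : ∃ t, s = t + 1 := ⟨s - 1, by omega⟩
  have h5 : u * (u * u + 3 * u + 3) ≤ Nat.card V - 1 := Nat.le_sub_one_of_lt (by nlinarith)
  generalize Nat.card V - 1 = M at *
  have h6 : u * (u * u + 3 * u + 3) * s ≤ q * ((s + 1) * u) * u := by
    nlinarith [Nat.mul_le_mul_right s h5, Nat.mul_le_mul_right u h1]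
  have h7 : (u * u + 3 * u + 3) * s ≤ q * (s + 1) * u := Nat.le_of_mul_le_mul_left (by
    calc u * ((u * u + 3 * u + 3) * s) = u * (u * u + 3 * u + 3) * s := by ring
      _ ≤ _ := h6
      _ = _ := by ring) hu0
  have h8 : (u + 3) * s ≤ q * (s + 1) := Nat.le_of_mul_le_mul_right (by nlinarith) hu0
  nlinarith [Nat.mul_le_mul_right s huq]

theorem exists_irr (ho : Odd (Nat.card G)) (hV : Odd (Nat.card V)) :
    ∃ A : Subgroup G, A.Normal ∧ Abel A ∧ MinI ρ A ⊤ := by
  have := h.nt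
  have hs : Sol (⊤ : Subgroup G) := sol_top.2 (PF.feit_thompson ho)
  have hn : F[(⊤ : Subgroup G)].Normal := BG.normal_iff.2 (F_norm ⊤)
  have ha : Abel F[(⊤ : Subgroup G)] := Cyc.abel ((F_nil ⊤).cyc_of_O fun q hq hd => by
    by_contra i
    have o : Odd #O[{q}](F[(⊤ : Subgroup G)]) := ho.of_dvd_nat (card_subgroup_dvd_card _)
    obtain ⟨k1, k2⟩ := Om_odd_Z2 (O_pig _ _) o i
    have : Ω[q](Z2 O[{q}](F[(⊤ : Subgroup G)])).Normal :=
      BG.normal_iff.2 (normOm _ (normZ2 (normO _ (F_norm ⊤))))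
    refine k1 (h.no_extra hq ?_ k2 ((Z2_cls2 _).of_le (Om_le _ _)))
    have := ho.of_dvd_nat (hd.trans (card_subgroup_dvd_card _))
    have := hq.two_le
    obtain ⟨k, rfl⟩ := ‹Odd q›
    omega)
  refine ⟨_, hn, ha, by_contra fun hi => ?_⟩
  have hC : C[F[(⊤ : Subgroup G)]] = F[(⊤ : Subgroup G)] :=
    le_antisymm ((le_inf le_top le_rfl).trans (C_F_le hs)) ha
  generalize F[(⊤ : Subgroup G)] = A at *
  obtain ⟨h1, hf⟩ := h.abel ha
  obtain ⟨W, -, h3⟩ := exists_minI (ρ := ρ) (N := A) (W := ⊤) (fun _ _ _ _ => trivial) top_ne_bot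
  have h4 := free_dvd hf h3.2.1
  have h5 : Nat.card W * Nat.card W ≤ Nat.card V := by
    obtain ⟨u, hu⟩ : ∃ u, u ∉ W := by
      by_contra h2; push Not at h2
      exact hi (Submodule.eq_top_iff'.2 h2 ▸ h3)
    obtain ⟨g, hg⟩ := h.cover h3 (x := u) fun e => hu (e ▸ zero_mem W)
    rw [← Nat.card_prod]
    refine Nat.card_le_card_of_injective (fun x : W × W => x.1.1 + ρ g x.2.1) fun x y e => ?_
    have h4 : ρ g (x.2.1 - y.2.1) = y.1.1 - x.1.1 := by
      rw [map_sub]; beta_reduce at e; linear_combination (norm := abel) e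
    have h5 : y.1.1 - x.1.1 = 0 := by_contra fun h5 => hu (h3.eq (h3.map g) h5 (sub_mem y.1.2 x.1.2)
      ⟨_, sub_mem x.2.2 y.2.2, h4⟩ ▸ hg)
    refine Prod.ext (Subtype.ext (sub_eq_zero.1 h5).symm) (Subtype.ext (sub_eq_zero.1 ?_))
    by_contra h6
    exact rho_ne g h6 (h4.trans h5)
  have h6 := Inv.relIndex_centralizer_dvd_card_mulAut A
  rw [hC, normalizer_eq_top, relIndex_top_right, IsCyclic.card_mulAut] at h6
  have h7 := Nat.le_of_dvd (Nat.totient_pos.2 Nat.card_pos) h6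
  have : Nontrivial W := Submodule.nontrivial_iff_ne_bot.2 h3.1
  have h8 : 1 < Nat.card W := Finite.one_lt_card
  have h9 : 2 * #A ≤ Nat.card W - 1 := Nat.le_of_dvd (by omega) (Nat.Coprime.mul_dvd_of_dvd_of_dvd
    (Nat.coprime_two_left.2 (ho.of_dvd_nat (card_subgroup_dvd_card _))) (by
      obtain ⟨k, hk⟩ : Odd (Nat.card W) := hV.of_dvd_nat W.toAddSubgroup.card_addSubgroup_dvd_card
      omega) h4)
  have h10 := A.card_mul_index
  have h11 : Nat.card V ≤ Nat.card G + Nat.card G + 1 := by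
    obtain ⟨v, hv⟩ := exists_ne (0 : V)
    have := Nat.card_le_card_of_surjective (α := Option (G ⊕ G)) (β := V)
      (fun o => o.elim 0 (Sum.elim (fun g => ρ g v) fun g => -ρ g v)) fun w => by
        by_cases hw : w = 0
        · exact ⟨none, hw.symm⟩
        obtain ⟨g, e | e⟩ := h.tr v w hv hw
        · exact ⟨some (.inl g), e⟩
        · exact ⟨some (.inr g), by simp [e]⟩
    rwa [Finite.card_option, Nat.card_sum] at this
  have h12 := Nat.mul_le_mul_left (#A) (h7.trans (Nat.totient_le _))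
  obtain ⟨m, hm⟩ : ∃ m, Nat.card W = m + 1 := ⟨_, (Nat.succ_pred_eq_of_pos (by omega)).symm⟩
  rw [hm] at h5 h8 h9
  simp only [Nat.add_sub_cancel] at h9
  nlinarith [Nat.mul_le_mul h9 h9]

end PM

theorem iso_gf {D : Type*} [Ring D] [Finite D] (hD : IsField D) {p f : ℕ} [Fact p.Prime]
    (h : Nat.card D = p ^ f) : Nonempty (D ≃+* GaloisField p f) := by
  letI := hD.toField
  have := Fintype.ofFinite D
  have := Fintype.ofFinite (GaloisField p f)
  have hf : f ≠ 0 := fun e => (Finite.one_lt_card (α := D)).ne' (by rw [h, e, pow_zero])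
  exact ⟨FiniteField.ringEquivOfCardEq (by
    rw [← Nat.card_eq_fintype_card, ← Nat.card_eq_fintype_card, h, GaloisField.card p f hf])⟩

omit [Finite G] in
theorem semilin {p f : ℕ} [Fact p.Prime] {V : Type*} [AddCommGroup V] [Module (ZMod p) V] [Finite V]
    {ρ : G →* Module.End (ZMod p) V} {A : Subgroup G} [hn : A.Normal] (ha : Abel A) (h : MinI ρ A ⊤)
    (hV : Nat.card V = p ^ f) : ∃ e : V ≃+ GaloisField p f, ∀ g, ∃ (a : (GaloisField p f)ˣ)
      (φ : GaloisField p f ≃+* GaloisField p f), ∀ x, e (ρ g x) = a * φ (e x) := by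
  let D := Subalgebra.centralizer (ZMod p) (ρ '' A)
  have mD : ∀ d, d ∈ D ↔ ∀ n ∈ A, ρ n * d = d * ρ n := fun d => by
    simp [D, Subalgebra.mem_centralizer_iff]
  have : Nontrivial V := (Submodule.nontrivial_iff (ZMod p)).1 ⟨_, _, h.1⟩
  have : Finite (Module.End (ZMod p) V) := Finite.of_injective _ DFunLike.coe_injective
  have inj : ∀ d : D, ∀ v ≠ 0, d.1 v = 0 → d = 0 := fun d v hv e => by
    rcases h.2.2 (LinearMap.ker d.1) le_top (fun n hn v hv => by
      rw [LinearMap.mem_ker] at hv ⊢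
      rw [← Module.End.mul_apply, ← (mD _).1 d.2 n hn, Module.End.mul_apply, hv, map_zero]) with f | f
    · exact absurd ((Submodule.eq_bot_iff _).1 f v e) hv
    · exact Subtype.ext (LinearMap.ker_eq_top.1 f)
  have : NoZeroDivisors D := ⟨fun {a b} e => (em _).symm.imp_left fun hb => by
    obtain ⟨v, hv⟩ := exists_ne (0 : V)
    exact inj a (b.1 v) (fun i => hb (inj b v hv i)) (congrArg (fun d : D => d.1 v) e)⟩
  have : IsDomain D := NoZeroDivisors.to_isDomain _
  have hD := Finite.isDomain_to_isField D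
  obtain ⟨v, hv⟩ := exists_ne (0 : V)
  let L : D →ₗ[ZMod p] V :=
    { toFun := fun d => d.1 v, map_add' := fun _ _ => rfl, map_smul' := fun _ _ => rfl }
  have hL : Function.Bijective L := ⟨(injective_iff_map_eq_zero L).2 fun d => inj d v hv,
    LinearMap.range_eq_top.1 ((h.2.2 L.range le_top (by
      rintro n hn _ ⟨d, rfl⟩
      exact ⟨⟨ρ n, (mD _).2 fun m hm => by rw [← map_mul, mem_C_comm ha hm hn, map_mul]⟩ * d,
        rfl⟩)).resolve_left fun e => hv ((Submodule.eq_bot_iff _).1 e v ⟨1, rfl⟩))⟩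
  obtain ⟨ι⟩ := iso_gf hD ((Nat.card_eq_of_bijective L hL).trans hV)
  let E := LinearEquiv.ofBijective L hL
  refine ⟨E.symm.toAddEquiv.trans ι.toAddEquiv, fun g => ?_⟩
  have c : ∀ g : G, ∀ d : D, ρ g * d.1 * ρ g⁻¹ ∈ D := fun g d => (mD _).2 fun n hn' => by
    have := (mD _).1 d.2 _ (hn.conj_mem' n hn' g)
    simp only [map_mul] at this
    calc _ = ρ g * (ρ g⁻¹ * ρ n * ρ g * d.1) * ρ g⁻¹ := by
          simp only [← mul_assoc, rho_inv, one_mul]
      _ = _ := by rw [this]; simp only [mul_assoc, rho_inv, mul_one]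
  let φ : D ≃+* D :=
    { toFun := fun d => ⟨_, c g d⟩
      invFun := fun d => ⟨_, c g⁻¹ d⟩
      left_inv := fun d => Subtype.ext (by
        simp only [inv_inv, ← mul_assoc, rho_inv', one_mul]; simp only [mul_assoc, rho_inv', mul_one])
      right_inv := fun d => Subtype.ext (by
        simp only [inv_inv, ← mul_assoc, rho_inv, one_mul]; simp only [mul_assoc, rho_inv, mul_one])
      map_mul' := fun a b => Subtype.ext (by
        simp only [MulMemClass.coe_mul, mul_assoc, as' (rho_inv' ρ g), one_mul])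
      map_add' := fun a b => Subtype.ext (by simp only [AddMemClass.coe_add, mul_add, add_mul]) }
  obtain ⟨a, ha⟩ := hL.2 (ρ g v)
  have a0 : ι a ≠ 0 := fun e => rho_ne g hv (by rw [← ha, ι.map_eq_zero_iff.1 e, map_zero])
  refine ⟨Units.mk0 _ a0, (ι.symm.trans φ).trans ι, fun x => ?_⟩
  obtain ⟨d, rfl⟩ := E.surjective x
  have : ρ g (E d) = E (φ d * a) := by
    change ρ g (d.1 v) = ρ g (d.1 (ρ g⁻¹ (L a)))
    rw [ha, rho_cancel]
  simp [this, mul_comm]

theorem s0737 {α : Type*} [Fintype α] [DecidableEq α] (G : Subgroup (Equiv.Perm α)) (hne : G ≠ ⊥)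
    (h2 : MulAction.IsPretransitive G (Set.powersetCard α 2))
    (hn2 : ¬ MulAction.IsMultiplyPretransitive G α 2) :
    Odd (Nat.card G) ∧ ∃ (p f : ℕ) (_ : Fact p.Prime), p ≠ 2 ∧ Fintype.card α = p ^ f ∧
      p ^ f % 4 = 3 ∧ ∃ e : α ≃ GaloisField p f, (∀ g : G,
        e.symm.trans (((g : Equiv.Perm α)).trans e) ∈ Cfsg.semiaffineGroup (GaloisField p f)) ∧
        ∀ b : GaloisField p f, ∃ g : G, ∀ x : α, e ((g : Equiv.Perm α) x) = e x + b := by
  have : Nontrivial G := (nontrivial_iff_ne_bot G).2 hne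
  obtain ⟨g₀, hg₀⟩ := exists_ne (1 : G)
  obtain ⟨a, ha⟩ := exists_smul_ne (Ω := α) hg₀
  have h3 : 3 ≤ Fintype.card α := by
    by_contra h3
    have all : ∀ x, x = a ∨ x = g₀ • a := fun x => by
      by_contra i
      push Not at i
      exact h3 (Fintype.two_lt_card_iff.2 ⟨_, _, _, i.1, i.2, ha.symm⟩)
    have e : g₀ • g₀ • a = a := (all _).resolve_right fun i => ha (MulAction.injective g₀ i)
    refine hn2 (MulAction.is_two_pretransitive_iff.2 fun {x y z w} h h' => ?_)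
    rcases all x with rfl | rfl <;> rcases all y with rfl | rfl <;> rcases all z with rfl | rfl <;>
      rcases all w with rfl | rfl <;>
      first | contradiction | exact ⟨1, one_smul _ _, one_smul _ _⟩ | exact ⟨g₀, rfl, e⟩ |
        exact ⟨g₀, e, rfl⟩
  obtain ⟨k1, k2⟩ := S0735.result G h2 h3
  have ho : Odd (Nat.card G) := Nat.not_even_iff_odd.1 fun i => hn2 (k1 i)
  have := k2 hne
  have := PF.feit_thompson ho
  obtain ⟨E, -, hE⟩ := exists_minN (K := (⊤ : Subgroup G)) (H := ⊤) top_ne_bot (norm_top _)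
  obtain ⟨p, hp, hA⟩ := hE.abelem inferInstance
  have : Fact p.Prime := ⟨hp⟩
  have : E.Normal := BG.normal_iff.2 hE.norm
  obtain ⟨n, hn⟩ := hA.exists_pnElem hp
  obtain ⟨ε, σ, e1, e2, -, e4⟩ := hn.exists_gl
  have kt := kt_one_of_normal (Ω := α) hE.ne
  let β₀ : (Fin n → ZMod p) → α := fun v => ε (Multiplicative.ofAdd v) • a
  have hβ : Function.Bijective β₀ := ⟨fun v w e => Multiplicative.ofAdd.injective (e1 (reg_inj
    (fun g hg => eq_one_of_centralizes kt (hA.1 hg)) (e2.le ⟨_, rfl⟩) (e2.le ⟨_, rfl⟩) e)), fun x => by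
      obtain ⟨g, hg, rfl⟩ := kt.trans le_rfl a x
      obtain ⟨v, rfl⟩ := e2.ge hg
      exact ⟨v.toAdd, rfl⟩⟩
  let β := Equiv.ofBijective β₀ hβ
  let ρ : MulAction.stabilizer G a →* Module.End (ZMod p) (Fin n → ZMod p) :=
    ((Matrix.toLinAlgEquiv' (R := ZMod p) (n := Fin n)).toMonoidHom.comp (Units.coeHom _)).comp
      (σ.comp (inclusion (norm_of_normal _)))
  have b1 : ∀ u v, ε (Multiplicative.ofAdd u) • β v = β (u + v) := fun u v => by
    change ε _ • ε _ • a = ε _ • a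
    rw [← mul_smul, ← map_mul, ofAdd_add]
  have b2 : ∀ (g : MulAction.stabilizer G a) v, g.1 • β v = β (ρ g v) := fun g v =>
    (conj_smul_of_fix g.2).symm.trans (congrArg (· • a) ((e4 (inclusion (norm_of_normal _) g) v).trans
      (congrArg (fun x => ε (Multiplicative.ofAdd x)) (Matrix.toLinAlgEquiv'_apply _ _).symm)))
  have b3 : ∀ g : G, ∃ u, ∃ k : MulAction.stabilizer G a, ∀ v, g • β v = β (u + ρ k v) := fun g => by
    obtain ⟨m, hm, k, hk, rfl⟩ := exists_mul_stab kt a g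
    obtain ⟨u, rfl⟩ := e2.ge hm
    exact ⟨u.toAdd, ⟨k, hk⟩, fun v => by rw [mul_smul, b2 ⟨k, hk⟩, ← b1]; rfl⟩
  have c1 : Nat.card (Fin n → ZMod p) = p ^ n := by simp
  have c2 : Fintype.card α = p ^ n := by
    rw [← c1, Nat.card_congr β, Nat.card_eq_fintype_card]
  have c3 : Odd (Fintype.card α) := ho.of_dvd_nat (by
    rw [← Nat.card_eq_fintype_card, ← MulAction.index_stabilizer_of_transitive G a]
    exact index_dvd_card _)
  have c4 : Odd ((Fintype.card α).choose 2) := ho.of_dvd_nat (by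
    rw [← Nat.card_eq_fintype_card, ← Set.powersetCard.card,
      ← MulAction.index_stabilizer_of_transitive G
        (⟨{a, g₀ • a}, Finset.card_pair ha.symm⟩ : Set.powersetCard α 2)]
    exact index_dvd_card _)
  have pm : PM ρ := ⟨β.nontrivial_congr.2 ⟨_, _, ha⟩, (injective_iff_map_eq_one _).2 fun g e =>
    Subtype.ext (eq_one_of_smul (Ω := α) fun x => by
      obtain ⟨v, rfl⟩ := β.surjective x
      rw [b2, e]; rfl), fun v w hv hw => by
    obtain ⟨g, hg⟩ := hom_iff.1 h2 {β 0, β v} {β 0, β w}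
      (Finset.card_pair (β.injective.ne hv.symm)) (Finset.card_pair (β.injective.ne hw.symm))
    obtain ⟨u, k, e⟩ := b3 g
    rw [Finset.smul_finset_insert, Finset.smul_finset_singleton, e, e] at hg
    have := Finset.coe_inj.2 hg
    simp only [Finset.coe_insert, Finset.coe_singleton, Set.pair_eq_pair_iff, map_zero, add_zero,
      β.injective.eq_iff] at this
    refine ⟨k, this.imp (fun i => ?_) fun i => ?_⟩
    · simpa [i.1] using i.2
    · exact eq_neg_of_add_eq_zero_right (i.1 ▸ i.2)⟩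
  obtain ⟨A, a1, a2, a3⟩ := pm.exists_irr (ho.of_dvd_nat (card_subgroup_dvd_card _))
    (by rwa [c1, ← c2])
  obtain ⟨e, he⟩ := semilin a2 a3 c1
  refine ⟨ho, p, n, inferInstance, ?_, c2, ?_, β.symm.trans e.toEquiv, fun g => ?_, fun b =>
    ⟨ε (Multiplicative.ofAdd (e.symm b)), fun x => ?_⟩⟩
  · rintro rfl
    rw [c2] at c3 h3
    rcases n with _ | n
    · omega
    · exact absurd c3 (by simp [pow_succ])
  · rw [← c2]
    rw [Nat.choose_two_right] at c4
    obtain ⟨m, hm⟩ := c3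
    rw [hm, Nat.add_sub_cancel, mul_left_comm, Nat.mul_div_cancel_left _ two_pos] at c4
    obtain ⟨j, hj⟩ := (Nat.odd_mul.1 c4).2
    omega
  · obtain ⟨u, k, e3⟩ := b3 g
    obtain ⟨c, φ, hc⟩ := he k
    refine ⟨c, e u, φ, fun x => ?_⟩
    have := e3 (e.symm x)
    change e (β.symm (g • β (e.symm x))) = _
    rw [this, β.symm_apply_apply, map_add, hc, add_comm, e.apply_symm_apply]
  · obtain ⟨v, rfl⟩ := β.surjective x
    change e (β.symm (ε _ • β v)) = e (β.symm (β v)) + b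
    rw [b1, β.symm_apply_apply, β.symm_apply_apply, map_add, add_comm, e.apply_symm_apply]

end Cfsg.Agent.Perm.Zs
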