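import Cfsg.Agent.Perm.Sharp
import Cfsg.Agent.Inv.Small
import Cfsg.Agent.Core.CoprimeAb

/-! Livingstone–Wagner: permutations induced on small sets by multiply transitive groups. -/

set_option autoImplicit false

namespace Cfsg.Agent.Perm.LW

open Subgroup MulAction Cfsg.Agent.Comp Equiv Cfsg.Agent.Perm
open scoped Pointwise

variable {G Ω : Type*} [Group G] [MulAction G Ω] [DecidableEq Ω]

variable (G) in
/-- some element acts on `Γ` as `σ` -/
def Ac (Γ : Finset Ω) (σ : Perm Ω) : Prop := ∃ g : G, ∀ x ∈ Γ, g • x = σ x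

variable (G) in
/-- all transpositions are induced -/
def T1 (Γ : Finset Ω) : Prop := ∀ a ∈ Γ, ∀ b ∈ Γ, Ac G Γ (swap a b)

variable (G) in
/-- all double transpositions are induced -/
def T2 (Γ : Finset Ω) : Prop := ∀ a ∈ Γ, ∀ b ∈ Γ, ∀ c ∈ Γ, ∀ d ∈ Γ, a ≠ b → a ≠ c → a ≠ d → b ≠ c →
  b ≠ d → c ≠ d → Ac G Γ (swap a b * swap c d)

variable (G Ω) in
/-- no involution fixes `k` points -/
def NoInv (k : ℕ) : Prop :=
  ∀ s : Finset Ω, s.card = k → ∀ z : G, z * z = 1 → (∀ x ∈ s, z • x = x) → z = 1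

theorem swap_mem {Γ : Finset Ω} {a b x : Ω} (ha : a ∈ Γ) (hb : b ∈ Γ) (hx : x ∈ Γ) : swap a b x ∈ Γ := by
  rw [swap_apply_def]; split_ifs <;> assumption

theorem T1.t2 {Γ : Finset Ω} (h : T1 G Γ) : T2 G Γ := fun a ha b hb c hc d hd _ _ _ _ _ _ => by
  obtain ⟨g, hg⟩ := h a ha b hb
  obtain ⟨u, hu⟩ := h c hc d hd
  exact ⟨g * u, fun x hx => by rw [mul_smul, hu x hx, hg _ (swap_mem hc hd hx)]; rfl⟩

theorem smul_swap (g : G) (a b x : Ω) : swap (g • a) (g • b) (g • x) = g • swap a b x :=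
  (MulAction.injective g).swap_apply a b x

theorem Ac.swap_smul {Γ : Finset Ω} {a b : Ω} (h : Ac G Γ (swap a b)) (g : G) :
    Ac G (g • Γ) (swap (g • a) (g • b)) := by
  obtain ⟨u, hu⟩ := h
  refine ⟨g * u * g⁻¹, fun x hx => ?_⟩
  obtain ⟨y, hy, rfl⟩ := Finset.mem_smul_finset.1 hx
  rw [mul_smul, mul_smul, inv_smul_smul, hu y hy, smul_swap]

theorem T2.smul {Γ : Finset Ω} (h : T2 G Γ) (g : G) : T2 G (g • Γ) := by
  intro a ha b hb c hc d hd h1 h2 h3 h4 h5 h6
  obtain ⟨a, a1, rfl⟩ := Finset.mem_smul_finset.1 ha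
  obtain ⟨b, b1, rfl⟩ := Finset.mem_smul_finset.1 hb
  obtain ⟨c, c1, rfl⟩ := Finset.mem_smul_finset.1 hc
  obtain ⟨d, d1, rfl⟩ := Finset.mem_smul_finset.1 hd
  simp only [ne_eq, smul_left_cancel_iff] at h1 h2 h3 h4 h5 h6
  obtain ⟨u, hu⟩ := h a a1 b b1 c c1 d d1 h1 h2 h3 h4 h5 h6
  refine ⟨g * u * g⁻¹, fun x hx => ?_⟩
  obtain ⟨y, hy, rfl⟩ := Finset.mem_smul_finset.1 hx
  rw [mul_smul, mul_smul, inv_smul_smul, hu y hy, Perm.mul_apply, Perm.mul_apply, smul_swap, smul_swap]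

theorem T1.smul {Γ : Finset Ω} (h : T1 G Γ) (g : G) : T1 G (g • Γ) := by
  intro a ha b hb
  obtain ⟨a, a1, rfl⟩ := Finset.mem_smul_finset.1 ha
  obtain ⟨b, b1, rfl⟩ := Finset.mem_smul_finset.1 hb
  exact (h a a1 b b1).swap_smul g

variable (G) in
/-- the group induced on `Γ` -/
def ind (Γ : Finset Ω) : Subgroup (Perm Γ) where
  carrier := {σ | ∃ g : G, ∀ x : Γ, g • (x : Ω) = σ x}
  one_mem' := ⟨1, fun x => one_smul _ _⟩
  mul_mem' := fun ⟨g, hg⟩ ⟨u, hu⟩ => ⟨g * u, fun x => by rw [mul_smul, hu, hg]; rfl⟩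
  inv_mem' := fun {σ} ⟨g, hg⟩ => ⟨g⁻¹, fun x => by rw [inv_smul_eq_iff, hg]; simp⟩

theorem coe_swap {Γ : Finset Ω} (a b x : Γ) : ((swap a b x : Γ) : Ω) = swap (a : Ω) b x :=
  (Subtype.val_injective.swap_apply a b x).symm

theorem T1.top {Γ : Finset Ω} (h : T1 G Γ) : ind G Γ = ⊤ := by
  rw [eq_top_iff, ← Perm.closure_isSwap, closure_le]
  rintro _ ⟨a, b, -, rfl⟩
  obtain ⟨g, hg⟩ := h a a.2 b b.2
  exact ⟨g, fun x => by rw [hg x x.2, coe_swap]⟩

theorem T2.alt {Γ : Finset Ω} (h : T2 G Γ) (h5 : 5 ≤ Γ.card) : alternatingGroup Γ ≤ ind G Γ := by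
  have k : ∀ a b c d : Γ, [a, b, c, d].Nodup → swap a b * swap c d ∈ ind G Γ := fun a b c d e => by
    simp only [List.nodup_cons, List.mem_cons, not_or, List.not_mem_nil, not_false_eq_true, and_true,
      List.nodup_nil, ← Subtype.val_inj] at e
    obtain ⟨g, hg⟩ := h a a.2 b b.2 c c.2 d d.2 e.1.1 e.1.2.1 e.1.2.2 e.2.1.1 e.2.1.2 e.2.2
    exact ⟨g, fun x => by rw [hg x x.2, Perm.mul_apply, Perm.mul_apply, coe_swap, coe_swap]⟩
  rw [← Perm.closure_three_cycles_eq_alternating, closure_le]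
  intro g hg3
  obtain ⟨a, ha⟩ := hg3.isCycle.nonempty_support
  have h_support := hg3.support_eq_iff_mem_support.mpr ha
  have h_nodup := hg3.nodup_iff_mem_support.mpr ha
  have : 1 < g.supportᶜ.card := by
    rw [Finset.card_compl, hg3.card_support, Fintype.card_coe]; omega
  obtain ⟨b, c, hb, hc, hbc⟩ := Finset.one_lt_card_iff.mp this
  have H : g = (swap a (g a) * (swap b c)) * (swap b c * (swap (g a) (g (g a)))) := by
    simp [mul_assoc, ← hg3.eq_swap_mul_swap_iff_mem_support.mpr ha]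
  rw [H]
  apply mul_mem <;> exact k _ _ _ _ (by grind [Finset.mem_compl])

theorem t1_of_alt {Γ : Finset Ω} (h : alternatingGroup Γ ≤ ind G Γ) {a b : Ω} (ha : a ∈ Γ) (hb : b ∈ Γ)
    (hab : a ≠ b) (h1 : Ac G Γ (swap a b)) : T1 G Γ := fun c hc d hd => by
  by_cases e : c = d
  · exact ⟨1, fun x _ => by simp [e]⟩
  obtain ⟨u, hu⟩ := h1
  obtain ⟨g, hg⟩ := h (x := swap ⟨c, hc⟩ ⟨d, hd⟩ * swap ⟨a, ha⟩ ⟨b, hb⟩) (by
    rw [Perm.mem_alternatingGroup, map_mul, Perm.sign_swap (by simpa), Perm.sign_swap (by simpa)]; simp)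
  refine ⟨g * u, fun x hx => ?_⟩
  have := hg ⟨_, swap_mem ha hb hx⟩
  rw [Perm.mul_apply, coe_swap, coe_swap] at this
  rw [mul_smul, hu x hx, this]; simp

theorem adj {s : Finset Ω} {a b : Ω} (ha : a ∉ s) (hb : b ∉ s) {g : G} (hg : g • insert a s = insert b s) :
    ∃ σ : Perm ↥(insert b s), ∀ c d : ↥(insert b s), (c : Ω) ∈ s → (d : Ω) ∈ s → σ * swap c d ∈ ind G _ →
      ∃ u : G, (∀ x ∈ s, u • x = swap (c : Ω) d x) ∧ u • a = b := by
  have k : ∀ x, (toPerm g * swap a b : Perm Ω) x ∈ insert b s ↔ x ∈ insert b s := fun x => by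
    rw [Perm.mul_apply, toPerm_apply, ← hg, Finset.smul_mem_smul_finset_iff, hg, swap_apply_def]
    grind
  refine ⟨(toPerm g * swap a b : Perm Ω).subtypePerm k, fun c d hc hd ⟨u, hu⟩ => ⟨u⁻¹ * g, fun x hx => ?_, ?_⟩⟩
  · have : _ = g • swap a b (swap c d _ : ↥(insert b s)) :=
      hu ⟨_, Finset.mem_insert_of_mem (swap_mem hc hd hx)⟩
    rw [coe_swap, swap_apply_self,
      swap_apply_of_ne_of_ne (a := a) (ne_of_mem_of_not_mem hx ha) (ne_of_mem_of_not_mem hx hb)] at this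
    rw [mul_smul, inv_smul_eq_iff, this]
  · have : _ = g • swap a b (swap c d _ : ↥(insert b s)) := hu ⟨_, Finset.mem_insert_self b s⟩
    rw [coe_swap, swap_apply_of_ne_of_ne (a := (c : Ω)) (ne_of_mem_of_not_mem hc hb).symm
      (ne_of_mem_of_not_mem hd hb).symm, swap_apply_right] at this
    rw [mul_smul, inv_smul_eq_iff, this]

theorem kt_of_t1 {k : ℕ} (h : KT Ω (⊤ : Subgroup G) k)
    (hh : ∀ s t : Finset Ω, s.card = k + 1 → t.card = k + 1 → ∃ g : G, g • s = t) {Γ : Finset Ω}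
    (h1 : Γ.card = k + 1) (h2 : T1 G Γ) : KT Ω (⊤ : Subgroup G) (k + 1) := by
  obtain ⟨s, -, hs⟩ := Finset.exists_subset_card_eq (s := Γ) (n := k) (by omega)
  refine h.succ s hs fun a ha b hb => ?_
  have c1 := Finset.card_insert_of_notMem ha
  have c2 := Finset.card_insert_of_notMem hb
  obtain ⟨g, hg⟩ := hh (insert a s) (insert b s) (by omega) (by omega)
  obtain ⟨v, hv⟩ := hh Γ (insert b s) h1 (by omega)
  obtain ⟨σ, hσ⟩ := adj ha hb hg
  rcases s.eq_empty_or_nonempty with rfl | ⟨c, hc⟩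
  · exact ⟨g, mem_top _, by simp, by simpa using hg⟩
  obtain ⟨u, u1, u2⟩ := hσ ⟨c, Finset.mem_insert_of_mem hc⟩ ⟨c, Finset.mem_insert_of_mem hc⟩ hc hc
    (by rw [T1.top (G := G) (hv ▸ h2.smul v)]; trivial)
  exact ⟨u, mem_top _, by simpa using u1, u2⟩

omit [DecidableEq Ω] in
theorem NoInv.mono {k j : ℕ} (h : NoInv G Ω k) (h1 : k ≤ j) : NoInv G Ω j := fun s hs z z1 z2 => by
  obtain ⟨t, t1, t2⟩ := Finset.exists_subset_card_eq (s := s) (n := k) (by omega)
  exact h t t2 z z1 fun x hx => z2 x (t1 hx)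

omit [DecidableEq Ω] in
theorem pow_fix {g : G} {x : Ω} (h : g • x = x) (n : ℕ) : g ^ n • x = x :=
  pow_mem (show g ∈ stabilizer G x from h) n

omit [DecidableEq Ω] in
theorem NoInv.odd [Finite G] {k : ℕ} (h : NoInv G Ω k) {s : Finset Ω} (hs : s.card = k) {g : G}
    (hg : ∀ x ∈ s, g • x = x) : Odd (orderOf g) := by
  rw [← Nat.not_even_iff_odd]
  rintro ⟨m, hm⟩
  have := orderOf_pos g
  exact pow_ne_one_of_lt_orderOf (n := m) (by omega) (by omega) (h s hs (g ^ m)
    (by rw [← pow_add, ← hm, pow_orderOf_eq_one]) fun x hx => pow_fix (hg x hx) m)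

omit [DecidableEq Ω] in
theorem odd_pow {g : G} (h : Odd (orderOf (g * g))) : ∃ n : ℕ, g ^ n * g ^ n = 1 ∧
    ∀ x : Ω, g • g • x = x → g ^ n • x = g • x := by
  obtain ⟨m, hm⟩ := h
  refine ⟨2 * m + 1, by rw [← Commute.mul_pow rfl, ← hm, pow_orderOf_eq_one], fun x hx => ?_⟩
  rw [pow_succ', pow_mul, mul_smul, pow_fix (by rw [sq, mul_smul, hx])]

theorem exists_map_set {k : ℕ} (h : KT Ω (⊤ : Subgroup G) k) {s t : Finset Ω} (hs : s.card = k)
    (ht : t.card = k) : ∃ g : G, g • s = t := by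
  obtain ⟨g, -, hg⟩ := h.exists_fun (ι := Fin k) (by simp)
    (x := fun i => ((s.equivFinOfCardEq hs).symm i : Ω)) (y := fun i => ((t.equivFinOfCardEq ht).symm i : Ω))
    (Subtype.val_injective.comp (Equiv.injective _)) (Subtype.val_injective.comp (Equiv.injective _))
  refine ⟨g, Finset.eq_of_subset_of_card_le (fun x hx => ?_) (by simp [hs, ht])⟩
  obtain ⟨y, hy, rfl⟩ := Finset.mem_smul_finset.1 hx
  have := hg (s.equivFinOfCardEq hs ⟨y, hy⟩)
  simp only [Equiv.symm_apply_apply] at this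
  exact this ▸ Subtype.property _

/-- involutions with the maximal number of fixed points induce all transpositions -/
theorem t1_of_inv [Finite Ω] {k : ℕ} (h : KT Ω (⊤ : Subgroup G) (k + 1)) (hS : Shp G Ω (k + 2))
    (hn : ¬ NoInv G Ω (k + 1)) {Γ : Finset Ω} (hΓ : Γ.card = k + 2) : T1 G Γ := by
  intro a ha b hb
  by_cases hab : a = b
  · exact ⟨1, fun x _ => by simp [hab]⟩
  set s := (Γ.erase a).erase b with e
  have hs : s.card = k := by
    rw [e, Finset.card_erase_of_mem (by simp [hb, Ne.symm hab]), Finset.card_erase_of_mem ha]; omega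
  simp only [NoInv, not_forall] at hn
  obtain ⟨s₀, s0, z₀, z1, z2, z3⟩ := hn
  have k1 : ∀ y : {y // y ∉ s ∧ y ≠ a}, ∃ z : G, z * z = 1 ∧ z ≠ 1 ∧ ∀ x ∈ insert y.1 s, z • x = x :=
    fun y => by
      obtain ⟨g, hg⟩ := exists_map_set h s0 (t := insert y.1 s) (by
        rw [Finset.card_insert_of_notMem y.2.1, hs])
      refine ⟨g * z₀ * g⁻¹, by rw [conj_mul, z1]; simp, by simpa using z3, fun x hx => ?_⟩
      obtain ⟨w, hw, rfl⟩ := Finset.mem_smul_finset.1 (hg ▸ hx)
      rw [mul_smul, mul_smul, inv_smul_smul, z2 w hw]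
  choose z y1 y2 y3 using k1
  have as : a ∉ s := by simp [e]
  have y4 : ∀ y (x : Ω), z y • z y • x = x := fun y x => by rw [← mul_smul, y1, one_smul]
  have k2 : ∀ y, z y • a ∉ s ∧ z y • a ≠ a := fun y =>
    ⟨fun c => as (by rw [← y4 y a, y3 y _ (Finset.mem_insert_of_mem c)]; exact c), fun c =>
      y2 y (hS (insert a (insert y.1 s)) (by
        rw [Finset.card_insert_of_notMem (by simp [as, y.2.2.symm]), Finset.card_insert_of_notMem y.2.1, hs])
        _ fun x hx => by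
          rcases Finset.mem_insert.1 hx with rfl | hx
          exacts [c, y3 y x hx])⟩
  have k3 : Function.Injective fun y => (⟨z y • a, k2 y⟩ : {y // y ∉ s ∧ y ≠ a}) := fun y w c => by
    have c : z y • a = z w • a := congrArg Subtype.val c
    have c1 := hS (insert a (insert (z y • a) s)) (by
      rw [Finset.card_insert_of_notMem (by simp [as, (k2 y).2.symm]),
        Finset.card_insert_of_notMem (k2 y).1, hs]) (z y * z w) fun x hx => by
      rw [mul_smul]
      rcases Finset.mem_insert.1 hx with rfl | hx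
      · rw [← c, y4]
      rcases Finset.mem_insert.1 hx with rfl | hx
      · rw [c, y4, c]
      · rw [y3 w x (Finset.mem_insert_of_mem hx), y3 y x (Finset.mem_insert_of_mem hx)]
    have c2 : z y = z w := mul_right_cancel (c1.trans (y1 w).symm)
    by_contra c3
    refine y2 y (hS (insert w.1 (insert y.1 s)) (by
      rw [Finset.card_insert_of_notMem (by simp [w.2.1, Subtype.val_inj, Ne.symm c3]),
        Finset.card_insert_of_notMem y.2.1, hs]) _ fun x hx => ?_)
    rcases Finset.mem_insert.1 hx with rfl | hx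
    exacts [c2 ▸ y3 w _ (Finset.mem_insert_self _ _), y3 y x hx]
  obtain ⟨y, hy⟩ := Finite.injective_iff_surjective.1 k3 ⟨b, by simp [e], Ne.symm hab⟩
  have hy : z y • a = b := congrArg Subtype.val hy
  refine ⟨z y, fun x hx => ?_⟩
  rw [swap_apply_def]
  split_ifs with c1 c2
  · rw [c1, hy]
  · rw [c2, ← hy, y4]
  · exact y3 y x (Finset.mem_insert_of_mem (by simp [e, c1, c2, hx]))

omit [DecidableEq Ω] in
theorem fix_parity [Finite Ω] {z : G} (h : z * z = 1) {s : Finset Ω} (hs : ∀ x, z • x = x ↔ x ∈ s) :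
    Nat.card Ω ≡ s.card [MOD 2] := by
  classical
  have := Fintype.ofFinite Ω
  have := Perm.card_fixedPoints_modEq (f := (fun x : Ω => z • x : Function.End Ω)) (p := 2) (n := 1)
    (funext fun x => show z • z • x = x by rw [← mul_smul, h, one_smul])
  rwa [← Nat.card_eq_fintype_card, Fintype.card_of_finset' (p := Function.fixedPoints _) s fun x => (hs x).symm] at this

theorem exists_sw [Finite G] {k : ℕ} (h : KT Ω (⊤ : Subgroup G) (k + 2)) (hn : NoInv G Ω (k + 2))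
    {s : Finset Ω} (hs : s.card = k) {a b : Ω} (ha : a ∉ s) (hb : b ∉ s) (hab : a ≠ b) :
    ∃ z : G, z * z = 1 ∧ (∀ x ∈ s, z • x = x) ∧ z • a = b ∧ z • b = a := by
  have c : (insert a (insert b s)).card = k + 2 := by
    rw [Finset.card_insert_of_notMem (by simp [ha, hab]), Finset.card_insert_of_notMem hb, hs]
  obtain ⟨g, -, hg⟩ := h.exists_map _ c.le (swap a b) (swap a b).injective.injOn
  have k1 : ∀ x ∈ insert a (insert b s), g • g • x = x := fun x hx => by
    rw [hg x hx, hg _ (swap_mem (by simp) (by simp) hx), swap_apply_self]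
  obtain ⟨n, n1, n2⟩ := odd_pow (Ω := Ω) (hn.odd c (g := g * g) fun x hx => by rw [mul_smul, k1 x hx])
  have k2 := fun x hx => (n2 x (k1 x hx)).trans (hg x hx)
  exact ⟨g ^ n, n1, fun x hx => by
    rw [k2 x (by simp [hx]), swap_apply_of_ne_of_ne (by grind) (by grind)],
    by simpa using k2 a (by simp), by simpa using k2 b (by simp)⟩

theorem NoInv.fix {k : ℕ} (hn : NoInv G Ω (k + 1)) {s : Finset Ω} (hs : s.card = k) {z : G}
    (h1 : z * z = 1) (h2 : z ≠ 1) (h3 : ∀ x ∈ s, z • x = x) {y : Ω} (hy : z • y = y) : y ∈ s := by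
  by_contra e
  exact h2 (hn (insert y s) (by rw [Finset.card_insert_of_notMem e, hs]) z h1 (by simpa [hy] using h3))

theorem NoInv.pred [Finite Ω] {k : ℕ} (hn : NoInv G Ω (k + 1)) (hp : ¬ Nat.card Ω ≡ k [MOD 2]) :
    NoInv G Ω k := fun _ hs z z1 z2 => by_contra fun e =>
  hp (hs ▸ fix_parity z1 fun x => ⟨hn.fix hs z1 e z2, z2 x⟩)

/-- involutions with few fixed points induce all double transpositions -/
theorem t2_of_noInv [Finite G] [Finite Ω] {k : ℕ} (h : KT Ω (⊤ : Subgroup G) (k + 3))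
    (hS : Shp G Ω (k + 4)) (hn : NoInv G Ω (k + 2)) {Γ : Finset Ω} (hΓ : Γ.card = k + 4) : T2 G Γ := by
  intro a ha b hb c hc d hd ab ac ad bc bd cd
  set s := Γ \ {a, b, c, d} with e
  have c4 : ∀ d, a ≠ d → b ≠ d → c ≠ d → ({a, b, c, d} : Finset Ω).card = 4 := fun d ad bd cd => by
    rw [Finset.card_insert_of_notMem (by simp [*]), Finset.card_insert_of_notMem (by simp [*]),
      Finset.card_pair cd]
  have hs : s.card = k := by
    rw [e, Finset.card_sdiff_of_subset (by simp [Finset.insert_subset_iff, *]), c4 d ad bd cd]; omega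
  have as : a ∉ s := by simp [e]
  have bs : b ∉ s := by simp [e]
  have cs : c ∉ s := by simp [e]
  have k1 := fun y : {y // y ∉ s ∧ y ≠ a ∧ y ≠ b ∧ y ≠ c} =>
    exists_sw h (hn.mono (by omega)) (s := insert y.1 s) (by rw [Finset.card_insert_of_notMem y.2.1, hs])
      (a := a) (b := b) (by simp [as, y.2.2.1.symm]) (by simp [bs, y.2.2.2.1.symm]) ab
  choose z y1 y3 y5 y6 using k1
  have y4 : ∀ y (x : Ω), z y • z y • x = x := fun y x => by rw [← mul_smul, y1, one_smul]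
  have y7 : ∀ y (x : Ω), z y • x = x → x ∈ insert y.1 s := fun y x => hn.fix
    (by rw [Finset.card_insert_of_notMem y.2.1, hs]) (y1 y) (fun e => ab (by rw [← y5 y, e, one_smul])) (y3 y)
  have k2 : ∀ y, z y • c ∉ s ∧ z y • c ≠ a ∧ z y • c ≠ b ∧ z y • c ≠ c := fun y =>
    ⟨fun e => cs (by rw [← y4 y c, y3 y _ (Finset.mem_insert_of_mem e)]; exact e),
      fun e => bc (by rw [← y4 y c, e, y5]), fun e => ac (by rw [← y4 y c, e, y6]),
      fun e => by simpa [cs, y.2.2.2.2.symm] using y7 y c e⟩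
  have k3 : Function.Injective fun y => (⟨z y • c, k2 y⟩ : {y // y ∉ s ∧ y ≠ a ∧ y ≠ b ∧ y ≠ c}) :=
    fun y w e => by
    have e : z y • c = z w • c := congrArg Subtype.val e
    have c1 := hS ({a, b, c, z y • c} ∪ s) (by
      rw [Finset.card_union_of_disjoint (by simp [as, bs, cs, (k2 y).1]),
        c4 _ (k2 y).2.1.symm (k2 y).2.2.1.symm (k2 y).2.2.2.symm]; omega) (z y * z w) fun x hx => by
      rw [mul_smul]
      simp only [Finset.mem_union, Finset.mem_insert, Finset.mem_singleton] at hx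
      rcases hx with (rfl | rfl | rfl | rfl) | hx
      · rw [y5, y6]
      · rw [y6, y5]
      · rw [← e, y4]
      · rw [e, y4, e]
      · rw [y3 w x (Finset.mem_insert_of_mem hx), y3 y x (Finset.mem_insert_of_mem hx)]
    have c2 : z y = z w := mul_right_cancel (c1.trans (y1 w).symm)
    have := y7 w y (c2 ▸ y3 y _ (Finset.mem_insert_self _ _))
    exact Subtype.ext (by simpa [y.2.1] using this)
  obtain ⟨y, hy⟩ := Finite.injective_iff_surjective.1 k3 ⟨d, by simp [e], ad.symm, bd.symm, cd.symm⟩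
  have hy : z y • c = d := congrArg Subtype.val hy
  refine ⟨z y, fun x hx => ?_⟩
  have := y4 y c
  have := y5 y
  have := y6 y
  have : x ∉ ({a, b, c, d} : Finset Ω) → z y • x = x := fun c =>
    y3 y x (Finset.mem_insert_of_mem (Finset.mem_sdiff.2 ⟨hx, c⟩))
  rw [Perm.mul_apply, swap_apply_def, swap_apply_def]
  grind

theorem zpow_fix {g : G} {x : Ω} (h : g • x = x) (n : ℤ) : g ^ n • x = x :=
  zpow_mem (show g ∈ stabilizer G x from h) n

theorem swap_step [Finite G] {k : ℕ} (h : KT Ω (⊤ : Subgroup G) (k + 1)) (hS : Shp G Ω (k + 2))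
    (hn : NoInv G Ω (k + 1)) {Γ : Finset Ω} (hΓ : Γ.card = k + 2) {a b c d : Ω} (ha : a ∈ Γ) (hb : b ∈ Γ)
    (hc : c ∈ Γ) (hd : d ∈ Γ) (ab : a ≠ b) (ac : a ≠ c) (ad : a ≠ d) (bc : b ≠ c) (bd : b ≠ d) (cd : c ≠ d)
    (h1 : Ac G Γ (swap a b)) : Ac G Γ (swap c d) := by
  obtain ⟨z, hz⟩ := h1
  have z1 : z * z = 1 := hS Γ hΓ _ fun x hx => by
    rw [mul_smul, hz x hx, hz _ (swap_mem ha hb hx), swap_apply_self]
  have c1 : (Γ.erase d).card = k + 1 := by rw [Finset.card_erase_of_mem hd]; omega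
  have c2 : (Γ.erase c).card = k + 1 := by rw [Finset.card_erase_of_mem hc]; omega
  obtain ⟨g, -, hg⟩ := h.exists_map _ c1.le (swap c d) (swap c d).injective.injOn
  have k0 : ∀ x ∈ Γ.erase c, g⁻¹ • x = swap c d x := fun x hx => by
    rw [inv_smul_eq_iff, hg, swap_apply_self]
    rw [swap_apply_def]; grind
  have k1 : ∀ x ∈ Γ.erase c, (g * z * g⁻¹) • x = swap a b x := fun x hx => by
    rw [mul_smul, mul_smul, k0 x hx, hz _ (swap_mem hc hd (Finset.mem_of_mem_erase hx)), hg]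
    all_goals simp only [swap_apply_def]; grind
  have k2 : ∀ x ∈ Γ.erase c, (g * z * g⁻¹ * z) • x = x := fun x hx => by
    rw [mul_smul, hz x (Finset.mem_of_mem_erase hx), k1, swap_apply_self]
    simp only [swap_apply_def]; grind
  obtain ⟨n, e⟩ := Inv.exists_zpow_conj_of_odd (x := g * z * g⁻¹) (by rw [conj_mul, z1]; simp) z1
    (hn.odd c2 k2)
  set u := (g * z * g⁻¹ * z) ^ n
  have k3 : ∀ x ∈ Γ.erase c, u • x = x := fun x hx => zpow_fix (k2 x hx) n
  have k4 : z • u • g • d = u • g • d := by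
    conv_lhs => rw [← e]
    simp only [mul_smul, inv_smul_smul]
    rw [hz d hd, swap_apply_of_ne_of_ne ad.symm bd.symm]
  have k5 := hn.fix (s := (Γ.erase a).erase b) (by
    rw [Finset.card_erase_of_mem (by simp [hb, ab.symm]), Finset.card_erase_of_mem ha]; omega) z1
    (fun e => ab (by simpa [e] using hz a ha)) (fun x hx => by
      rw [hz x (by grind), swap_apply_def]; grind) k4
  have k6 : u • g • d = c := by
    by_contra e
    have e1 : u • g • d ∈ Γ.erase c := by grind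
    have e2 := (smul_left_cancel_iff u).1 (k3 _ e1)
    have e3 := k0 _ e1
    rw [e2, inv_smul_smul, eq_comm, swap_apply_eq_iff, swap_apply_right] at e3
    exact e (e2.trans e3)
  refine ⟨u * g, fun x hx => ?_⟩
  by_cases e : x = d
  · rw [e, mul_smul, k6, swap_apply_right]
  · rw [mul_smul, hg x (by simp [e, hx]), k3]
    rw [swap_apply_def]; grind

/-- the case that only the identity fixes `k + 1` points -/
theorem t2_of_shp [Finite G] [Finite Ω] {k : ℕ} (h : KT Ω (⊤ : Subgroup G) (k + 4))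
    (hS : Shp G Ω (k + 5)) (hk : k + 5 ≤ Nat.card Ω) : ∃ Γ : Finset Ω, Γ.card = k + 5 ∧ T2 G Γ := by
  obtain ⟨Γ, hΓ⟩ := exists_finset_card hk
  by_cases hn : NoInv G Ω (k + 4)
  swap
  · exact ⟨Γ, hΓ, (t1_of_inv h hS hn hΓ).t2⟩
  by_cases h1 : NoInv G Ω (k + 3)
  · exact ⟨Γ, hΓ, t2_of_noInv (k := k + 1) h hS h1 hΓ⟩
  simp only [NoInv, not_forall] at h1
  obtain ⟨s, hs, z, z1, z2, z3⟩ := h1
  have := hS.faithful hk
  obtain ⟨a, ha⟩ := exists_smul_ne (Ω := Ω) z3
  have z4 : z • z • a = a := by rw [← mul_smul, z1, one_smul]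
  have as : a ∉ s := fun e => ha (z2 a e)
  have bs : z • a ∉ s := fun e => ha (by rw [← z2 _ e, z4])
  have c : (insert a (insert (z • a) s)).card = k + 5 := by
    rw [Finset.card_insert_of_notMem (by simp [as, ha.symm]), Finset.card_insert_of_notMem bs, hs]
  have k1 : Ac G (insert a (insert (z • a) s)) (swap a (z • a)) :=
    ⟨z, fun x hx => by rw [swap_apply_def]; grind⟩
  have k2 := fun c hc d hd ac ad bc bd cd =>
    swap_step (c := c) (d := d) h hS hn ‹_› (by simp) (by simp) hc hd ha.symm ac ad bc bd cd k1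
  refine ⟨_, c, T1.t2 fun c hc d hd => ?_⟩
  by_cases cd : c = d
  · exact ⟨1, fun x _ => by simp [cd]⟩
  by_cases e : c ∈ s ∧ d ∈ s
  · exact k2 c hc d hd (by grind) (by grind) (by grind) (by grind) cd
  have : 1 < ((s.erase c).erase d).card := by
    rw [Finset.card_erase_eq_ite, Finset.card_erase_eq_ite]; grind
  obtain ⟨u, v, hu, hv, uv⟩ := Finset.one_lt_card_iff.1 this
  exact swap_step h hS hn ‹_› (by grind) (by grind) hc hd uv (by grind) (by grind) (by grind) (by grind) cd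
    (k2 u (by grind) v (by grind) (by grind) (by grind) (by grind) (by grind) uv)

end Cfsg.Agent.Perm.LW
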