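import Cfsg.Agent.Perm.LW
import Cfsg.Agent.S0736
import Cfsg.Agent.S0744

/-! Livingstone–Wagner theorems. -/

set_option autoImplicit false

namespace Cfsg.Agent.Perm.LW

open Subgroup MulAction Cfsg.Agent.Comp Equiv Cfsg.Agent.Perm
open scoped Pointwise

universe u

variable {G Ω : Type*} [Group G] [MulAction G Ω]

variable (Ω) in
/-- the normalizer acts on the fixed points -/
def fixSub (Q : Subgroup G) : SubMulAction (normalizer (Q : Set G)) Ω where
  carrier := fixedPoints Q Ω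
  smul_mem' := fun g x hx u => by
    have := hx ⟨_, (mem_normalizer_iff''.1 g.2 u).1 u.2⟩
    change ((g : G)⁻¹ * u * g) • x = x at this
    change (u : G) • (g : G) • x = (g : G) • x
    rwa [mul_smul, mul_smul, inv_smul_eq_iff] at this

theorem norm_kt [Finite G] [Finite Ω] {p k : ℕ} [hp : Fact p.Prime] (h : KT Ω (⊤ : Subgroup G) k)
    {Q : Subgroup G} (hQ : IsPGroup p Q) (hF : k < Nat.card (fixSub Ω Q))
    (hm : ∀ R : Subgroup G, IsPGroup p R → k < Nat.card (fixSub Ω R) → Nat.card R ≤ Nat.card Q) :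
    KT (fixSub Ω Q) (⊤ : Subgroup (normalizer (Q : Set G))) k := by
  classical
  let e : fixSub Ω Q ↪ Ω := .subtype _
  have k0 : ∀ t : Finset (fixSub Ω Q), Q ≤ fixingSubgroup G (t.map e : Set Ω) := fun t u hu =>
    (mem_fixingSubgroup_iff _).2 fun x hx => by
      obtain ⟨y, -, rfl⟩ := Finset.mem_map.1 hx
      exact y.2 ⟨u, hu⟩
  by_cases h1 : ∃ t : Finset (fixSub Ω Q), t.card = k ∧ SylIn p Q (fixingSubgroup G (t.map e : Set Ω))
  · obtain ⟨t₀, t1, t2⟩ := h1
    intro s hs a ha b hb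
    have := Fintype.ofFinite (fixSub Ω Q)
    obtain ⟨t, t3, -, t4⟩ := Finset.exists_subsuperset_card_eq (Finset.subset_univ (insert a s)) (n := k)
      (by rw [Finset.card_insert_of_notMem ha]; omega) (by simpa using hF.le)
    have t5 : SylIn p Q (fixingSubgroup G (t.map e : Set Ω)) := ⟨k0 t, hQ, by
      have := (Core.card_mul_relIndex (k0 t)).trans ((card_fixing_eq h.multi_top (by simpa) (by simpa)).trans
        (Core.card_mul_relIndex (k0 t₀)).symm)
      rw [Nat.eq_of_mul_eq_mul_left Nat.card_pos this]; exact t2.idx⟩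
    obtain ⟨g, -, hg⟩ := h.exists_map (t.map e) (by simpa using t4.le) (swap (a : Ω) b)
      (Equiv.injective _).injOn
    have k2 : ∀ x ∈ t, g • (x : Ω) = swap a b x := fun x hx =>
      (hg _ (Finset.mem_map_of_mem e hx)).trans (Subtype.val_injective.swap_apply a b x)
    obtain ⟨u, u1, u2⟩ := witt t5 (g := g) fun x hx u hu => by
      obtain ⟨y, hy, rfl⟩ := Finset.mem_map.1 hx
      exact (k2 y hy).symm ▸ (swap a b y).2 ⟨u, hu⟩
    have k3 : ∀ x ∈ insert a s, (⟨u, u1⟩ : normalizer (Q : Set G)) • x = swap a b x := fun x hx =>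
      Subtype.ext ((u2 _ (Finset.mem_map_of_mem e (t3 hx))).trans (k2 x (t3 hx)))
    exact ⟨⟨u, u1⟩, mem_top _, fun x hx => by
      rw [k3 x (Finset.mem_insert_of_mem hx),
        swap_apply_of_ne_of_ne (ne_of_mem_of_not_mem hx ha) (ne_of_mem_of_not_mem hx hb)],
      by simpa using k3 a (by simp)⟩
  refine gleason hp.out hF fun t ht => ?_
  obtain ⟨R, r1, r2⟩ := exists_sylIn_ge (k0 t) hQ
  have r3 := PLoc.lt_inf_normalizer r2.pg (r1.lt_of_ne fun c => h1 ⟨t, ht, c ▸ r2⟩)
  have r4 := r2.pg.to_le (inf_le_left (b := normalizer (Q : Set G)))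
  refine ⟨R.subgroupOf _, r2.pg.comap_of_injective _ (subtype_injective _), Eq.symm ?_⟩
  refine Set.eq_of_subset_of_ncard_le (fun x hx u => Subtype.ext
    ((mem_fixingSubgroup_iff _).1 (r2.le u.2) _ (Finset.mem_map_of_mem e hx))) ?_
  rw [Set.ncard_coe_finset, ht]
  by_contra c
  refine (Core.card_lt_of_lt r3).not_ge (hm _ r4 ((not_le.1 c).trans_le ?_))
  rw [← Set.ncard_image_of_injective _ Subtype.val_injective]
  refine Set.ncard_le_ncard (t := fixedPoints ↥(R ⊓ normalizer (Q : Set G)) Ω) ?_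
  rintro _ ⟨x, hx, rfl⟩ u
  exact congrArg Subtype.val (hx ⟨⟨u, u.2.2⟩, u.2.1⟩)

theorem exists_t2 {k : ℕ} (n : ℕ) : ∀ (Ω G : Type u) [Finite Ω] [DecidableEq Ω] [Group G] [MulAction G Ω],
    Nat.card Ω = n → KT Ω (⊤ : Subgroup G) (k + 4) → k + 5 ≤ n →
    ∃ Γ : Finset Ω, Γ.card = k + 5 ∧ T2 G Γ := by
  induction n using Nat.strong_induction_on with | _ n ih => ?_
  intro Ω G _ _ _ _ hn h hk
  let H := (toPermHom G Ω).range
  have h1 : KT Ω (⊤ : Subgroup H) (k + 4) := fun s hs a ha b hb =>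
    let ⟨g, _, hg⟩ := h s hs a ha b hb
    ⟨⟨_, g, rfl⟩, mem_top _, hg⟩
  suffices ∃ Γ : Finset Ω, Γ.card = k + 5 ∧ T2 H Γ by
    obtain ⟨Γ, c1, c2⟩ := this
    refine ⟨Γ, c1, fun a ha b hb c hc d hd e1 e2 e3 e4 e5 e6 => ?_⟩
    obtain ⟨⟨_, g, rfl⟩, hg⟩ := c2 a ha b hb c hc d hd e1 e2 e3 e4 e5 e6
    exact ⟨g, hg⟩
  by_cases hS : Shp H Ω (k + 5)
  · exact t2_of_shp h1 hS (hn ▸ hk)
  simp only [Shp, not_forall] at hS
  obtain ⟨s, hs, g, g1, g2⟩ := hS
  obtain ⟨p, hp, hd⟩ := Nat.exists_prime_and_dvd (n := Nat.card (fixingSubgroup H (s : Set Ω))) fun e =>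
    g2 ((eq_bot_iff_forall _).1 (card_eq_one.1 e) g ((mem_fixingSubgroup_iff _).2 g1))
  have := Fact.mk hp
  obtain ⟨P, hP⟩ := exists_sylIn p (fixingSubgroup H (s : Set Ω))
  have hP' : k + 4 < Nat.card (fixSub Ω P) := by
    have := Set.ncard_le_ncard (s := s) (t := fixedPoints P Ω) fun x hx u =>
      (mem_fixingSubgroup_iff _).1 (hP.le u.2) x hx
    rw [Set.ncard_coe_finset] at this
    exact (hs ▸ this :)
  obtain ⟨Q, ⟨q1, q2⟩, q3⟩ := Set.exists_max_image
    {R : Subgroup H | IsPGroup p R ∧ k + 4 < Nat.card (fixSub Ω R)} (fun R => Nat.card R) (Set.toFinite _)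
    ⟨P, hP.pg, hP'⟩
  have q4 : Q ≠ ⊥ := fun e => by
    have := q3 P ⟨hP.pg, hP'⟩
    rw [e, card_bot] at this
    exact hp.one_lt.ne' ((hP.eq_bot_iff.1 (eq_bot_of_card_le _ this)).symm.eq_one_of_dvd hd)
  obtain ⟨u, u1, u2⟩ := (bot_or_exists_ne_one Q).resolve_left q4
  obtain ⟨x, hx⟩ := exists_smul_ne (Ω := Ω) u2
  obtain ⟨Γ, c1, c2⟩ := ih _ (hn ▸ Finite.card_subtype_lt (p := (· ∈ fixSub Ω Q)) (x := x)
    fun e => hx (e ⟨u, u1⟩)) (fixSub Ω Q) _ rfl (norm_kt h1 q1 q2 fun R r1 r2 => q3 R ⟨r1, r2⟩) q2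
  refine ⟨Γ.map (.subtype _), by simpa, fun a ha b hb c hc d hd e1 e2 e3 e4 e5 e6 => ?_⟩
  obtain ⟨a, a1, rfl⟩ := Finset.mem_map.1 ha
  obtain ⟨b, b1, rfl⟩ := Finset.mem_map.1 hb
  obtain ⟨c, c1, rfl⟩ := Finset.mem_map.1 hc
  obtain ⟨d, d1, rfl⟩ := Finset.mem_map.1 hd
  simp only [ne_eq, EmbeddingLike.apply_eq_iff_eq] at e1 e2 e3 e4 e5 e6
  obtain ⟨v, hv⟩ := c2 a a1 b b1 c c1 d d1 e1 e2 e3 e4 e5 e6
  refine ⟨v, fun x hx => ?_⟩
  obtain ⟨y, hy, rfl⟩ := Finset.mem_map.1 hx
  rw [Perm.mul_apply, Function.Injective.swap_apply (Function.Embedding.injective _),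
    Function.Injective.swap_apply (Function.Embedding.injective _)]
  exact congrArg Subtype.val (hv y hy)

variable [DecidableEq Ω]

theorem four_group [Finite G] {Δ : Finset Ω} (h : T2 G Δ) (hn : NoInv G Ω Δ.card) {a b c d : Ω} (ha : a ∈ Δ)
    (hb : b ∈ Δ) (hc : c ∈ Δ) (hd : d ∈ Δ) (ab : a ≠ b) (ac : a ≠ c) (ad : a ≠ d) (bc : b ≠ c) (bd : b ≠ d)
    (cd : c ≠ d) : ∃ V : Subgroup G, IsKleinFour V ∧ V ≤ fixingSubgroup G ((Δ \ {a, b, c, d} : Finset Ω) : Set Ω) ∧
      V ≤ stabilizer G ({a, b, c, d} : Finset Ω) := by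
  obtain ⟨g, hg⟩ := h a ha b hb c hc d hd ab ac ad bc bd cd
  obtain ⟨u, hu⟩ := h a ha c hc b hb d hd ac ab ad bc.symm cd bd
  simp only [Perm.mul_apply, swap_apply_def] at hg hu
  have g0 : ∀ x ∈ Δ, g • x ∈ Δ := by grind
  have g1 : ∀ x ∈ Δ, g • g • x = x := by grind
  have u0 : ∀ x ∈ Δ, u • x ∈ Δ := by grind
  have u1 : ∀ x ∈ Δ, u • u • x = x := by grind
  have u2 : ∀ x ∈ Δ, u • g • x = g • u • x := by grind
  obtain ⟨n, z1, z2⟩ := odd_pow (Ω := Ω) (hn.odd rfl (g := g * g) fun x hx => by rw [mul_smul, g1 x hx])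
  set z := g ^ n
  have z3 := fun x hx => z2 x (g1 x hx)
  have z4 : ∀ x ∈ Δ, (u * z * u⁻¹ * z) • x = x := fun x hx => by
    rw [mul_smul, z3 x hx, ← u1 _ (g0 x hx), mul_smul, mul_smul, inv_smul_smul, z3 _ (u0 _ (g0 x hx)),
      ← u2 _ (g0 x hx), g1 x hx, u1 x hx]
  obtain ⟨m, e⟩ := Inv.exists_zpow_conj_of_odd (x := u * z * u⁻¹) (by rw [conj_mul, z1]; simp) z1
    (hn.odd rfl z4)
  set v := (u * z * u⁻¹ * z) ^ m
  have v1 : ∀ x ∈ Δ, (v * u) • x = u • x := fun x hx => by rw [mul_smul]; exact zpow_fix (z4 _ (u0 x hx)) m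
  have v2 : ∀ x ∈ Δ, (v * u) • (v * u) • x = x := fun x hx => by rw [v1 x hx, v1 _ (u0 x hx), u1 x hx]
  obtain ⟨l, w1, w2⟩ := odd_pow (Ω := Ω) (hn.odd rfl (g := v * u * (v * u)) fun x hx => by
    rw [mul_smul, v2 x hx])
  have w3 := fun x hx => (w2 x (v2 x hx)).trans (v1 x hx)
  have w4 : Commute z ((v * u) ^ l) := Commute.pow_right 
    (show z * (v * u) = v * u * z from (congrArg (· * (v * u)) e).symm.trans (by group)) l
  set w := (v * u) ^ l
  have k : ∀ y σ : G, (∀ x ∈ Δ, y • x = σ • x) → σ = g ∨ σ = u →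
      y ∈ fixingSubgroup G ((Δ \ {a, b, c, d} : Finset Ω) : Set Ω) ⊓ stabilizer G ({a, b, c, d} : Finset Ω) :=
    fun y σ e1 e2 => ⟨(mem_fixingSubgroup_iff _).2 fun x hx => by simp at hx; grind, by
      show y • _ = _
      simp only [Finset.smul_finset_insert, Finset.smul_finset_singleton]
      grind⟩
  refine ⟨_, Inv.kf_sup (a := z) (b := w) (orderOf_eq_prime (by rw [sq, z1]) fun e => ?_)
    (orderOf_eq_prime (by rw [sq, w1]) fun e => ?_) (fun e => ?_) w4, le_inf_iff.1 (sup_le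
      (zpowers_le_of_mem (k z g z3 (.inl rfl))) (zpowers_le_of_mem (k w u w3 (.inr rfl))))⟩
  · have := z3 a ha; rw [e, one_smul] at this; grind
  · have := w3 a ha; rw [e, one_smul] at this; grind
  · have := z3 a ha; rw [e, w3 a ha] at this; grind

theorem card4 {a b c d : Ω} (ab : a ≠ b) (ac : a ≠ c) (ad : a ≠ d) (bc : b ≠ c) (bd : b ≠ d)
    (cd : c ≠ d) : ({a, b, c, d} : Finset Ω).card = 4 := by
  rw [Finset.card_insert_of_notMem (by simp [*]), Finset.card_insert_of_notMem (by simp [*]),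
    Finset.card_pair cd]

theorem core [Finite G] [Finite Ω] [FaithfulSMul G Ω] {k : ℕ} (h : KT Ω (⊤ : Subgroup G) (k + 4))
    (hh : ∀ s t : Finset Ω, s.card = k + 5 → t.card = k + 5 → ∃ g : G, g • s = t) {Γ : Finset Ω}
    (h1 : Γ.card = k + 5) (h2 : T2 G Γ) (hn : ¬ KT Ω (⊤ : Subgroup G) (k + 5)) : Nat.card Ω ≤ k + 6 := by
  have k1 : ∀ Δ : Finset Ω, Δ.card = k + 5 → T2 G Δ := fun Δ e =>
    let ⟨g, hg⟩ := hh Γ Δ h1 e; hg ▸ h2.smul g
  have k2 : NoInv G Ω (k + 3) := fun s hs z z1 z2 => by_contra fun z3 => by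
    obtain ⟨a, ha⟩ := exists_smul_ne (Ω := Ω) z3
    have z4 : z • z • a = a := by rw [← mul_smul, z1, one_smul]
    have as : a ∉ s := fun e => ha (z2 a e)
    have bs : z • a ∉ s := fun e => ha (by rw [← z2 _ e, z4])
    have c : (insert a (insert (z • a) s)).card = k + 5 := by
      rw [Finset.card_insert_of_notMem (by simp [as, ha.symm]), Finset.card_insert_of_notMem bs, hs]
    exact hn (kt_of_t1 h hh c (t1_of_alt ((k1 _ c).alt (by omega)) (by simp) (by simp) ha.symm
      ⟨z, fun x hx => by rw [swap_apply_def]; grind⟩))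
  obtain ⟨s, -, hs⟩ := Finset.exists_subset_card_eq (s := Γ) (n := k + 4) (by omega)
  obtain ⟨a, b, c, d, ha, hb, hc, hd, ab, ac, ad, bc, bd, cd⟩ := Finset.three_lt_card_iff.1
    (show 3 < s.card by omega)
  have k3 : ∀ x ∉ s, fixingSubgroup G (s : Set Ω) ≤ stabilizer G x := fun x hx => by
    have c1 : (insert x s).card = k + 5 := by rw [Finset.card_insert_of_notMem hx, hs]
    obtain ⟨V, v1, v2, v3⟩ := four_group (k1 _ c1) (k2.mono (by omega)) (Finset.mem_insert_of_mem ha)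
      (Finset.mem_insert_of_mem hb) (Finset.mem_insert_of_mem hc) (Finset.mem_insert_of_mem hd)
      ab ac ad bc bd cd
    replace v2 := fun v hv => (mem_fixingSubgroup_iff _).1 (v2 (x := v) hv)
    have v4 : ∀ v ∈ V, v * v = 1 := fun v hv => congrArg Subtype.val (IsKleinFour.mul_self ⟨v, hv⟩)
    have o : ∀ u ∈ fixingSubgroup G (s : Set Ω), Odd (orderOf u) := fun u hu =>
      (k2.mono (by omega)).odd hs ((mem_fixingSubgroup_iff _).1 hu)
    rw [← Core.iSup_inf_centralizer_eq (A := V) (K := fixingSubgroup G (s : Set Ω))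
      IsKleinFour.isMulCommutative IsKleinFour.not_isCyclic (fun v hv => mem_normalizer_fintype
        fun u hu => (mem_fixingSubgroup_iff _).2 fun y hy => ?_) ?_]
    · refine iSup₂_le fun v ⟨hv, v5⟩ u ⟨u1, u2⟩ => ?_
      have u3 := (mem_fixingSubgroup_iff _).1 u1
      have u4 : ∀ y : Ω, v • y = y → v • u • y = u • y := fun y e => by
        rw [← mul_smul, ← mem_centralizer_singleton_iff.1 u2, mul_smul, e]
      have u5 : ∀ y ∉ s, u • y ∉ s := fun y hy e => hy ((smul_left_cancel_iff u).1 (u3 _ e) ▸ e)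
      by_contra e
      have x1 : v • x = x := v2 v hv x (by simp; grind)
      have := k2.fix (s := insert (u • x) (insert x (s \ {a, b, c, d}))) (by
        rw [Finset.card_insert_of_notMem (by simpa [u5 x hx] using e), Finset.card_insert_of_notMem (by simp [hx]),
          Finset.card_sdiff_of_subset (by simp [Finset.insert_subset_iff, *]), card4 ab ac ad bc bd cd]
        omega) (v4 v hv) v5 (by
          simp only [Finset.forall_mem_insert, u4 x x1, x1, true_and]
          exact fun y hy => v2 v hv y (by simp at hy ⊢; grind)) (u4 _ (u4 _ x1))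
      have u6 : u • u • x = x := by
        have := u5 _ (u5 x hx)
        have : u • u • x ≠ u • x := fun c => e ((smul_left_cancel_iff u).1 c)
        grind
      obtain ⟨m, hm⟩ := o u u1
      refine e ?_
      have := pow_fix (show (u ^ 2) • x = x by rw [sq, mul_smul, u6]) m
      rwa [← pow_mul, ← smul_left_cancel_iff u, ← mul_smul, ← pow_succ', ← hm, pow_orderOf_eq_one, one_smul,
        eq_comm] at this
    · rw [v1.card_four]
      refine Nat.Coprime.pow_left 2 ((Nat.prime_two.coprime_iff_not_dvd).2 fun e => ?_)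
      obtain ⟨u, hu⟩ := exists_prime_orderOf_dvd_card' 2 e
      have := o u u.2
      rw [orderOf_coe, hu] at this
      exact absurd this (by decide)
    · rw [inv_eq_of_mul_eq_one_right (v4 v hv), mul_smul, mul_smul, (mem_fixingSubgroup_iff _).1 hu,
        ← mul_smul, v4 v hv, one_smul]
      by_cases e : y ∈ ({a, b, c, d} : Finset Ω)
      · have : v • y ∈ ({a, b, c, d} : Finset Ω) := (v3 hv : v • _ = _) ▸ Finset.smul_mem_smul_finset e
        simp at this ⊢; grind
      · rwa [v2 v hv y (by simp at e hy ⊢; grind)]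
  have k4 : ∀ x ∉ s, ∀ y ∉ s, x ≠ y → ∃ u : G, (∀ z ∈ s, u • z = swap a b z) ∧ u • x = y :=
    fun x hx y hy xy => by
    have c1 := Finset.card_insert_of_notMem hx
    have c2 := Finset.card_insert_of_notMem hy
    obtain ⟨g, hg⟩ := hh (insert x s) (insert y s) (by omega) (by omega)
    obtain ⟨σ, hσ⟩ := adj hx hy hg
    have c3 := (k1 (insert y s) (by omega)).alt (by omega)
    rcases Int.units_eq_one_or (Perm.sign σ) with e | e
    · obtain ⟨u, u1, u2⟩ := hσ ⟨a, by simp [ha]⟩ ⟨a, by simp [ha]⟩ ha ha (c3 (by simpa using e))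
      exact absurd ((k3 x hx ((mem_fixingSubgroup_iff _).2 (by simpa using u1)) :).symm.trans u2) xy
    · exact hσ ⟨a, by simp [ha]⟩ ⟨b, by simp [hb]⟩ ha hb (c3 (by
        rw [Perm.mem_alternatingGroup, map_mul, e, Perm.sign_swap (by simpa)]; simp))
  by_contra e
  have := Fintype.ofFinite Ω
  obtain ⟨x, hx, y, hy, z, hz, xy, xz, yz⟩ := Finset.two_lt_card.1 (show 2 < sᶜ.card by
    rw [Finset.card_compl, ← Nat.card_eq_fintype_card]; omega)
  rw [Finset.mem_compl] at hx hy hz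
  obtain ⟨u, u1, u2⟩ := k4 x hx y hy xy
  obtain ⟨v, v1, v2⟩ := k4 x hx z hz xz
  have := @k3 x hx (v⁻¹ * u) ((mem_fixingSubgroup_iff _).2 fun w hw => by
    rw [mul_smul, u1 w hw, inv_smul_eq_iff, v1 w hw])
  rw [mem_stabilizer_iff, mul_smul, u2, inv_smul_eq_iff, v2] at this
  exact yz this

omit [DecidableEq Ω] in
theorem free_card (S : Subgroup G) (A : Set Ω) (hA : ∀ g ∈ S, ∀ a ∈ A, g • a ∈ A)
    (hf : ∀ g ∈ S, ∀ a ∈ A, g • a = a → g = 1) : Nat.card S ∣ A.ncard := by
  let B : SubMulAction S Ω := ⟨A, fun g a ha => hA g g.2 a ha⟩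
  have e := selfEquivOrbitsQuotientProd (G := S) (X := B) fun b => (eq_bot_iff_forall _).2 fun g hg =>
    Subtype.ext (hf g g.2 b b.2 (congrArg Subtype.val hg))
  rw [show A.ncard = Nat.card B from rfl, Nat.card_congr e, Nat.card_prod]
  exact dvd_mul_left _ _

theorem hom_card {k : ℕ} (hh : ∀ s t : Finset Ω, s.card = k → t.card = k → ∃ g : G, g • s = t)
    {Γ : Finset Ω} (h : Γ.card = k) : Nat.card (stabilizer G Γ) * (Nat.card Ω).choose k = Nat.card G := by
  rw [← card_top (G := G), ← card_stab_mul ⊤ Γ, top_inf_eq, ← Set.powersetCard.card]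
  congr 2
  refine congrArg _ (Set.ext fun s => ⟨fun e => ?_, ?_⟩)
  · obtain ⟨g, hg⟩ := hh Γ s h e
    exact ⟨⟨g, mem_top g⟩, hg⟩
  · rintro ⟨g, rfl⟩
    exact (Finset.card_smul_finset _ _).trans h

theorem even_stab [Finite G] [Finite Ω] {k : ℕ} (h : KT Ω (⊤ : Subgroup G) (k + 2)) (hn : NoInv G Ω (k + 2))
    (hk : k + 4 ≤ Nat.card Ω) : ∃ Δ : Finset Ω, Δ.card = k + 4 ∧ 2 ∣ Nat.card (stabilizer G Δ) := by
  obtain ⟨Γ, hΓ⟩ := exists_finset_card hk
  obtain ⟨a, b, c, d, ha, hb, hc, hd, ab, ac, ad, bc, bd, cd⟩ := Finset.three_lt_card_iff.1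
    (show 3 < Γ.card by omega)
  set s := Γ \ {a, b, c, d} with e
  have hs : s.card = k := by
    rw [e, Finset.card_sdiff_of_subset (by simp [Finset.insert_subset_iff, *]), card4 ab ac ad bc bd cd]; omega
  obtain ⟨z, z1, z2, z3, z4⟩ := exists_sw h hn hs (a := a) (b := b) (by simp [e]) (by simp [e]) ab
  have z5 : z ≠ 1 := fun e => ab (by rw [← z3, e, one_smul])
  have z6 : ∀ x : Ω, z • z • x = x := fun x => by rw [← mul_smul, z1, one_smul]
  obtain ⟨c, c1, c2, c3, c4⟩ : ∃ c ∉ s, a ≠ c ∧ b ≠ c ∧ z • c ≠ c := by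
    by_contra! c1
    have := hn.fix (s := insert c s) (by rw [Finset.card_insert_of_notMem (by simp [e]), hs]) z1 z5
      (by simpa [c1 c (by simp [e]) ac bc] using z2) (c1 d (by simp [e]) ad bd)
    simp [e, cd.symm] at this
  refine ⟨{a, b, c, z • c} ∪ s, ?_, ?_⟩
  · rw [Finset.card_union_of_disjoint (by simp only [Finset.disjoint_left]; grind),
      card4 ab c2 (by grind) c3 (by grind) c4.symm]; omega
  rw [← orderOf_eq_prime (p := 2) (by rw [sq, z1]) z5]
  refine Subgroup.orderOf_dvd_natCard _ (Finset.eq_of_subset_of_card_le (fun x hx => ?_) (by simp))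
  obtain ⟨y, hy, rfl⟩ := Finset.mem_smul_finset.1 hx
  grind

theorem not24 [Finite G] [Finite Ω] (hS : Shp G Ω 4) (h : KT Ω (⊤ : Subgroup G) 3) (hn : Nat.card Ω = 24)
    (hG : Nat.card G = 7 * (24 * 23 * 22)) : False := by
  obtain ⟨s, hs⟩ := exists_finset_card (Ω := Ω) (k := 2) (by omega)
  obtain ⟨w, hw⟩ := exists_notMem_of_card_lt (s := s) (by omega)
  have c1 := (h.of_le (by omega)).card_eq hs
  have c2 := h.card_eq (s := insert w s) (by rw [Finset.card_insert_of_notMem hw, hs])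
  rw [hn, hG] at c1 c2
  set H := fixingSubgroup G (s : Set Ω)
  set K := fixingSubgroup G ((insert w s : Finset Ω) : Set Ω)
  have c3 : Nat.card H = 154 := by simp [Nat.descFactorial] at c1; omega
  have c4 : Nat.card K = 7 := by simp [Nat.descFactorial] at c2; omega
  have := Fact.mk (show Nat.Prime 11 by norm_num)
  let P : Sylow 11 H := default
  have p1 : Nat.card P = 11 := by
    rw [P.card_eq_multiplicity, c3, show 154 = 11 * 14 from rfl, Nat.factorization_mul_apply_of_coprime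
      (by norm_num), Nat.factorization_eq_zero_of_not_dvd (n := 14) (by norm_num), this.out.factorization_self]; rfl
  have p2 : (P : Subgroup H).index = 14 := by have := (P : Subgroup H).card_mul_index; rw [p1, c3] at this; omega
  have p3 : Nat.card (Sylow 11 H) = 1 := by
    have a1 := card_sylow_modEq_one 11 H
    have a2 := p2 ▸ P.card_dvd_index
    have := Nat.le_of_dvd (by norm_num) a2
    generalize Nat.card (Sylow 11 H) = m at *
    interval_cases m <;> simp_all [Nat.ModEq]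
  have := (Nat.card_eq_one_iff_unique.1 p3).1
  have p4 := P.normal_of_subsingleton
  have KH : K ≤ H := fixingSubgroup_antitone _ _ (by simp)
  have := Core.card_dvd_of_free_conj K ((((P : Subgroup H).map H.subtype : Subgroup G) : Set G) \ {1}) ?_ ?_
  · rw [c4, Set.ncard_sdiff_singleton_of_mem (one_mem _), ← Nat.card_coe_set_eq, SetLike.coe_sort_coe,
      card_map_of_injective (subtype_injective _), p1] at this
    omega
  · rintro u hu _ ⟨⟨v, v1, rfl⟩, v2⟩
    exact ⟨⟨_, p4.conj_mem v v1 ⟨u, KH hu⟩, rfl⟩, by simpa using v2⟩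
  · rintro u hu _ ⟨⟨v, v1, rfl⟩, v2⟩ e
    have u1 := (mem_fixingSubgroup_iff _).1 hu
    have v3 := (mem_fixingSubgroup_iff _).1 v.2
    by_cases c : (v : G) • w = w
    · have a1 : orderOf (v : G) ∣ 7 := c4 ▸ Subgroup.orderOf_dvd_natCard _ ((mem_fixingSubgroup_iff _).2 (by
        simpa [c] using v3))
      have a2 : orderOf (v : G) ∣ 11 := by
        rw [orderOf_coe, ← p1]; exact Subgroup.orderOf_dvd_natCard _ v1
      exact absurd (orderOf_eq_one_iff.1 (Nat.eq_one_of_dvd_coprimes (by norm_num) a1 a2)) v2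
    refine hS (insert ((v : G) • w) (insert w s)) ?_ u fun x hx => ?_
    · rw [Finset.card_insert_of_notMem, Finset.card_insert_of_notMem hw, hs]
      simp only [Finset.mem_insert, c, false_or]
      exact fun e => hw ((smul_left_cancel_iff _).1 (v3 _ e) ▸ e)
    · rcases Finset.mem_insert.1 hx with rfl | hx
      · rw [← mul_smul, show u * v = v * u from mul_inv_eq_iff_eq_mul.1 e, mul_smul, u1 w (by simp)]
      · exact u1 x hx

theorem small [Finite G] [Finite Ω] {t : ℕ} (h : KT Ω (⊤ : Subgroup G) (t + 1)) (hS : Shp G Ω (t + 2))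
    (hn : ¬ KT Ω (⊤ : Subgroup G) (t + 2)) (ht : t ≤ 2) (hc : t + 4 ≤ Nat.card Ω)
    (h1 : ∀ s u : Finset Ω, s.card = t + 2 → u.card = t + 2 → ∃ g : G, g • s = u)
    (h2 : ∀ s u : Finset Ω, s.card = t + 3 → u.card = t + 3 → ∃ g : G, g • s = u) :
    (Nat.card Ω = 5 ∧ t = 1 ∧ Nat.card G = 20) ∨ (Nat.card Ω = 6 ∧ t = 2 ∧ Nat.card G = 120) ∨
      (Nat.card Ω = 9 ∧ t = 2 ∧ (Nat.card G = 504 ∨ Nat.card G = 1512)) := by
  obtain ⟨Γ, hΓ⟩ := exists_finset_card (Ω := Ω) (k := t + 2) (by omega)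
  have hN : NoInv G Ω (t + 1) := by_contra fun e => hn (kt_of_t1 h h1 hΓ (t1_of_inv h hS e hΓ))
  obtain ⟨s, hs⟩ := exists_finset_card (Ω := Ω) (k := t + 1) (by omega)
  obtain ⟨r, hr⟩ := Nat.exists_eq_add_of_le hc
  have c1 := h.card_eq hs
  have fr : ∀ g ∈ fixingSubgroup G (s : Set Ω), ∀ a ∈ (s : Set Ω)ᶜ, g • a = a → g = 1 := fun g hg a ha e =>
    hS (insert a s) (by rw [Finset.card_insert_of_notMem ha, hs]) g
      (by simpa [e] using (mem_fixingSubgroup_iff _).1 hg)
  have iv : ∀ g ∈ fixingSubgroup G (s : Set Ω), ∀ a ∈ (s : Set Ω)ᶜ, g • a ∈ (s : Set Ω)ᶜ :=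
    fun g hg a ha e => ha ((smul_left_cancel_iff g).1 ((mem_fixingSubgroup_iff _).1 hg _ e) ▸ e)
  have c0 : (s : Set Ω)ᶜ.ncard = r + 3 := by
    have := Set.ncard_add_ncard_compl (s : Set Ω); rw [Set.ncard_coe_finset] at this; omega
  obtain ⟨e, he⟩ := c0 ▸ free_card _ _ iv fr
  have d1 : ¬ 2 ∣ Nat.card (fixingSubgroup G (s : Set Ω)) := fun e => by
    obtain ⟨u, hu⟩ := exists_prime_orderOf_dvd_card' 2 e
    have := hN.odd hs ((mem_fixingSubgroup_iff _).1 u.2)
    rw [orderOf_coe, hu] at this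
    exact absurd this (by decide)
  have e1 : e ≠ 1 := fun c => hn (h.succ s hs fun a ha b hb => by
    have := card_stab_mul (fixingSubgroup G (s : Set Ω)) a
    rw [(eq_bot_iff_forall (_ ⊓ stabilizer G a)).2 fun g hg => fr g hg.1 a ha hg.2, card_bot, one_mul] at this
    obtain ⟨g, hg⟩ := (Set.eq_of_subset_of_ncard_le (s := orbit (fixingSubgroup G (s : Set Ω)) a)
      (t := (s : Set Ω)ᶜ) (by rintro _ ⟨g, rfl⟩; exact iv g g.2 a ha)
      (by rw [c0, he, c, mul_one, ← this]; rfl)).ge hb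
    exact ⟨g, mem_top _, (mem_fixingSubgroup_iff _).1 g.2, hg⟩)
  obtain ⟨Δ, hΔ, ev⟩ : ∃ Δ : Finset Ω, Δ.card = t + 3 ∧ (t ≠ 0 → 2 ∣ Nat.card (stabilizer G Δ)) := by
    rcases t with _ | t
    · exact (exists_finset_card (by omega)).imp fun _ e => ⟨e, by simp⟩
    · exact (even_stab h hN (by omega)).imp fun _ e => ⟨e.1, fun _ => e.2⟩
  have c2 := hom_card h1 hΓ
  have c3 := hom_card h2 hΔ
  have x1 : Nat.card Ω = 7 → t = 2 → 4 ∣ Nat.card G := fun a1 a2 => by
    subst a2
    obtain ⟨a, b, c, d, ha, hb, hc, hd, ab, ac, ad, bc, bd, cd⟩ := Finset.three_lt_card_iff.1 hΓ.ge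
    obtain ⟨V, v, -⟩ := four_group (t2_of_noInv (k := 0) h hS (hN.pred (by rw [a1]; decide)) hΓ)
      (hN.mono (by omega)) ha hb hc hd ab ac ad bc bd cd
    exact v.card_four ▸ card_subgroup_dvd_card V
  have x2 : t = 2 → Nat.card Ω = 24 → Nat.card G ≠ 7 * (24 * 23 * 22) := fun a => by
    subst a; exact not24 hS h
  generalize Nat.card (fixingSubgroup G (s : Set Ω)) = d at *
  generalize Nat.card (stabilizer G Γ) = L at *
  generalize Nat.card (stabilizer G Δ) = M at *
  generalize Nat.card G = N at *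
  have p0 : 0 < (Nat.card Ω).descFactorial (t + 1) := Nat.descFactorial_pos.2 (by omega)
  have hd : 0 < d := by omega
  have a1 : L * e = (t + 2).factorial := by
    have := congrArg (· * (t + 2).factorial) c2
    simp only [mul_assoc] at this
    rw [mul_comm (Nat.choose _ _), ← Nat.descFactorial_eq_factorial_mul_choose, Nat.descFactorial_succ,
      show Nat.card Ω - (t + 1) = d * e by omega, c1] at this
    exact Nat.eq_of_mul_eq_mul_left (Nat.mul_pos hd p0) (by linarith)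
  have a2 : M * (r + 2) * e = (t + 3).factorial := by
    have := congrArg (· * (t + 3).factorial) c3
    simp only [mul_assoc] at this
    rw [mul_comm (Nat.choose _ _), ← Nat.descFactorial_eq_factorial_mul_choose, Nat.descFactorial_succ,
      Nat.descFactorial_succ, show Nat.card Ω - (t + 1) = d * e by omega,
      show Nat.card Ω - (t + 2) = r + 2 by omega, c1] at this
    exact Nat.eq_of_mul_eq_mul_left (Nat.mul_pos hd p0) (by linarith)
  have a3 := Dvd.intro_left _ a1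
  have a4 := Nat.le_of_dvd (Nat.factorial_pos _) a3
  have a5 : (r + 2) * e ∣ (t + 3).factorial := Dvd.intro_left M (by rw [← a2, mul_assoc])
  have a6 := Nat.le_of_dvd (Nat.factorial_pos _) a5
  rw [hr] at c1 x1 x2 ⊢
  clear h hS hn h1 h2 hN fr iv c2 c3 c0 hs hΓ hΔ p0 hr a1 hc
  interval_cases t <;> simp only [Nat.factorial, Nat.descFactorial, true_and, true_implies] at * <;>
    interval_cases e <;>
    simp only [Nat.succ_eq_add_one] at * <;> (try omega) <;> (have : r ≤ 60 := by omega) <;>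
    interval_cases r <;> omega

section
variable {α : Type u} [Fintype α] [DecidableEq α] (G : Subgroup (Perm α)) {k : ℕ}

theorem s0747 (hk : 4 ≤ k) (hkn : k < Fintype.card α) (hG : IsMultiplyPretransitive G α k) :
    ∃ Δ : Finset α, Δ.card = k + 1 ∧ T2 G Δ := by
  obtain ⟨k, rfl⟩ := Nat.exists_eq_add_of_le' hk
  rw [← Nat.card_eq_fintype_card] at hkn
  exact exists_t2 _ α G rfl (kt_top_of_multi hG hkn.le) hkn

theorem s0745 (hk : 3 ≤ k) (hkn : k ≤ Fintype.card α) (ht : IsMultiplyPretransitive G α (k - 2))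
    (hnt : ¬ IsMultiplyPretransitive G α (k - 1)) (hh1 : IsPretransitive G (Set.powersetCard α (k - 1)))
    (hh : IsPretransitive G (Set.powersetCard α k)) : (k = Fintype.card α ∧ G = alternatingGroup α) ∨
      (Fintype.card α = 5 ∧ k = 4 ∧ Nat.card G = 20) ∨ (Fintype.card α = 6 ∧ k = 5 ∧ Nat.card G = 120) ∨
      (Fintype.card α = 9 ∧ k = 5 ∧ (Nat.card G = 504 ∨ Nat.card G = 1512)) := by
  obtain ⟨t, rfl⟩ := Nat.exists_eq_add_of_le' hk
  have hc := Nat.card_eq_fintype_card (α := α)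
  rcases hkn.eq_or_lt with e | e
  · refine .inl ⟨e, Perm.eq_alternatingGroup_of_index_eq_two ?_⟩
    have := index_dvd_of_le (IsMultiplyPretransitive.alternatingGroup_le α G (by rwa [hc, ← e]))
    have := Fintype.one_lt_card_iff_nontrivial.1 (show 1 < Fintype.card α by omega)
    rw [alternatingGroup.index_eq_two] at *
    refine ((Nat.dvd_prime Nat.prime_two).1 ‹_›).resolve_left fun c => hnt ?_
    rw [index_eq_one.1 c]
    exact (kt_top_iff.2 (kt_top_of_multi (Perm.isMultiplyPretransitive _ _) (by omega))).multi_top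
  have h1 := kt_top_of_multi ht (by omega)
  have h2 : ¬ KT α (⊤ : Subgroup G) (t + 2) := fun c => hnt c.multi_top
  replace hh1 := hom_iff.1 hh1
  replace hh := hom_iff.1 hh
  rcases le_or_gt t 2 with c | c
  · have k : ∀ j ≤ Fintype.card α, (∀ s u : Finset α, s.card = j → u.card = j → ∃ g : G, g • s = u) →
        ∃ l, ∀ s : Finset α, s.card = j → Nat.card (fixingSubgroup G (s : Set α)) = l := fun j hj h => by
      obtain ⟨u, hu⟩ := exists_finset_card (Ω := α) (k := j) (by omega)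
      refine ⟨Nat.card (fixingSubgroup G (u : Set α)), fun s hs => ?_⟩
      obtain ⟨g, rfl⟩ := h u s hu hs
      rw [Finset.coe_smul_finset, SubMulAction.fixingSubgroup_smul_eq_fixingSubgroup_map_conj,
        card_map_of_injective (MulEquiv.injective _)]
    obtain ⟨l, hl⟩ := k _ (by omega) hh1
    obtain ⟨m, hm⟩ := k _ (by omega) hh
    have := small h1 (fun s hs g hg => by
      have : ¬ 1 < l := fun a => hnt (S0744.result G (by omega) e.le l m a hl hm)
      exact (eq_bot_iff_forall _).1 (eq_bot_of_card_le _ (by rw [hl s hs]; omega)) g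
        ((mem_fixingSubgroup_iff _).2 hg)) h2 c (by omega) hh1 hh
    omega
  obtain ⟨t, rfl⟩ := Nat.exists_eq_add_of_le' c
  obtain ⟨Δ, a1, a2⟩ := s0747 G (by omega) (by omega) ht
  have := core h1 hh1 a1 a2 h2
  omega

theorem s0746 (hk : 2 ≤ k) (hkn : 2 * k ≤ Fintype.card α) (hh : IsPretransitive G (Set.powersetCard α k)) :
    IsMultiplyPretransitive G α (k - 1) := by
  induction k, hk using Nat.le_induction with
  | base =>
    have := hom_iff.1 (S0736.result G le_rfl hh fun q _ h => by have := Nat.le_of_dvd two_pos h; omega)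
    refine (kt_one_iff.2 fun a b => ?_).multi_top
    obtain ⟨g, hg⟩ := this {a} {b} rfl rfl
    exact ⟨g, mem_top _, by simpa using hg⟩
  | succ k hk ih =>
    have := S0736.result G (by omega) hh fun q _ h => by have := Nat.le_of_dvd k.succ_pos h; omega
    by_contra e
    have := s0745 G (k := k + 1) (by omega) (by omega) (ih (by omega) this) e this hh
    omega

theorem s0748 (hk : 5 ≤ k) (hkn : k + 1 < Fintype.card α) (h : IsMultiplyPretransitive G α (k - 1))
    (hh : IsPretransitive G (Set.powersetCard α k)) : IsMultiplyPretransitive G α k := by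
  obtain ⟨k, rfl⟩ := Nat.exists_eq_add_of_le' hk
  obtain ⟨Δ, h1, h2⟩ := s0747 G (by omega) (by omega) h
  rw [← Nat.card_eq_fintype_card] at hkn
  by_contra e
  have := core (kt_top_of_multi h (by omega)) (hom_iff.1 hh) h1 h2 fun c => e c.multi_top
  omega

end

end Cfsg.Agent.Perm.LW
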