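import Cfsg.Agent.Perm.Basic
import Mathlib.LinearAlgebra.BilinearForm.Orthogonal
import Mathlib.LinearAlgebra.Matrix.BilinearForm
import Mathlib.Algebra.CharP.Lemmas
import Mathlib.RingTheory.Polynomial.Basic
import Mathlib.Algebra.Polynomial.Roots
import Mathlib.LinearAlgebra.Dimension.Constructions
import Mathlib.FieldTheory.Finite.Basic

/-! Permutation modules. -/

set_option autoImplicit false

namespace Cfsg.Agent.Perm

open Subgroup MulAction
open scoped Pointwise

theorem exists_fixed_vec {G K V : Type*} [Group G] [Finite G] [Field K] [AddCommGroup V]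
    [Module K V] {p : ℕ} [hp : Fact p.Prime] [CharP K p] (ρ : Representation K G V)
    {P : Subgroup G} (hP : IsPGroup p P) {W : Submodule K V} (hW : ∀ g ∈ P, ∀ v ∈ W, ρ g v ∈ W)
    (h : W ≠ ⊥) : ∃ v ∈ W, v ≠ 0 ∧ ∀ g ∈ P, ρ g v = v := by
  obtain ⟨Q, -, ⟨q1, v, v1, v2, v3⟩, hmax⟩ := Core.exists_maximal_ge
    (P := fun Q : Subgroup G => Q ≤ P ∧ ∃ v ∈ W, v ≠ 0 ∧ ∀ g ∈ Q, ρ g v = v) (H := ⊥)
    ⟨bot_le, (W.ne_bot_iff.1 h).imp fun v hv => ⟨hv.1, hv.2, by simp⟩⟩
  rcases q1.eq_or_lt with rfl | hlt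
  · exact ⟨v, v1, v2, v3⟩
  have := hP.isNilpotent
  obtain ⟨g, g1, g2⟩ := SetLike.exists_of_lt (Group.normalizerCondition_of_isNilpotent
    (Q.subgroupOf P) (by rw [lt_top_iff_ne_top, Ne, subgroupOf_eq_top]; exact hlt.not_ge))
  have g3 : ∀ q ∈ Q, (g : G)⁻¹ * q * g ∈ Q := fun q hq =>
    (mem_normalizer_iff''.1 g1 ⟨q, q1 hq⟩).1 hq
  obtain ⟨k, hk⟩ := hP g
  have : Nontrivial V := ⟨v, 0, v2⟩
  have : CharP (Module.End K V) p := charP_of_injective_algebraMap (algebraMap K _).injective p
  set D : Module.End K V := ρ g - 1 with hD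
  have hD' : ∀ u, D u = ρ g u - u := fun _ => rfl
  have a1 : D ^ p ^ k = 0 := by
    rw [hD, sub_pow_char_pow_of_commute _ _ (Commute.one_right _), one_pow, ← map_pow,
      show (g : G) ^ p ^ k = 1 from congrArg Subtype.val hk, map_one, sub_self]
  have a2 : ∀ i, (D ^ i) v ∈ W ∧ ∀ q ∈ Q, ρ q ((D ^ i) v) = (D ^ i) v := by
    intro i
    induction i with
    | zero => exact ⟨v1, v3⟩
    | succ i ih =>
      rw [pow_succ', Module.End.mul_apply, hD']
      refine ⟨sub_mem (hW g g.2 _ ih.1) ih.1, fun q hq => ?_⟩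
      rw [map_sub, ih.2 q hq, ← Module.End.mul_apply, ← map_mul,
        show q * g = g * ((g : G)⁻¹ * q * g) by simp [mul_assoc], map_mul, Module.End.mul_apply,
        ih.2 _ (g3 q hq)]
  classical
  have a3 : ∃ i, (D ^ (i + 1)) v = 0 :=
    ⟨p ^ k, by rw [pow_succ, a1, zero_mul, LinearMap.zero_apply]⟩
  have a4 := Nat.find_spec a3
  have a5 : (D ^ Nat.find a3) v ≠ 0 := by
    rcases e : Nat.find a3 with _ | i
    · exact v2
    · exact Nat.find_min a3 (e ▸ i.lt_succ_self)
  rw [pow_succ', Module.End.mul_apply, hD', sub_eq_zero] at a4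
  let S : Subgroup G :=
    { carrier := {u | ρ u ((D ^ Nat.find a3) v) = (D ^ Nat.find a3) v}
      one_mem' := by simp
      mul_mem' := fun {x y} hx hy => by
        change ρ (x * y) _ = _
        rw [map_mul, Module.End.mul_apply, hy, hx]
      inv_mem' := fun {x} hx => by
        change ρ x⁻¹ _ = _
        conv_lhs => rw [← hx]
        rw [← Module.End.mul_apply, ← map_mul, inv_mul_cancel, map_one, Module.End.one_apply] }
  exact absurd ((hmax (Q ⊔ zpowers (g : G)) ⟨sup_le q1 (zpowers_le.2 g.2), _, (a2 _).1, a5,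
    (sup_le (a2 _).2 (zpowers_le.2 a4) : _ ≤ S)⟩ le_sup_left).le (mem_sup_right (mem_zpowers _))) g2

variable {G Ω K : Type*} [Group G] [MulAction G Ω] [Field K]

variable (G) in
/-- invariant subspaces of functions -/
def InvSub (W : Submodule K (Ω → K)) : Prop := ∀ g : G, ∀ f ∈ W, (fun x => f (g • x)) ∈ W

theorem invSub_subrep (W : Subrepresentation (permRep K G Ω)) : InvSub G W.toSubmodule :=
  fun g f hf => by simpa [permRep] using W.apply_mem_toSubmodule g⁻¹ hf

/-- the subrepresentation given by an invariant subspace -/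
def InvSub.subrep {W : Submodule K (Ω → K)} (h : InvSub G W) :
    Subrepresentation (permRep K G Ω) := ⟨W, fun g _ hf => h g⁻¹ _ hf⟩

theorem InvSub.one_mem [Finite G] {p : ℕ} [Fact p.Prime] [CharP K p] {P : Subgroup G}
    (hP : IsPGroup p P) (h1 : KT Ω P 1) {W : Submodule K (Ω → K)} (h : InvSub G W) (hW : W ≠ ⊥) :
    (fun _ => 1) ∈ W := by
  obtain ⟨v, v1, v2, v3⟩ := exists_fixed_vec (permRep K G Ω) hP (fun g _ f hf => h g⁻¹ f hf) hW
  obtain ⟨a, ha⟩ := Function.ne_iff.1 v2
  convert W.smul_mem (v a)⁻¹ v1 using 1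
  funext x
  obtain ⟨g, g1, rfl⟩ := h1.trans le_rfl x a
  have : v (g⁻¹⁻¹ • x) = v x := congrFun (v3 _ (inv_mem g1)) x
  rw [inv_inv] at this
  rw [Pi.smul_apply, smul_eq_mul, ← this, inv_mul_cancel₀ ha]

variable [Fintype Ω]

/-- the orthogonal complement with respect to the standard form -/
def perp (W : Submodule K (Ω → K)) : Submodule K (Ω → K) where
  carrier := {u | ∀ w ∈ W, w ⬝ᵥ u = 0}
  add_mem' := fun {a b} ha hb w hw => by rw [dotProduct_add, ha w hw, hb w hw, add_zero]
  zero_mem' := fun w _ => dotProduct_zero w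
  smul_mem' := fun c a ha w hw => by rw [dotProduct_smul, ha w hw, smul_zero]

theorem finrank_perp (W : Submodule K (Ω → K)) :
    Module.finrank K (perp W) = Fintype.card Ω - Module.finrank K W := by
  classical
  have h := LinearMap.BilinForm.finrank_orthogonal (B := Matrix.toBilin' (1 : Matrix Ω Ω K))
    (LinearMap.BilinForm.nondegenerate_toBilin'_of_det_ne_zero' _ (by simp)) W
  rw [Module.finrank_fintype_fun_eq_card] at h
  rw [← h]
  congr 2 <;> ext u <;> simp [perp, LinearMap.BilinForm.mem_orthogonal_iff,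
    LinearMap.BilinForm.isOrtho_def, Matrix.toBilin'_apply']

theorem InvSub.perp {W : Submodule K (Ω → K)} (h : InvSub G W) : InvSub G (perp W) :=
  fun g f hf w hw => by
    rw [← hf _ (h g⁻¹ w hw)]
    exact Fintype.sum_equiv (toPerm g) _ _ fun x => by simp

theorem InvSub.sum_eq_zero [Finite G] {p : ℕ} [Fact p.Prime] [CharP K p] {P : Subgroup G}
    (hP : IsPGroup p P) (h1 : KT Ω P 1) {W : Submodule K (Ω → K)} (h : InvSub G W) (hW : W ≠ ⊤)
    {f : Ω → K} (hf : f ∈ W) : ∑ x, f x = 0 := by
  have := h.perp.one_mem hP h1 (fun e => hW (Submodule.eq_top_of_finrank_eq (by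
    have h2 := finrank_perp W
    have h3 := W.finrank_le
    rw [e, finrank_bot] at h2
    rw [Module.finrank_fintype_fun_eq_card] at h3 ⊢
    omega))) f hf
  simpa [dotProduct] using this

/-- the map given by an invariant kernel -/
def kerMap {X : Type*} (w : X → Ω → K) : (Ω → K) →ₗ[K] X → K where
  toFun f s := ∑ z, w s z * f z
  map_add' f g := by funext s; simp [mul_add, Finset.sum_add_distrib]
  map_smul' c f := by funext s; simp [Finset.mul_sum, mul_left_comm]

theorem kerMap_smul {X : Type*} [MulAction G X] {w : X → Ω → K}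
    (h : ∀ (g : G) s z, w (g • s) (g • z) = w s z) (g : G) (f : Ω → K) :
    kerMap w (fun x => f (g • x)) = fun s => kerMap w f (g • s) := funext fun s =>
  Fintype.sum_equiv (toPerm g) _ _ fun x => by simp [h]

theorem kerMap_single [DecidableEq Ω] {X : Type*} (w : X → Ω → K) (a : Ω) (s : X) :
    kerMap w (Pi.single a 1) s = w s a := by
  simp [kerMap, Pi.single_apply]

/-- a transitive group of prime power degree which is not doubly transitive has a trivial
factor in its heart -/
theorem two_trans_of_heart [Finite G] {p : ℕ} [Fact p.Prime] [CharP K p] {P : Subgroup G}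
    (hP : IsPGroup p P) (h1 : KT Ω P 1)
    (h : ∀ W W' : Submodule K (Ω → K), InvSub G W → InvSub G W' → (fun _ => 1) ∈ W → W < W' →
      (∀ f ∈ W', ∑ x, f x = 0) → ∃ g : G, ∃ f ∈ W', (fun x => f (g • x)) - f ∉ W) :
    KT Ω (⊤ : Subgroup G) 2 := by
  classical
  have h0 := h1.mono le_top le_rfl
  refine (kt_two_iff h0).2 fun a b c hb hc => by_contra fun hn => ?_
  let r : Ω → Ω → K := fun x y => if ∃ g : G, g • a = x ∧ g • b = y then 1 else 0
  have r1 : ∀ (g : G) x y, r (g • x) (g • y) = r x y := fun g x y => if_congr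
    ⟨fun ⟨u, u1, u2⟩ => ⟨g⁻¹ * u, by simp [mul_smul, u1], by simp [mul_smul, u2]⟩,
      fun ⟨u, u1, u2⟩ => ⟨g * u, by simp [mul_smul, u1], by simp [mul_smul, u2]⟩⟩ rfl rfl
  let w : Ω → Ω → K := fun x y => r x y - if x = y then ∑ z, r a z else 0
  have w1 : ∀ (g : G) x y, w (g • x) (g • y) = w x y := fun g x y => by simp [w, r1]
  have w2 : w a b = 1 := by simp only [w, r, if_neg hb.symm]; rw [if_pos ⟨1, by simp⟩, sub_zero]
  have w3 : w a c = 0 := by
    simp only [w, r, if_neg hc.symm]
    rw [if_neg fun ⟨g, g1⟩ => hn ⟨g, mem_top _, g1⟩, sub_zero]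
  have w4 : kerMap w (fun _ => 1) = 0 := funext fun x => by
    obtain ⟨g, -, rfl⟩ := h0.trans le_rfl a x
    rw [← congrFun (kerMap_smul w1 g fun _ => 1) a]
    simp [kerMap, w]
  let S : Submodule K (Ω → K) := (permSumZero K G Ω).toSubmodule
  have i1 : ∀ {W : Submodule K (Ω → K)}, InvSub G W → InvSub G (W.map (kerMap w)) := by
    rintro W hW g _ ⟨f, hf, rfl⟩
    exact ⟨_, hW g f hf, kerMap_smul w1 g f⟩
  have i2 : InvSub G (LinearMap.ker (kerMap w)) := fun g f hf => by
    rw [LinearMap.mem_ker, kerMap_smul w1, LinearMap.mem_ker.1 hf]; rfl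
  have i3 : InvSub G (⊤ : Submodule K (Ω → K)) := fun _ _ _ => trivial
  have s1 : (Pi.single b 1 - Pi.single c 1 : Ω → K) ∈ S := by
    change ∑ x, _ = _; simp [Finset.sum_sub_distrib]
  have a1 : S.map (kerMap w) ≠ ⊥ := fun e => one_ne_zero (α := K) (by
    have := congrFun ((Submodule.eq_bot_iff _).1 e _ ⟨_, s1, rfl⟩) a
    rwa [map_sub, Pi.sub_apply, kerMap_single, kerMap_single, w2, w3, sub_zero] at this)
  have a2 : LinearMap.ker (kerMap w) ≤ S := fun f hf => i2.sum_eq_zero hP h1 (fun e => a1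
    (eq_bot_iff.2 (Submodule.map_le_iff_le_comap.2 (le_top.trans e.ge)))) hf
  have a3 : (⊤ : Submodule K (Ω → K)).map (kerMap w) ≠ ⊤ := fun e => by
    have := LinearMap.injective_iff_surjective.2 (LinearMap.range_eq_top.1
      ((Submodule.map_top _).symm.trans e)) (w4.trans (map_zero _).symm)
    exact one_ne_zero (congrFun this a)
  obtain ⟨g, _, ⟨f, -, rfl⟩, h2⟩ := h (S.map (kerMap w)) _ (i1 (invSub_subrep _)) (i1 i3)
    ((i1 (invSub_subrep _)).one_mem hP h1 a1) (lt_of_le_of_ne (Submodule.map_mono le_top) fun e => by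
      obtain ⟨f, f1, f2⟩ := e.ge ⟨Pi.single a 1, trivial, rfl⟩
      have := S.add_mem (a2 (x := Pi.single a 1 - f) (by
        rw [LinearMap.mem_ker, map_sub, f2, sub_self])) f1
      rw [sub_add_cancel] at this
      replace this : ∑ x, (Pi.single a 1 : Ω → K) x = 0 := this
      simp at this)
    fun f hf => (i1 i3).sum_eq_zero hP h1 a3 hf
  refine h2 ⟨(fun x => f (g • x)) - f, ?_, by rw [map_sub, kerMap_smul w1]⟩
  change ∑ x, _ = _
  simp only [Pi.sub_apply, Finset.sum_sub_distrib]
  exact sub_eq_zero.2 (Fintype.sum_equiv (toPerm g) _ _ fun x => rfl)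

section ZModP

variable {p : ℕ} [hp : Fact p.Prime] [CharP K p]

variable (K p) in
/-- polynomial functions -/
noncomputable def evalFun : Polynomial K →ₗ[K] ZMod p → K :=
  LinearMap.pi fun j => Polynomial.leval (ZMod.cast j : K)

variable (K p) in
/-- polynomial functions of degree less than `r` -/
noncomputable def polyFun (r : ℕ) : Submodule K (ZMod p → K) :=
  (Polynomial.degreeLT K r).map (evalFun K p)

theorem mem_polyFun {r : ℕ} {f : ZMod p → K} : f ∈ polyFun K p r ↔
    ∃ P : Polynomial K, P.degree < r ∧ ∀ j : ZMod p, f j = P.eval (ZMod.cast j : K) :=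
  ⟨fun ⟨P, h1, h2⟩ => ⟨P, Polynomial.mem_degreeLT.1 h1, fun j => (congrFun h2 j).symm⟩,
    fun ⟨P, h1, h2⟩ => ⟨P, Polynomial.mem_degreeLT.2 h1, funext fun j => (h2 j).symm⟩⟩

theorem cast_inj : Function.Injective (ZMod.cast : ZMod p → K) :=
  (ZMod.castHom (dvd_refl p) K).injective

theorem eq_zero_of_eval {P : Polynomial K} (h : P.degree < p)
    (h1 : ∀ j : ZMod p, P.eval (ZMod.cast j : K) = 0) : P = 0 := by
  by_cases e : P = 0
  · exact e
  exact Polynomial.eq_zero_of_natDegree_lt_card_of_eval_eq_zero P cast_inj h1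
    (by rw [ZMod.card]; exact (Polynomial.natDegree_lt_iff_degree_lt e).2 h)

theorem finrank_polyFun {r : ℕ} (h : r ≤ p) : Module.finrank K (polyFun K p r) = r := by
  rw [polyFun, ← LinearMap.range_domRestrict, LinearMap.finrank_range_of_inj,
    (Polynomial.degreeLTEquiv K r).finrank_eq, Module.finrank_fin_fun]
  refine (injective_iff_map_eq_zero _).2 fun P hP => Subtype.ext (eq_zero_of_eval
    ((Polynomial.mem_degreeLT.1 P.2).trans_le (by exact_mod_cast h)) (congrFun hP))

variable (K p) in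
/-- the difference operator -/
def diffOp : Module.End K (ZMod p → K) := LinearMap.funLeft K K (fun j => j - 1) - 1

theorem diffOp_pow : diffOp K p ^ p = 0 := by
  have : CharP (Module.End K (ZMod p → K)) p :=
    charP_of_injective_algebraMap (algebraMap K _).injective p
  have h : ∀ (i : ℕ) (f : ZMod p → K) (j : ZMod p),
      ((LinearMap.funLeft K K (fun j : ZMod p => j - 1) : Module.End K _) ^ i) f j = f (j - i) := by
    intro i
    induction i with
    | zero => simp
    | succ i ih => intro f j; rw [pow_succ', Module.End.mul_apply, LinearMap.funLeft_apply, ih]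
                   congr 1; push_cast; ring
  rw [diffOp, sub_pow_char_of_commute _ (Commute.one_right _), one_pow, sub_eq_zero]
  ext f j
  simp [h]

theorem finrank_ker_diffOp (r : ℕ) : Module.finrank K (LinearMap.ker (diffOp K p ^ r)) ≤ r := by
  have h1 : Module.finrank K (LinearMap.ker (diffOp K p)) ≤ 1 := by
    refine le_trans (Submodule.finrank_mono (t := K ∙ fun _ => 1) fun f hf => ?_)
      (finrank_span_le_card _ |>.trans (by simp))
    have h2 : ∀ j, f (j - 1) = f j := fun j => sub_eq_zero.1 (congrFun hf j)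
    refine Submodule.mem_span_singleton.2 ⟨f 0, funext fun j => ?_⟩
    obtain ⟨n, rfl⟩ := ZMod.natCast_zmod_surjective j
    induction n with
    | zero => simp
    | succ n ih => rw [← h2 (n + 1 : ℕ)]; simpa using ih
  induction r with
  | zero => rw [pow_zero, Module.End.one_eq_id, LinearMap.ker_id, finrank_bot]
  | succ r ih =>
    rw [pow_succ, Module.End.mul_eq_comp, LinearMap.ker_comp]
    have := LinearMap.finrank_range_add_finrank_ker
      ((diffOp K p).domRestrict ((LinearMap.ker (diffOp K p ^ r)).comap (diffOp K p)))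
    rw [LinearMap.range_domRestrict, LinearMap.ker_domRestrict] at this
    rw [← this]
    exact add_le_add ((Submodule.finrank_mono (Submodule.map_comap_le _ _)).trans ih)
      (((Submodule.finrank_map_subtype_eq _ _).symm.le.trans (Submodule.finrank_mono
        (Submodule.map_comap_le _ _))).trans h1)

theorem le_ker_diffOp {W : Submodule K (ZMod p → K)} (hW : ∀ f ∈ W, (fun j => f (j - 1)) ∈ W) :
    W = LinearMap.ker (diffOp K p ^ Module.finrank K W) := by
  have h1 : ∀ f ∈ W, diffOp K p f ∈ W := fun f hf => W.sub_mem (hW f hf) hf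
  refine Submodule.eq_of_le_of_finrank_le (fun f hf => ?_) (finrank_ker_diffOp _)
  have h2 : (diffOp K p).restrict h1 ^ p = 0 := by
    rw [Module.End.pow_restrict]; ext1 v; ext1; simp [diffOp_pow]
  have h3 := Module.End.ker_pow_le_ker_pow_finrank ((diffOp K p).restrict h1) p
    (x := ⟨f, hf⟩) (by rw [h2]; trivial)
  rw [LinearMap.mem_ker, Module.End.pow_restrict] at h3
  exact congrArg Subtype.val h3

theorem eq_polyFun {W : Submodule K (ZMod p → K)} (hW : ∀ f ∈ W, (fun j => f (j - 1)) ∈ W) :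
    W = polyFun K p (Module.finrank K W) := by
  have h1 : Module.finrank K W ≤ p :=
    W.finrank_le.trans (by rw [Module.finrank_fintype_fun_eq_card, ZMod.card])
  have h2 := le_ker_diffOp (W := polyFun K p (Module.finrank K W)) fun f hf => by
    obtain ⟨P, p1, p2⟩ := mem_polyFun.1 hf
    refine mem_polyFun.2 ⟨Polynomial.taylor (-1) P, by rwa [Polynomial.degree_taylor], fun j => ?_⟩
    rw [p2, Polynomial.taylor_eval, ← ZMod.castHom_apply (h := dvd_refl p), map_sub, map_one,
      sub_eq_add_neg, ZMod.castHom_apply]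
  rw [finrank_polyFun h1] at h2
  exact (le_ker_diffOp hW).trans h2.symm

end ZModP

end Cfsg.Agent.Perm
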