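import Mathlib

/-! Regular linear groups on the plane from a certificate. -/

set_option autoImplicit false

namespace Cfsg.Agent.Perm

open Matrix Subgroup

variable {F : Type*} [Field F]

/-- action of a matrix on a pair -/
def act2 (a b c d : F) (v : F × F) : F × F := (a * v.1 + b * v.2, c * v.1 + d * v.2)

theorem reg_of_cert [Fintype F] {S : Set (GL (Fin 2) F)} (s : F × F → F × F) (r : F × F → ℕ)
    (h0 : s (1, 0) = (0, 1))
    (h1 : ∀ g ∈ S, ∀ v, s (act2 (g 0 0) (g 0 1) (g 1 0) (g 1 1) v) =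
      act2 (g 0 0) (g 0 1) (g 1 0) (g 1 1) (s v))
    (h2 : ∀ v, v = (0, 0) ∨ v = (1, 0) ∨ ∃ g ∈ S, r (act2 (g 0 0) (g 0 1) (g 1 0) (g 1 1) v) < r v) :
    Nat.card (closure S) = Fintype.card F ^ 2 - 1 ∧ ∀ v w : Fin 2 → F, v ≠ 0 → w ≠ 0 →
      ∃! h : closure S, ((h : GL (Fin 2) F) : Matrix (Fin 2) (Fin 2) F) *ᵥ v = w := by
  classical
  let e := finTwoArrowEquiv F
  have he : ∀ (g : GL (Fin 2) F) v, e (g • v) = act2 (g 0 0) (g 0 1) (g 1 0) (g 1 1) (e v) :=
    fun g v => by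
      show e (g.1 *ᵥ v) = _
      simp [e, act2, mulVec, dotProduct]
  have h3 : ∀ g ∈ closure S, ∀ v : Fin 2 → F, e.symm (s (e (g • v))) = g • e.symm (s (e v)) := by
    intro g hg
    induction hg using closure_induction with
    | mem g hg => exact fun v => by rw [e.symm_apply_eq, he, he, h1 g hg, e.apply_symm_apply]
    | one => simp
    | mul g h _ _ a b => exact fun v => by rw [mul_smul, a, b, mul_smul]
    | inv g _ a => exact fun v => by rw [eq_inv_smul_iff, ← a, smul_inv_smul]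
  have h4 : ∀ g ∈ closure S, g • ![(1 : F), 0] = ![1, 0] → g = 1 := fun g hg h => by
    have := h3 g hg ![1, 0]
    rw [h, show e ![1, 0] = (1, 0) from rfl, h0] at this
    have a := congrArg e h
    have b := congrArg e this
    rw [he, show e ![1, 0] = (1, 0) from rfl] at a
    rw [he, e.apply_symm_apply] at b
    simp only [act2, mul_one, mul_zero, add_zero, zero_add, Prod.mk.injEq] at a b
    ext i j
    fin_cases i <;> fin_cases j <;> simp [a.1, a.2, ← b.1, ← b.2]
  have h5 : ∀ n, ∀ v : Fin 2 → F, r (e v) = n → v ≠ 0 → ∃ g ∈ closure S, g • v = ![1, 0] := by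
    intro n
    induction n using Nat.strong_induction_on with
    | _ n ih =>
      intro v hv h
      rcases h2 (e v) with a | a | ⟨g, hg, a⟩
      · exact absurd (e.injective (a.trans rfl)) h
      · exact ⟨1, one_mem _, by rw [one_smul]; exact e.injective a⟩
      · obtain ⟨u, hu, b⟩ := ih _ (hv ▸ a) (g • v) (by rw [he]) (by rwa [smul_ne_zero_iff_ne])
        exact ⟨u * g, mul_mem hu (subset_closure hg), by rw [mul_smul, b]⟩
  have h6 : ∀ v w : Fin 2 → F, v ≠ 0 → w ≠ 0 → ∃! h : closure S, (h : GL (Fin 2) F) • v = w := by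
    intro v w hv hw
    obtain ⟨g, hg, a⟩ := h5 _ v rfl hv
    obtain ⟨u, hu, b⟩ := h5 _ w rfl hw
    refine ⟨⟨u⁻¹ * g, mul_mem (inv_mem hu) hg⟩, by
      show (u⁻¹ * g) • v = w
      rw [mul_smul, a, ← b, inv_smul_smul], fun y hy => ?_⟩
    have := h4 (u * y * g⁻¹) (mul_mem (mul_mem hu y.2) (inv_mem hg)) (by
      rw [mul_smul, mul_smul, ← a, inv_smul_smul, hy, b, a])
    exact Subtype.ext (by rw [mul_inv_eq_one] at this; simp [← this])
  refine ⟨?_, h6⟩
  have h7 : (![1, 0] : Fin 2 → F) ≠ 0 := fun h => by simpa using congrFun h 0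
  rw [Nat.card_congr (Equiv.ofBijective (fun h : closure S => (⟨(h : GL (Fin 2) F) • ![1, 0],
    by rwa [smul_ne_zero_iff_ne]⟩ : {w : Fin 2 → F // w ≠ 0})) ⟨fun x y h =>
      (h6 _ _ h7 (by rwa [smul_ne_zero_iff_ne])).unique (congrArg Subtype.val h) rfl,
      fun w => (h6 _ _ h7 w.2).exists.imp fun _ h => Subtype.ext h⟩)]
  simp

/-- table look-up -/
def lk2 (p T : ℕ) (v : ZMod p × ZMod p) : ℕ := (T >>> (24 * (p * v.1.val + v.2.val))) % 2 ^ 24

def tb2 (p T : ℕ) (v : ZMod p × ZMod p) : ZMod p × ZMod p :=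
  ((lk2 p T v % 64 : ℕ), (lk2 p T v / 64 % 64 : ℕ))

def rk2 (p T : ℕ) (v : ZMod p × ZMod p) : ℕ := lk2 p T v / 4096

end Cfsg.Agent.Perm
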