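import Cfsg.Agent.BG.Base6
import Cfsg.Agent.Perm.Basic
import Cfsg.Agent.Core.Primitive

/-! Minimal normal subgroups are powers of simple groups; subdirect products (Scott's lemma). -/

set_option autoImplicit false

namespace Cfsg.Agent.Perm

open Cfsg Cfsg.Agent.BG Subgroup

section
variable {G : Type*} [Group G] [Finite G]

omit [Finite G] in
theorem minN_cj {T M : Subgroup G} [M.Normal] (h : MinN T M) (g : G) : MinN (cj g T) M := by
  have e : ∀ g, cj g M = M := fun g => cj_of_mem_N (BG.normal_iff.1 ‹_› (mem_top g))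
  refine ⟨by simpa using h.ne, e g ▸ norm_cj.2 h.norm, fun B a b c => ?_⟩
  rw [← h.min (cj g⁻¹ B) (le_cj_iff.1 a) (e g⁻¹ ▸ norm_cj.2 b) (by simpa using c), cj_cj_inv]

theorem exists_pow_simple (M : Subgroup G) [M.Normal] (hM : M ≠ ⊥)
    (hmin : ∀ K : Subgroup G, K.Normal → K ≤ M → K = ⊥ ∨ K = M) :
    ∃ (T : Type) (_ : Group T) (m : ℕ), IsSimpleGroup T ∧ 0 < m ∧ Nonempty (M ≃* (Fin m → T)) := by
  obtain ⟨T, hTM, hT⟩ := exists_minN hM (normG M)
  have hle : ∀ g, cj g T ≤ M := fun g => cj_le_of_mem hTM (BG.normal_iff.1 ‹_› (mem_top g))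
  have gen : ∀ K, (∀ g, cj g T ≤ K) → M ≤ K := fun K hK => by
    refine ((hmin (⨆ g, cj g T) (BG.normal_iff.2 fun x _ => mem_N_of_cj_le ?_)
      (iSup_le hle)).resolve_left fun e => hT.ne (by
        simpa using (le_iSup (cj · T) 1).trans e.le)).ge.trans (iSup_le hK)
    rw [cj_le_iff]
    exact iSup_le fun g => by rw [← cj_le_iff, ← cj_mul]; exact le_iSup (cj · T) _
  have cen : ∀ {A B : Subgroup G}, A ≤ M → B ≤ M → M ≤ N[A] → M ≤ N[B] → A ⊓ B = ⊥ → A ≤ C[B] :=
    fun a b c d e => comm_eq_bot.1 (le_bot_iff.1 (e ▸ le_inf (commL (b.trans c)) (commR (a.trans d))))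
  have hs : IsSimpleGroup T := by
    haveI := (nontrivial_iff_ne_bot T).2 hT.ne
    refine ⟨fun B hB => ?_⟩
    have h1 : T ≤ N[B.map T.subtype] := by
      simpa only [map_subtype_top] using (le_normalizer_map T.subtype).trans'
        (map_mono (BG.normal_iff.1 hB))
    refine (hT.eq_bot_or (map_subtype_le B) (gen _ fun g => ?_)).imp
      (map_eq_bot_iff_of_injective _ T.subtype_injective).1 fun e =>
      map_injective T.subtype_injective (by rwa [map_subtype_top])
    rcases (minN_cj hT g).inf_bot_or hT.norm with e | e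
    · exact cents_norm ((cen (hle g) hTM (minN_cj hT g).norm hT.norm e).trans
        (centS (map_subtype_le B)))
    · exact e.trans h1
  obtain ⟨T', _, _, ⟨ε⟩⟩ := Finite.exists_type_univ_nonempty_mulEquiv.{_, 0} T
  obtain ⟨K, -, ⟨h1, h2, m, f, hf, rfl⟩, hK⟩ := exists_maximal (A := ⊥) (P := fun K => K ≤ M ∧
    M ≤ N[K] ∧ ∃ (m : ℕ) (f : (Fin m → T') →* G), Function.Injective f ∧ f.range = K)
    ⟨bot_le, BG.normal_iff.1 inferInstance |>.trans' le_top, 0, 1, fun _ _ _ => Subsingleton.elim _ _, by simp⟩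
  have h3 : f.range = M := h1.antisymm (gen _ fun g => ?_)
  · refine ⟨T', inferInstance, m, ε.symm.isSimpleGroup, Nat.pos_of_ne_zero ?_,
      ⟨(MulEquiv.subgroupCongr h3.symm).trans (MonoidHom.ofInjective hf).symm⟩⟩
    rintro rfl
    exact hM (h3 ▸ MonoidHom.range_eq_bot_iff.2 (Subsingleton.elim _ _))
  refine ((minN_cj hT g).inf_bot_or h2).elim (fun e => ?_) id
  let u : T' →* G := (cj g T).subtype.comp (ε.symm.trans (cjEquiv g T)).toMonoidHom
  have hu : u.range = cj g T := by
    rw [MonoidHom.range_comp, MonoidHom.range_eq_top.2 (MulEquiv.surjective _), map_subtype_top]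
  have hc : ∀ a b, Commute (u a) (f b) := fun a b =>
    ((cen (hle g) h1 (minN_cj hT g).norm h2 e) (hu ▸ ⟨a, rfl⟩) _ ⟨b, rfl⟩).symm
  let v : (Fin (m + 1) → T') ≃* T' × (Fin m → T') :=
    { (Fin.consEquiv fun _ => T').symm with map_mul' := fun _ _ => rfl }
  have h4 : ((u.noncommCoprod f hc).comp v.toMonoidHom).range = cj g T ⊔ f.range := by
    rw [MonoidHom.range_comp, MonoidHom.range_eq_top.2 (MulEquiv.surjective _),
      ← MonoidHom.range_eq_map, MonoidHom.noncommCoprod_range, hu]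
  rw [← hK (cj g T ⊔ f.range) ⟨sup_le (hle g) h1, normY (minN_cj hT g).norm h2, m + 1, _,
    ((MonoidHom.noncommCoprod_injective _ _ hc).2 ⟨(cj g T).subtype_injective.comp
      (MulEquiv.injective _), hf, by rw [hu, disjoint_iff, e]⟩).comp v.injective, h4⟩ le_sup_right]
  exact le_sup_left

end

section scott
variable {D T ι : Type*} [Group D] [Group T] [IsSimpleGroup T] (hT : ¬ IsMulCommutative T)
include hT

theorem map_inf_top (π : D →* T) (s : Finset ι) (A : ι → Subgroup D) [∀ i, (A i).Normal]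
    (h0 : Function.Surjective π) (h : ∀ i ∈ s, ¬ A i ≤ π.ker) : (s.inf A).map π = ⊤ := by
  classical
  have hp : ⁅(⊤ : Subgroup T), (⊤ : Subgroup T)⁆ = ⊤ :=
    (Normal.eq_bot_or_eq_top inferInstance).resolve_left fun e => hT ⟨⟨fun a b =>
      (comm_eq_bot.1 e (mem_top b) a (mem_top a))⟩⟩
  suffices (s.inf A).Normal ∧ (s.inf A).map π = ⊤ from this.2
  induction s using Finset.induction_on with
  | empty => exact ⟨by simpa using normal_top, by simpa using map_top_of_surjective π h0⟩
  | insert i s _ ih =>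
    obtain ⟨a, b⟩ := ih fun j hj => h j (Finset.mem_insert_of_mem hj)
    have c := ((inferInstance : (A i).Normal).map π h0).eq_bot_or_eq_top.resolve_left fun e =>
      h i (Finset.mem_insert_self _ _) ((Subgroup.map_eq_bot_iff _).1 e)
    rw [Finset.inf_insert]
    refine ⟨inferInstance, top_le_iff.1 ?_⟩
    rw [← hp]
    nth_rw 1 [← c]
    rw [← b, ← map_commutator]
    exact map_mono (commutator_le_inf _ _)

omit hT in
theorem ker_eq_of_le {π ρ : D →* T} (h0 : Function.Surjective π) (h1 : Function.Surjective ρ)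
    (h : π.ker ≤ ρ.ker) : π.ker = ρ.ker := by
  rcases ((inferInstance : ρ.ker.Normal).map π h0).eq_bot_or_eq_top with e | e
  · exact h.antisymm ((Subgroup.map_eq_bot_iff _).1 e)
  · obtain ⟨t, ht⟩ := exists_ne (1 : T)
    obtain ⟨x, rfl⟩ := h1 t
    obtain ⟨y, hy, e'⟩ := e.ge (mem_top (π x))
    have := h (show y⁻¹ * x ∈ π.ker by simp [MonoidHom.mem_ker, e'])
    simp only [MonoidHom.mem_ker, map_mul, map_inv] at this hy
    exact absurd (by simpa [show ρ y = 1 from hy] using this) ht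

theorem perm_factor [Fintype ι] (φ : MulAut (ι → T)) (j : ι) :
    ∃ i, ∀ n : ι → T, φ n j = 1 ↔ n i = 1 := by
  classical
  have hs : ∀ i, Function.Surjective (Pi.evalMonoidHom (fun _ : ι => T) i) := fun i =>
    Function.surjective_eval i
  let π := (Pi.evalMonoidHom (fun _ : ι => T) j).comp φ.toMonoidHom
  have h0 : Function.Surjective π := (hs j).comp φ.surjective
  by_contra! h
  obtain ⟨t, ht⟩ := exists_ne (1 : T)
  obtain ⟨x, hx, rfl⟩ := (map_inf_top hT π Finset.univ (fun i => (Pi.evalMonoidHom _ i).ker) h0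
    fun i _ e => by
      obtain ⟨n, hn⟩ := h i
      have := SetLike.ext_iff.1 (ker_eq_of_le (hs i) h0 e) n
      simp only [MonoidHom.mem_ker] at this
      exact hn.elim (fun a => a.2 (this.2 a.1)) fun a => a.1 (this.1 a.2)).ge (mem_top t)
  exact ht (by
    rw [show x = 1 from funext fun i => SetLike.le_def.1 (Finset.inf_le (Finset.mem_univ i)) hx, map_one])

/-- Scott's lemma -/
theorem scott [Fintype ι] (E : Subgroup (ι → T)) (hE : ∀ i t, ∃ d ∈ E, d i = t) :
    ∃ (c : ι → ι) (α : ι → MulAut T), (∀ i j, c i = c j ↔ ∀ d ∈ E, d i = 1 ↔ d j = 1) ∧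
      ∀ n, n ∈ E ↔ ∀ i j, c i = c j → α i (n i) = α j (n j) := by
  classical
  let π : ι → E →* T := fun i => (Pi.evalMonoidHom (fun _ : ι => T) i).comp E.subtype
  have hs : ∀ i, Function.Surjective (π i) := fun i t => (hE i t).elim fun d h => ⟨⟨d, h.1⟩, h.2⟩
  let r : Setoid ι := Setoid.ker fun i => (π i).ker
  let c : ι → ι := fun i => (Quotient.mk r i).out
  have hc : ∀ i j, c i = c j ↔ (π i).ker = (π j).ker := fun i j => by
    rw [Quotient.out_injective.eq_iff, Quotient.eq]; rfl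
  have hc' : ∀ i, (π i).ker = (π (c i)).ker := fun i => (Quotient.mk_out (s := r) i).symm
  let α : ι → MulAut T := fun i => ((QuotientGroup.quotientKerEquivOfSurjective _ (hs i)).symm.trans
    (QuotientGroup.quotientMulEquivOfEq (hc' i))).trans
      (QuotientGroup.quotientKerEquivOfSurjective _ (hs (c i)))
  have hα : ∀ i, ∀ d ∈ E, α i (d i) = d (c i) := fun i d hd => by
    have : (QuotientGroup.quotientKerEquivOfSurjective _ (hs i)).symm (d i) = (⟨d, hd⟩ : E) :=
      (MulEquiv.symm_apply_eq _).2 rfl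
    simp only [α, MulEquiv.trans_apply, this]
    rfl
  refine ⟨c, α, fun i j => by simp [hc, SetLike.ext_iff, π, MonoidHom.mem_ker], fun n =>
    ⟨fun h i j e => by rw [hα i n h, hα j n h, e], fun h => ?_⟩⟩
  have : ∀ s : Finset ι, ∃ d ∈ E, ∀ i ∈ s, d i = n i := fun s => by
    induction s using Finset.induction_on with
    | empty => exact ⟨1, one_mem _, by simp⟩
    | insert i s _ ih =>
      obtain ⟨d, hd, e⟩ := ih
      by_cases h1 : ∃ j ∈ s, c i = c j
      · obtain ⟨j, hj, h1⟩ := h1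
        refine ⟨d, hd, Finset.forall_mem_insert .. |>.2 ⟨(α i).injective ?_, e⟩⟩
        rw [h i j h1, ← e j hj, hα i d hd, hα j d hd, h1]
      · obtain ⟨x, hx, e'⟩ := (map_inf_top hT (π i) s (fun j => (π j).ker) (hs i) fun j hj a =>
          h1 ⟨j, hj, (hc i j).2 (ker_eq_of_le (hs j) (hs i) a).symm⟩).ge (mem_top ((d i)⁻¹ * n i))
        refine ⟨d * x, mul_mem hd x.2, Finset.forall_mem_insert .. |>.2 ⟨?_, fun j hj => ?_⟩⟩
        · rw [Pi.mul_apply, show x.1 i = _ from e', mul_inv_cancel_left]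
        · rw [Pi.mul_apply, show x.1 j = 1 from SetLike.le_def.1 (Finset.inf_le hj) hx, mul_one, e j hj]
  obtain ⟨d, hd, e⟩ := this Finset.univ
  exact (funext fun i => e i (Finset.mem_univ i) : d = n) ▸ hd

end scott

end Cfsg.Agent.Perm
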