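import Cfsg.Agent.Perm.Prime2

/-! Sharply multiply transitive groups. -/

set_option autoImplicit false

namespace Cfsg.Agent.Perm

open Subgroup MulAction Cfsg.Agent.Comp
open scoped Pointwise commutatorElement

variable {G Ω : Type*} [Group G] [MulAction G Ω]

variable (G Ω) in
/-- only the identity fixes `k` points -/
def Shp (k : ℕ) : Prop := ∀ s : Finset Ω, s.card = k → ∀ g : G, (∀ x ∈ s, g • x = x) → g = 1

theorem shp_of_emb {k : ℕ} (h : ∀ x : Fin k ↪ Ω, stabilizer G x = ⊥) : Shp G Ω k := fun s hs g hg =>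
  stab_emb_bot_iff.1 (h ((s.equivFinOfCardEq hs).symm.toEmbedding.trans (.subtype _))) g
    fun _ => hg _ (Subtype.property _)

theorem Shp.emb {k : ℕ} (h : Shp G Ω k) (x : Fin k ↪ Ω) : stabilizer G x = ⊥ :=
  stab_emb_bot_iff.2 fun g hg => h (Finset.univ.map x) (by simp) g (by simpa using hg)

theorem Shp.fixing {t : Finset Ω} {m : ℕ} (h : Shp G Ω (t.card + m)) :
    Shp (fixingSubgroup G (t : Set Ω)) (SubMulAction.ofFixingSubgroup G (t : Set Ω)) m := by
  classical
  intro s hs g hg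
  refine Subtype.ext (h (t ∪ s.image Subtype.val) ?_ g fun x hx => ?_)
  · rw [Finset.card_union_of_disjoint, Finset.card_image_of_injective _ Subtype.val_injective, hs]
    exact Finset.disjoint_right.2 fun x hx => by
      obtain ⟨y, -, rfl⟩ := Finset.mem_image.1 hx
      exact y.2
  · rcases Finset.mem_union.1 hx with hx | hx
    · exact (mem_fixingSubgroup_iff _).1 g.2 x hx
    · obtain ⟨y, y1, rfl⟩ := Finset.mem_image.1 hx
      exact congrArg Subtype.val (hg y y1)

theorem KT.fixing_top {t : Finset Ω} {m : ℕ} (h : KT Ω (⊤ : Subgroup G) (t.card + m)) :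
    KT (SubMulAction.ofFixingSubgroup G (t : Set Ω)) (⊤ : Subgroup (fixingSubgroup G (t : Set Ω))) m :=
  top_subgroupOf (fixingSubgroup G (t : Set Ω)) ▸ h.fixing

theorem exists_finset_card [Finite Ω] {k : ℕ} (hk : k ≤ Nat.card Ω) : ∃ s : Finset Ω, s.card = k := by
  have := Fintype.ofFinite Ω
  obtain ⟨s, -, hs⟩ := Finset.exists_subset_card_eq (s := Finset.univ) (n := k) (by simpa using hk)
  exact ⟨s, hs⟩

theorem Shp.card_eq [Finite Ω] {k : ℕ} (h : Shp G Ω k) (h1 : KT Ω (⊤ : Subgroup G) k)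
    (hk : k ≤ Nat.card Ω) : Nat.card G = (Nat.card Ω).descFactorial k := by
  obtain ⟨s, hs⟩ := exists_finset_card hk
  rw [h1.card_eq hs, (eq_bot_iff_forall _).2 fun g hg => h s hs g ((mem_fixingSubgroup_iff _).1 hg),
    card_bot, one_mul]

theorem Shp.faithful [Finite Ω] {k : ℕ} (h : Shp G Ω k) (hk : k ≤ Nat.card Ω) : FaithfulSMul G Ω :=
  let ⟨s, hs⟩ := exists_finset_card hk
  ⟨fun {g u} e => inv_mul_eq_one.1 (h s hs _ fun x _ => by rw [mul_smul, ← e, inv_smul_smul])⟩

theorem Shp.finite [Finite Ω] {k : ℕ} (h : Shp G Ω k) (hk : k ≤ Nat.card Ω) : Finite G :=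
  have := h.faithful hk
  Finite.of_injective _ (toPerm_injective (α := G) (β := Ω))

theorem Shp.four (h : Shp G Ω 4) {g u : G} {a b c d : Ω} (h1 : a ≠ b) (h2 : a ≠ c) (h3 : a ≠ d)
    (h4 : b ≠ c) (h5 : b ≠ d) (h6 : c ≠ d) (e1 : g • a = u • a) (e2 : g • b = u • b)
    (e3 : g • c = u • c) (e4 : g • d = u • d) : g = u := by
  classical
  exact inv_mul_eq_one.1 (h {a, b, c, d} (Finset.card_eq_four.2 ⟨a, b, c, d, h1, h2, h3, h4, h5, h6, rfl⟩)
    _ (by simp [mul_smul, ← e1, ← e2, ← e3, ← e4]))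

theorem card_of_list {L : List Ω} (h1 : L.Nodup) (h2 : ∀ q, q ∈ L) :
    Finite Ω ∧ Nat.card Ω = L.length := by
  classical
  have e := h1.getEquivOfForallMemList L h2
  exact ⟨.of_equiv _ e, by rw [← Nat.card_congr e, Nat.card_fin]⟩

/-- at most three fixed points -/
def F3 (X : Ω → Ω) : Prop := ∀ q r s t, X q = q → X r = r → X s = s → X t = t →
  q = r ∨ q = s ∨ q = t ∨ r = s ∨ r = t ∨ s = t

theorem Shp.f3 (h : Shp G Ω 4) {g : G} {a : Ω} (ha : g • a ≠ a) : F3 fun q : Ω => g • q :=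
  fun q r s t h1 h2 h3 h4 => by
    by_contra! k
    obtain ⟨k1, k2, k3, k4, k5, k6⟩ := k
    exact ha (by rw [h.four (g := g) (u := 1) k1 k2 k3 k4 k5 k6 (by simpa) (by simpa) (by simpa)
      (by simpa), one_smul])

theorem klein_list {X Y : Ω → Ω} (xx : ∀ q, X (X q) = q) (yy : ∀ q, Y (Y q) = q)
    (xy : ∀ q, Y (X q) = X (Y q)) {a b c d u v : Ω} (ab : a ≠ b) (ac : a ≠ c) (ad : a ≠ d)
    (bc : b ≠ c) (bd : b ≠ d) (cd : c ≠ d) (x1 : X a = a) (x2 : X b = b) (x3 : X c = d)
    (y1 : Y a = b) (y3 : Y c = c) (y4 : Y d = d) (Fx : F3 X) (Fy : F3 Y) (Fz : F3 fun q => X (Y q))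
    (uv : u ≠ v) (z1 : X (Y u) = u) (z2 : X (Y v) = v)
    (z3 : (∀ p, X p = p → p = a ∨ p = b) → ∀ s, X (Y s) = s → s = u ∨ s = v) :
    ∃ L : List Ω, L.Nodup ∧ (L.length = 6 ∨ L.length = 7) ∧
      ∀ r, r ∈ L ↔ X r = r ∨ Y r = r ∨ X (Y r) = r := by
  have y2 := yy a
  have x4 := xx c
  by_cases k : ∃ p : Ω, X p = p ∧ p ≠ a ∧ p ≠ b
  · obtain ⟨p, p1, p2, p3⟩ := k
    have p4 : Y p = p := by
      have := Fx a b p (Y p)
      have := xy p
      have := yy p
      clear Fx Fy Fz xx yy xy z3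
      grind
    obtain ⟨r, r1, r2⟩ : ∃ r : Ω, X (Y r) = r ∧ X r ≠ r := by
      by_contra! k
      have := k u z1
      have := k v z2
      have := Fx a b u v
      clear Fx Fy Fz xx yy xy z3 k
      grind
    have := xy r
    have := xx r
    have := xx (Y r)
    refine ⟨[a, b, c, d, r, X r, p], by clear Fx Fy Fz xx yy xy z3; simp; grind (splits := 30), Or.inr rfl, fun s => ?_⟩
    simp only [List.mem_cons, List.not_mem_nil, or_false]
    have := Fx a b p s
    have := Fy c d p s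
    have := Fz r (X r) p s
    clear Fx Fy Fz xx yy xy z3
    grind
  · have k' : ∀ p, X p = p → p = a ∨ p = b := fun p h => by_contra fun e => k ⟨p, h, not_or.1 e⟩
    refine ⟨[a, b, c, d, u, v], by clear Fx Fy Fz xx yy xy z3 k k'; simp; grind, Or.inl rfl, fun s => ?_⟩
    simp only [List.mem_cons, List.not_mem_nil, or_false]
    have := k' s
    have := z3 k' s
    have := Fy c d s (X s)
    have := xy s
    have := xx s
    clear Fx Fy Fz xx yy xy z3 k k'
    grind

theorem klein_reg {X Y : Ω → Ω} (xx : ∀ q, X (X q) = q) (yy : ∀ q, Y (Y q) = q)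
    (xy : ∀ q, Y (X q) = X (Y q)) {r : Ω} (h : ¬ (X r = r ∨ Y r = r ∨ X (Y r) = r)) :
    r ≠ X r ∧ r ≠ Y r ∧ r ≠ X (Y r) ∧ X r ≠ Y r ∧ X r ≠ X (Y r) ∧ Y r ≠ X (Y r) := by
  have := xx r
  have := xx (Y r)
  have := xy r
  have := yy r
  have := xy (Y r)
  clear xx yy xy
  grind

theorem sharp_four_aux (h4 : KT Ω (⊤ : Subgroup G) 4) (h : Shp G Ω 4)
    (h7 : ∀ s : Finset Ω, s.card < 7 → ∃ a, a ∉ s) :
    Finite Ω ∧ (Nat.card Ω = 6 ∨ Nat.card Ω = 7 ∨ Nat.card Ω = 10 ∨ Nat.card Ω = 11) := by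
  classical
  obtain ⟨a, -⟩ := h7 ∅ (by simp)
  obtain ⟨b, ba⟩ := h7 {a} (by simp)
  obtain ⟨c, ca⟩ := h7 {a, b} (Finset.card_le_two.trans_lt (by norm_num))
  obtain ⟨d, da⟩ := h7 {a, b, c} (Finset.card_le_three.trans_lt (by norm_num))
  obtain ⟨e, ea⟩ := h7 {a, b, c, d} (Finset.card_le_four.trans_lt (by norm_num))
  obtain ⟨f, fa⟩ := h7 {a, b, c, d, e} (Finset.card_le_five.trans_lt (by norm_num))
  simp only [Finset.mem_insert, Finset.mem_singleton, not_or] at ba ca da ea fa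
  replace ba : a ≠ b := Ne.symm ba
  have ac : a ≠ c := Ne.symm ca.1
  have bc : b ≠ c := Ne.symm ca.2
  have ad : a ≠ d := Ne.symm da.1
  have bd : b ≠ d := Ne.symm da.2.1
  have cd : c ≠ d := Ne.symm da.2.2
  clear ca da h7
  have E := fun {g u : G} => h.four (g := g) (u := u) ba ac ad bc bd cd
  obtain ⟨x, -, x1, x2, x3, x4⟩ := h4.four le_rfl ba ac ad bc bd cd ba ad ac bd bc (Ne.symm cd)
  obtain ⟨y, -, y1, y2, y3, y4⟩ := h4.four le_rfl ba ac ad bc bd cd (Ne.symm ba) bc bd ac ad cd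
  have xx : ∀ q : Ω, x • x • q = q := fun q => by
    rw [← mul_smul, E (g := x * x) (u := 1), one_smul] <;> simp [mul_smul, *]
  have yy : ∀ q : Ω, y • y • q = q := fun q => by
    rw [← mul_smul, E (g := y * y) (u := 1), one_smul] <;> simp [mul_smul, *]
  have xy : ∀ q : Ω, y • x • q = x • y • q := fun q => by
    rw [← mul_smul, E (g := y * x) (u := x * y), mul_smul] <;> simp [mul_smul, *]
  have Fx := h.f3 (x3 ▸ Ne.symm cd : x • c ≠ c)
  have Fy := h.f3 (y1 ▸ Ne.symm ba : y • a ≠ a)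
  have Fz := h.f3 (g := x * y) (a := a) (by rw [mul_smul, y1, x2]; exact Ne.symm ba)
  simp only [mul_smul] at Fz
  obtain ⟨q, q1, q2, q3, q4, q5⟩ : ∃ q, q ≠ x • q ∧ c ≠ q ∧ d ≠ q ∧ c ≠ x • q ∧ d ≠ x • q := by
    have k : ∀ q, q ≠ c → q ≠ d → c ≠ x • q ∧ d ≠ x • q := fun q h1 h2 =>
      ⟨fun e => h2 (by rw [← xx q, ← e, x3]), fun e => h1 (by rw [← xx q, ← e, x4])⟩
    by_cases he : x • e = e
    · refine ⟨f, fun hf => ?_, Ne.symm fa.2.2.1, Ne.symm fa.2.2.2.1, k f fa.2.2.1 fa.2.2.2.1⟩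
      have := Fx a b e f x1 x2 he hf.symm
      clear Fx Fy Fz xx yy xy k E h h4
      grind
    · exact ⟨e, Ne.symm he, Ne.symm ea.2.2.1, Ne.symm ea.2.2.2, k e ea.2.2.1 ea.2.2.2⟩
  obtain ⟨g, -, g1, g2, g3, g4⟩ := h4.four le_rfl cd q2 q4 q3 q5 q1 ba ac ad bc bd cd
  have z0 : ∀ r : Ω, x • y • g • r = g • x • r := fun r => by
    rw [← mul_smul, ← mul_smul, h.four (g := x * y * g) (u := g * x) cd q2 q4 q3 q5 q1, mul_smul] <;>
      simp [mul_smul, *]
  obtain ⟨L, L1, L2, L3⟩ := klein_list xx yy xy ba ac ad bc bd cd x1 x2 x3 y1 y3 y4 Fx Fy Fz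
    (fun e => ba (smul_left_cancel g e)) (by rw [z0, x1]) (by rw [z0, x2]) fun k s hs => by
      simpa [inv_smul_eq_iff] using k (g⁻¹ • s) (smul_left_cancel g (by rw [← z0, smul_inv_smul, hs]))
  by_cases k : ∀ r, r ∈ L
  · obtain ⟨k1, k2⟩ := card_of_list L1 k
    exact ⟨k1, by omega⟩
  push Not at k
  obtain ⟨r, hr⟩ := k
  obtain ⟨r1, r2, r3, r4, r5, r6⟩ := klein_reg xx yy xy (mt (L3 r).2 hr)
  obtain ⟨k1, k2⟩ := card_of_list (L := L ++ [r, x • r, y • r, x • y • r])
    (List.nodup_append.2 ⟨L1, by simp [*], fun s hs t ht e => by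
      subst e
      simp only [List.mem_cons, List.not_mem_nil, or_false] at ht
      rw [L3] at hs
      have := xx r
      have := yy r
      have := xy r
      have := xy (y • r)
      have := xx (y • r)
      clear Fx Fy Fz xx yy xy E h h4 L3 z0
      grind⟩) fun s => by
      refine List.mem_append.2 (or_iff_not_imp_left.2 fun hs => ?_)
      obtain ⟨s1, s2, s3, s4, s5, s6⟩ := klein_reg xx yy xy (mt (L3 s).2 hs)
      obtain ⟨u, -, u1, u2, u3, u4⟩ := h4.four le_rfl r1 r2 r3 r4 r5 r6 s1 s2 s3 s4 s5 s6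
      have E' := fun {g u : G} => h.four (g := g) (u := u) r1 r2 r3 r4 r5 r6
      have ux : ∀ t : Ω, x • u • t = u • x • t := fun t => by
        rw [← mul_smul, E' (g := x * u) (u := u * x), mul_smul] <;> simp [mul_smul, *]
      have uy : ∀ t : Ω, y • u • t = u • y • t := fun t => by
        rw [← mul_smul, E' (g := y * u) (u := u * y), mul_smul] <;> simp [mul_smul, *]
      have v3 := uy a
      have v4 := ux c
      have v1 : u • a = a ∨ u • a = b := by
        have := ux a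
        have := ux b
        have := Fx a b (u • a) (u • b)
        have := uy b
        have : u • a ≠ u • b := fun e => ba (smul_left_cancel u e)
        clear Fx Fy Fz xx yy xy E E' h h4 L3 z0 ux uy
        grind
      have v2 : u • c = c ∨ u • c = d := by
        have := uy c
        have := uy d
        have := Fy c d (u • c) (u • d)
        have := ux d
        have : u • c ≠ u • d := fun e => cd (smul_left_cancel u e)
        clear Fx Fy Fz xx yy xy E E' h h4 L3 z0 ux uy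
        grind
      simp only [List.mem_cons, List.not_mem_nil, or_false]
      rw [y1] at v3
      rw [x3] at v4
      rcases v1 with v1 | v1 <;> rcases v2 with v2 | v2
      · rw [← u1, E (g := u) (u := 1)] <;> simp [← v3, ← v4, *]
      · rw [← u1, E (g := u) (u := x)] <;> simp [← v3, ← v4, *]
      · rw [← u1, E (g := u) (u := y)] <;> simp [← v3, ← v4, *]
      · rw [← u1, E (g := u) (u := x * y)] <;> simp [← v3, ← v4, mul_smul, *]
  exact ⟨k1, by simp at k2; omega⟩

theorem not_seven_dvd [Finite G] [Finite Ω] [FaithfulSMul G Ω] {p : ℕ} (hp : p.Prime)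
    (h2 : KT Ω (⊤ : Subgroup G) 2) (h1 : p + 3 ≤ Nat.card Ω) (h3 : Nat.card Ω < 2 * p)
    (h4 : p ∣ Nat.card G) : (Nat.card Ω).factorial / 2 ∣ Nat.card G := by
  classical
  have := Fintype.ofFinite Ω
  have := Fact.mk hp
  obtain ⟨g, hg⟩ := exists_prime_orderOf_dvd_card' p h4
  have i : Function.Injective (toPermHom G Ω) := toPerm_injective
  rw [← orderOf_injective _ i] at hg
  rw [Nat.card_eq_fintype_card] at h1 h3
  have c := Equiv.Perm.isCycle_of_prime_order' (hg ▸ hp) (hg ▸ h3)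
  have e := jordan_cycle (H := (toPermHom G Ω).range) (prim_of_kt_two fun s hs a ha b hb =>
    let ⟨u, _, u1⟩ := h2 s hs a ha b hb; ⟨_, ⟨u, rfl⟩, u1⟩) c (by rwa [← c.orderOf, hg]) ⟨g, rfl⟩
    (by rwa [← c.orderOf, hg])
  have : Nontrivial Ω := Fintype.one_lt_card_iff_nontrivial.1 (by omega)
  rw [← nat_card_alternatingGroup, Nat.card_congr (MonoidHom.ofInjective i).toEquiv]
  exact card_dvd_of_le e

theorem sharp_four [Finite Ω] (h4 : KT Ω (⊤ : Subgroup G) 4) (h : Shp G Ω 4) (hc : 4 ≤ Nat.card Ω) :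
    Nat.card Ω = 4 ∨ Nat.card Ω = 5 ∨ Nat.card Ω = 6 ∨ Nat.card Ω = 11 := by
  by_cases h7 : Nat.card Ω < 7
  · omega
  have := h.faithful hc
  have := h.finite hc
  have e := h.card_eq h4 hc
  rcases (sharp_four_aux h4 h fun s hs => exists_notMem_of_card_lt (by omega)).2 with k | k | k | k
  · omega
  · have : Fact (Nat.Prime 7) := ⟨by norm_num⟩
    have := is_one_pretransitive_iff.1 (h4.of_le (by norm_num : 1 ≤ 4)).multi_top
    obtain ⟨P⟩ : Nonempty (Sylow 7 G) := inferInstance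
    obtain ⟨d, n, h1, h2, -, h3, h5⟩ := card_prime_deg k P
    rw [e, k] at h3
    simp only [Nat.descFactorial] at h3
    have := Nat.le_of_dvd (by norm_num) h1
    unfold Nat.ModEq at h2
    interval_cases d <;> omega
  · have := not_seven_dvd (p := 7) (by norm_num) (h4.of_le (by norm_num)) (by omega) (by omega)
      (by rw [e, k]; decide)
    rw [e, k] at this
    exact absurd this (by decide)
  · omega

theorem sharp_add [Finite Ω] {k : ℕ} (h4 : KT Ω (⊤ : Subgroup G) (k + 4)) (h : Shp G Ω (k + 4))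
    (hc : k + 4 ≤ Nat.card Ω) : Nat.card Ω = k + 4 ∨ Nat.card Ω = k + 5 ∨ Nat.card Ω = k + 6 ∨
      Nat.card Ω = k + 11 := by
  obtain ⟨t, rfl⟩ := exists_finset_card (Ω := Ω) (k := k) (by omega)
  have := card_ofFixing (G := G) t
  have := sharp_four h4.fixing_top h.fixing (by omega)
  omega

theorem sharp_six [Finite Ω] (h4 : KT Ω (⊤ : Subgroup G) 6) (h : Shp G Ω 6) : Nat.card Ω ≠ 13 :=
  fun k => by
    have := h.faithful (by omega)
    have := h.finite (by omega)
    have : Fact (Nat.Prime 13) := ⟨by norm_num⟩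
    have := is_one_pretransitive_iff.1 (h4.of_le (by norm_num : 1 ≤ 6)).multi_top
    obtain ⟨P⟩ : Nonempty (Sylow 13 G) := inferInstance
    obtain ⟨d, n, h1, h2, -, h3, h5⟩ := card_prime_deg k P
    rw [h.card_eq h4 (by omega), k] at h3
    simp only [Nat.descFactorial] at h3
    have := Nat.le_of_dvd (by norm_num) h1
    unfold Nat.ModEq at h2
    interval_cases d <;> omega

theorem sharp_eleven [Finite Ω] (h4 : KT Ω (⊤ : Subgroup G) 4) (h : Shp G Ω 4) (k : Nat.card Ω = 11) :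
    IsSimpleGroup G := by
  have := h.faithful (by omega)
  have := h.finite (by omega)
  have : Fact (Nat.Prime 11) := ⟨by norm_num⟩
  have := is_one_pretransitive_iff.1 (h4.of_le (by norm_num : 1 ≤ 4)).multi_top
  obtain ⟨P⟩ : Nonempty (Sylow 11 G) := inferInstance
  obtain ⟨d, n, h1, h2, h6, h3, h5⟩ := card_prime_deg k P
  have e := h.card_eq h4 (by omega)
  rw [k] at e
  simp only [Nat.descFactorial] at e
  have := Nat.le_of_dvd (by norm_num) h1
  unfold Nat.ModEq at h2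
  obtain rfl : d = 5 := by interval_cases d <;> omega
  refine simple_of_prime_deg k P (fun h => ?_) ?_
  · rw [normalizer_eq_top, card_top] at h6; omega
  · have := Core.card_mul_relIndex (le_normalizer (H := (P : Subgroup G)))
    rw [h6, show Nat.card (P : Subgroup G) = 11 from card_sylow_prime_deg k P] at this
    rw [Nat.eq_of_mul_eq_mul_left (by norm_num) this]; norm_num

end Cfsg.Agent.Perm
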