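import Cfsg.Agent.Perm.Jordan

/-! Wielandt's theorem on primitive groups of degree `2p`. -/

set_option autoImplicit false

namespace Cfsg.Agent.Perm

open Subgroup MulAction Matrix Finset
open scoped Pointwise

section orbital
variable {G Ω : Type*} [Group G] [MulAction G Ω] {K : Type*} [Field K]

variable (G) in
/-- invariant matrices -/
def MInv (T : Matrix Ω Ω K) : Prop := ∀ (g : G) y z, T (g • y) (g • z) = T y z

theorem mv_apply [Fintype Ω] (T : Matrix Ω Ω K) (w : Ω → K) (y : Ω) :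
    (T *ᵥ w) y = ∑ z, T y z * w z := rfl

theorem MInv.transpose {T : Matrix Ω Ω K} (h : MInv G T) : MInv G Tᵀ := fun g y z => h g z y

theorem MInv.mul [Fintype Ω] {T S : Matrix Ω Ω K} (h : MInv G T) (h' : MInv G S) :
    MInv G (T * S) := fun g y z => by
  simp only [mul_apply]
  rw [← Equiv.sum_comp (MulAction.toPerm g)]
  exact sum_congr rfl fun u _ => by rw [toPerm_apply, h, h']

theorem MInv.mulVec [Fintype Ω] {T : Matrix Ω Ω K} (h : MInv G T) (g : G) (w : Ω → K) :
    (T *ᵥ fun y => w (g • y)) = fun y => (T *ᵥ w) (g • y) := funext fun y => by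
  simp only [mv_apply]
  rw [← Equiv.sum_comp (MulAction.toPerm g) fun u => T (g • y) u * w u]
  exact sum_congr rfl fun u _ => by rw [toPerm_apply, h]

theorem MInv.row_sum [Fintype Ω] [IsPretransitive G Ω] {T : Matrix Ω Ω K} (h : MInv G T) (y z : Ω) :
    ∑ u, T y u = ∑ u, T z u := by
  obtain ⟨g, rfl⟩ := exists_smul_eq G z y
  simpa [mv_apply] using (congrFun (h.mulVec g 1) z).symm

theorem MInv.diag [IsPretransitive G Ω] {T : Matrix Ω Ω K} (h : MInv G T) (y z : Ω) :
    T y y = T z z := by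
  obtain ⟨g, rfl⟩ := exists_smul_eq G z y
  exact h ..

variable (G K) in
open Classical in
/-- orbital matrix -/
noncomputable def orbM (a b : Ω) : Matrix Ω Ω K :=
  fun y z => if ∃ g : G, g • a = y ∧ g • b = z then 1 else 0

theorem orbM_inv (a b : Ω) : MInv G (orbM G K a b) := fun g y z => by
  classical
  refine if_congr ⟨fun ⟨u, h1, h2⟩ => ⟨g⁻¹ * u, ?_⟩, fun ⟨u, h1, h2⟩ => ⟨g * u, ?_⟩⟩ rfl rfl <;>
    simp [mul_smul, h1, h2]

theorem orbM_cases (a b y z : Ω) : orbM G K a b y z = 0 ∨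
    orbM G K a b y z = 1 ∧ ∃ g : G, g • a = y ∧ g • b = z := by
  unfold orbM; split_ifs with h <;> simp [h]

theorem orbM_eq_one {a b y z : Ω} : orbM G K a b y z = 1 ↔ ∃ g : G, g • a = y ∧ g • b = z := by
  unfold orbM; split_ifs with h <;> simp [h]

theorem orbM_self (a b : Ω) : orbM G K a b a b = 1 := orbM_eq_one.2 ⟨1, by simp⟩

theorem orbM_diag {a b : Ω} (h : b ≠ a) (y : Ω) : orbM G K a b y y = 0 :=
  (orbM_cases a b y y).resolve_right fun ⟨_, g, h1, h2⟩ => h (smul_left_cancel g (h2.trans h1.symm))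

theorem mem_orbit_stab {a b z : Ω} : z ∈ orbit (stabilizer G a) b ↔ ∃ g : G, g • a = a ∧ g • b = z :=
  ⟨fun ⟨g, h⟩ => ⟨g, g.2, h⟩, fun ⟨g, h1, h2⟩ => ⟨⟨g, h1⟩, h2⟩⟩

variable (G) in
/-- subdegree -/
noncomputable def sdeg (a b : Ω) : ℕ := Nat.card (orbit (stabilizer G a) b)

theorem sdeg_ne [Finite Ω] (a b : Ω) : sdeg G a b ≠ 0 :=
  Nat.card_ne_zero.2 ⟨⟨⟨b, mem_orbit_self b⟩⟩, inferInstance⟩

theorem orbM_row [Fintype Ω] (a b : Ω) :
    ∑ z, orbM G K a b a z = sdeg G a b := by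
  classical
  simp [orbM, sdeg, ← mem_orbit_stab, Fintype.card_subtype]

theorem MInv.orbM_mul {T : Matrix Ω Ω K} (h : MInv G T) (a b y z : Ω) :
    orbM G K a b y z * T y z = orbM G K a b y z * T a b := by
  rcases orbM_cases (G := G) (K := K) a b y z with e | ⟨-, g, rfl, rfl⟩
  · simp [e]
  · rw [h]

theorem prim_fix [IsPreprimitive G Ω] {a b : Ω} (hab : b ≠ a)
    (h : sdeg G a b = 1) [Finite Ω] (g : G) {x : Ω} (hx : g • x = x) (y : Ω) :
    g • y = y := by
  have h1 : ∀ g : G, g • a = a → g • b = b := fun g hg => congrArg Subtype.val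
    ((Nat.card_eq_one_iff_unique.1 h).1.elim ⟨_, mem_orbit_stab.2 ⟨g, hg, rfl⟩⟩ ⟨b, mem_orbit_self b⟩)
  have h2 : ∀ g : G, g • a = a → ∀ y : Ω, g • y = y := by
    haveI : Nontrivial Ω := ⟨_, _, hab⟩
    have h3 := (prim_iff_coatom (G := G) a).1 inferInstance
    obtain ⟨t, ht⟩ := exists_smul_eq G b a
    have h4 := (h3 (stabilizer G b) h1).resolve_right fun e =>
      hab ((e.ge (mem_top t) : t • b = b).symm.trans ht)
    have h5 := (h3 _ le_normalizer).resolve_left fun e => hab (by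
      have : t ∈ normalizer (stabilizer G a : Set G) := mem_normalizer_iff.2 fun u => by
        conv_lhs => rw [← h4]
        rw [mem_stabilizer_iff, mem_stabilizer_iff, ← ht, mul_smul, inv_smul_smul, mul_smul,
          smul_left_cancel_iff]
      exact smul_left_cancel t (ht.trans (e.le this : t • a = a).symm))
    intro g hg y
    obtain ⟨u, rfl⟩ := exists_smul_eq G a y
    have : (u⁻¹ * g * u) • a = a := (normalizer_eq_top_iff.1 h5).conj_mem' g hg u
    rwa [mul_smul, mul_smul, inv_smul_eq_iff] at this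
  obtain ⟨u, rfl⟩ := exists_smul_eq G a x
  have := h2 (u⁻¹ * g * u) (by simp [mul_smul, hx]) (u⁻¹ • y)
  simpa [mul_smul] using this

end orbital

section twop
variable {p : ℕ} [hp : Fact p.Prime]

local notation "𝓡" => AddMonoidAlgebra ℚ (ZMod p)

theorem exists_ev : ∃ ev : 𝓡 →+* ℂ, ∀ a, ev a = 0 → ∀ x, a.coeff x = a.coeff 0 := by
  obtain ⟨n, rfl⟩ : ∃ n, p = n + 1 := ⟨p - 1, by have := hp.out.pos; omega⟩
  have h := Complex.isPrimitiveRoot_exp _ hp.out.ne_zero
  refine ⟨(AddMonoidAlgebra.lift ℚ ℂ _ (AddChar.zmodChar _ h.pow_eq_one).toMonoidHom).toRingHom,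
    fun a ha x => (h.sum_eq_zero_iff_forall_eq hp.out a.coeff).1 ?_ _ _⟩
  rw [← ha, AlgHom.toRingHom_eq_coe, RingHom.coe_coe, AddMonoidAlgebra.lift_apply,
    Finsupp.sum_fintype _ _ (by simp)]
  exact sum_congr rfl fun i _ => by rw [Rat.smul_def]; rfl

theorem two_decomp {R : Type*} [CommRing R] {T E : Matrix (Fin 2) (Fin 2) R} {s : R}
    (h : E.trace = 1) (h1 : T * E = s • E) (h2 : E * T = s • E) :
    T = s • E + (T.trace - s) • (1 - E) := by
  have a := fun i j => congrFun (congrFun h1 i) j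
  have b := fun i j => congrFun (congrFun h2 i) j
  simp only [mul_apply, Fin.sum_univ_two, Matrix.smul_apply, smul_eq_mul, trace_fin_two] at a b h
  ext i j
  fin_cases i <;> fin_cases j <;> simp [trace_fin_two]
  · linear_combination a 0 0 - b 1 1 + (T 1 1 - s) * h
  · linear_combination a 0 1 + b 0 1 - T 0 1 * h
  · linear_combination a 1 0 + b 1 0 - T 1 0 * h
  · linear_combination a 1 1 - b 0 0 + (T 0 0 - s) * h

theorem two_idem {M : Matrix (Fin 2) (Fin 2) ℂ} (h : M * M = M) : M = 0 ∨ M = 1 ∨ M.trace = 1 := by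
  have a := fun i j => congrFun (congrFun h i) j
  simp only [mul_apply, Fin.sum_univ_two] at a
  rw [trace_fin_two, ← or_assoc, or_iff_not_imp_right]
  intro e
  have b : M 0 1 = 0 := (mul_eq_zero.1 (by linear_combination a 0 1)).resolve_right (sub_ne_zero.2 e)
  have c : M 1 0 = 0 := (mul_eq_zero.1 (by linear_combination a 1 0)).resolve_right (sub_ne_zero.2 e)
  have d : M 0 0 * (M 0 0 - 1) = 0 := by linear_combination a 0 0 - M 1 0 * b
  have d' : M 1 1 * (M 1 1 - 1) = 0 := by linear_combination a 1 1 - M 1 0 * b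
  simp only [mul_eq_zero, sub_eq_zero] at d d'
  simp only [← Matrix.ext_iff, Fin.forall_fin_two]
  rcases d with u | u <;> rcases d' with v | v <;> simp_all

variable {G Ω : Type*} [Group G] [MulAction G Ω] [Fintype Ω] (e : Fin 2 × ZMod p ≃ Ω)

/-- block-circulant matrices as `2 × 2` matrices over the group ring -/
noncomputable def hat (T : Matrix Ω Ω ℚ) : Matrix (Fin 2) (Fin 2) 𝓡 :=
  fun i j => .ofCoeff (Finsupp.equivFunOnFinite.symm fun x => T (e (i, 0)) (e (j, x)))

omit [Fintype Ω] in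
theorem hat_coeff (T : Matrix Ω Ω ℚ) (i j : Fin 2) (x : ZMod p) :
    (hat e T i j).coeff x = T (e (i, 0)) (e (j, x)) := rfl

omit [Fintype Ω] in
theorem hat_smul (c : ℚ) (T : Matrix Ω Ω ℚ) : hat e (c • T) = algebraMap ℚ 𝓡 c • hat e T := by
  rw [algebraMap_smul]
  ext i j x
  simp [hat_coeff]

variable {e} {σ : G} (hσ : ∀ i x, σ • e (i, x) = e (i, x + 1))
include hσ

omit [Fintype Ω] in
theorem exists_shift (y : ZMod p) : ∃ g : G, ∀ i x, g • e (i, x) = e (i, x + y) := by
  obtain ⟨n, rfl⟩ := ZMod.natCast_zmod_surjective y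
  refine ⟨σ ^ n, fun i x => ?_⟩
  induction n with
  | zero => simp
  | succ n ih => rw [pow_succ', mul_smul, ih, hσ, Nat.cast_succ, add_assoc]

omit [Fintype Ω] in
theorem MInv.shift {T : Matrix Ω Ω ℚ} (h : MInv G T) (i j : Fin 2) (x y : ZMod p) :
    T (e (i, y)) (e (j, x)) = T (e (i, 0)) (e (j, -y + x)) := by
  obtain ⟨g, hg⟩ := exists_shift hσ (-y)
  rw [← h g, hg, hg, add_neg_cancel, add_comm]

theorem hat_mul (T : Matrix Ω Ω ℚ) {S : Matrix Ω Ω ℚ} (h : MInv G S) :
    hat e (T * S) = hat e T * hat e S := by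
  ext i j x
  rw [hat_coeff, mul_apply, mul_apply, ← e.sum_comp, Fintype.sum_prod_type, AddMonoidAlgebra.coeff_sum,
    Finsupp.finset_sum_apply]
  refine sum_congr rfl fun l _ => ?_
  rw [AddMonoidAlgebra.coeff_mul_apply_left, Finsupp.sum_fintype _ _ (by simp)]
  exact sum_congr rfl fun y _ => by rw [h.shift hσ]; rfl

omit hσ
variable (e) in
/-- the sign vector of the two orbits -/
def sgn (y : Ω) : ℚ := if (e.symm y).1 = 0 then 1 else -1

omit [Fintype Ω] in
@[simp] theorem sgn_zero (x : ZMod p) : sgn e (e (0, x)) = 1 := by simp [sgn]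
omit [Fintype Ω] in
@[simp] theorem sgn_one (x : ZMod p) : sgn e (e (1, x)) = -1 := by simp [sgn]
omit [Fintype Ω] in
theorem sgn_sq (y : Ω) : sgn e y * sgn e y = 1 := by unfold sgn; split_ifs <;> simp

variable (e) in
theorem sum_e (f : Ω → ℚ) : ∑ y, f y = ∑ x, f (e (0, x)) + ∑ x, f (e (1, x)) := by
  rw [← e.sum_comp, Fintype.sum_prod_type, Fin.sum_univ_two]

theorem sum_sgn : ∑ y, sgn e y = 0 := by simp [sum_e e]

variable (e) in
/-- eigenvalue on the sign vector -/
def sv (T : Matrix Ω Ω ℚ) : ℚ := (T *ᵥ sgn e) (e (0, 0))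

omit [Fintype Ω] in
theorem not_block [IsPreprimitive G Ω]
    (h : ∀ (g : G) x x', sgn e (g • e (0, x)) = 1 → sgn e (g • e (0, x')) = 1) : False := by
  have h0 : ∀ y, sgn e y = 1 → ∃ x, y = e (0, x) := fun y hy => by
    obtain ⟨⟨i, x⟩, rfl⟩ := e.surjective y
    fin_cases i
    · exact ⟨x, rfl⟩
    · exact absurd (hy.symm.trans (sgn_one x)) (by norm_num)
  have h1 : ∀ (g : G) y y', sgn e y = 1 → sgn e y' = 1 → sgn e (g • y) = 1 → sgn e (g • y') = 1 := by
    intro g y y' a b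
    obtain ⟨x, rfl⟩ := h0 y a
    obtain ⟨x', rfl⟩ := h0 y' b
    exact h g x x'
  rcases (isBlock_iff_smul_eq_of_mem (G := G) (B := {y | sgn e y = 1})).2 (fun g a ha hg =>
    Set.ext fun y => Set.mem_smul_set_iff_inv_smul_mem.trans ⟨fun b => by
      simpa using h1 g a _ ha b hg, fun b => h1 g⁻¹ _ y hg b (by simpa using ha)⟩)
    |>.subsingleton_or_eq_univ with a | a
  · simpa using a (sgn_zero 0) (sgn_zero 1)
  · exact absurd ((a.ge (Set.mem_univ (e (1, 0)))).symm.trans (sgn_one 0)) (by norm_num)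

include hσ
variable [IsPreprimitive G Ω]

theorem MInv.mulVec_sgn {T : Matrix Ω Ω ℚ} (h : MInv G T) : T *ᵥ sgn e = sv e T • sgn e := by
  have h1 : ∀ i x, (T *ᵥ sgn e) (e (i, x)) = (T *ᵥ sgn e) (e (i, 0)) := fun i x => by
    obtain ⟨g, hg⟩ := exists_shift hσ x
    have : (fun y => sgn e (g • y)) = sgn e := funext fun y => by
      obtain ⟨⟨j, y⟩, rfl⟩ := e.surjective y
      simp [hg, sgn]
    have := congrFun (this ▸ h.mulVec g (sgn e)) (e (i, 0))
    rw [this, hg, zero_add]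
  have h2 : ∑ y, (T *ᵥ sgn e) y = 0 := by
    have := fun z => h.transpose.row_sum z (e (0, 0))
    simp only [mv_apply, transpose_apply] at this ⊢
    rw [sum_comm]
    simp only [← sum_mul, this, ← mul_sum, sum_sgn, mul_zero]
  simp only [sum_e e, h1, sum_const, card_univ, ZMod.card, nsmul_eq_mul, ← mul_add] at h2
  replace h2 := (mul_eq_zero.1 h2).resolve_left (Nat.cast_ne_zero.2 hp.out.ne_zero)
  ext y
  obtain ⟨⟨i, x⟩, rfl⟩ := e.surjective y
  fin_cases i
  · simp [h1, sv]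
  · simp [h1, sv, eq_neg_of_add_eq_zero_right h2]

theorem MInv.sv_transpose {T : Matrix Ω Ω ℚ} (h : MInv G T) : sv e Tᵀ = sv e T := by
  have := dotProduct_mulVec (sgn e) T (sgn e)
  rw [← mulVec_transpose, h.mulVec_sgn hσ, h.transpose.mulVec_sgn hσ] at this
  simpa [dotProduct, mul_assoc, sum_e e, hp.out.ne_zero, eq_comm, ← two_mul] using this

theorem exists_E [Finite G] : ∃ E : Matrix Ω Ω ℚ, MInv G E ∧ Eᵀ = E ∧
    (∀ T, MInv G T → T * E = sv e T • E) ∧ E *ᵥ sgn e = sgn e ∧ ∀ y, ∑ z, E y z = 0 := by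
  have := Fintype.ofFinite G
  obtain ⟨R, hR⟩ : ∃ R : Matrix Ω Ω ℚ, ∀ y z, R y z = ∑ g : G, sgn e (g • y) * sgn e (g • z) :=
    ⟨_, fun _ _ => rfl⟩
  have h1 : MInv G R := fun u y z => by
    simp only [hR, ← mul_smul]
    exact Equiv.sum_comp (Equiv.mulRight u) fun g => sgn e (g • y) * sgn e (g • z)
  have h2 : Rᵀ = R := by ext; simp [hR, mul_comm]
  have h3 : ∀ T, MInv G T → T * R = sv e T • R := fun T h => by
    ext y z
    simp only [mul_apply, hR, mul_sum, Matrix.smul_apply, smul_eq_mul, ← mul_assoc]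
    rw [sum_comm]
    refine sum_congr rfl fun g _ => ?_
    have := congrFun (h.mulVec g (sgn e)) y
    rw [h.mulVec_sgn hσ] at this
    rw [← sum_mul]
    exact congrArg (· * _) this
  have h4 : sv e R ≠ 0 := fun h => by
    have := congrFun (congrFun (h3 R h1) (e (0, 0))) (e (0, 0))
    rw [h, zero_smul, mul_apply] at this
    have := (sum_eq_zero_iff_of_nonneg fun z _ => by
      rw [← h2, transpose_apply, h2]; exact mul_self_nonneg _).1 this (e (0, 0)) (mem_univ _)
    simp [hR, sgn_sq] at this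
  refine ⟨(sv e R)⁻¹ • R, fun g y z => by simp [h1 g], by simp [h2], fun T h => by
    rw [Matrix.mul_smul, h3 T h, smul_comm], by
    rw [smul_mulVec, h1.mulVec_sgn hσ, inv_smul_smul₀ h4], fun y => ?_⟩
  simp only [Matrix.smul_apply, smul_eq_mul, ← mul_sum, hR]
  have : ∀ g : G, ∑ z, sgn e (g • z) = 0 := fun g =>
    (Equiv.sum_comp (MulAction.toPerm g) (sgn e)).trans sum_sgn
  rw [sum_comm]
  simp [← mul_sum, this]

omit [Fintype Ω] in
theorem not_semireg {a b : Ω} (hab : b ≠ a) [Finite Ω] :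
    sdeg G a b ≠ 1 := fun h => not_block (e := e) fun (g : G) x x' hx => by
  obtain ⟨⟨i, y⟩, hy⟩ := e.surjective (g • e (0, x))
  obtain rfl : i = 0 := by
    fin_cases i
    · rfl
    · exact absurd (hx.symm.trans (hy ▸ sgn_one y)) (by norm_num)
  obtain ⟨u, hu⟩ := exists_shift hσ (y - x)
  have := prim_fix hab h (u⁻¹ * g) (x := e (0, x)) (by simp [mul_smul, inv_smul_eq_iff, hu, hy])
    (e (0, x'))
  rw [mul_smul, inv_smul_eq_iff, hu] at this
  rw [this, sgn_zero]

theorem MInv.blocks {T : Matrix Ω Ω ℚ} (h : MInv G T) :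
    ∑ x, (hat e T).trace.coeff x = ∑ z, T (e (0, 0)) z + sv e T := by
  have a := congrFun (h.mulVec_sgn hσ) (e (0, 0))
  have b := congrFun (h.mulVec_sgn hσ) (e (1, 0))
  have c := h.row_sum (e (1, 0)) (e (0, 0))
  simp [mv_apply, sum_e e] at a b c
  simp [trace_fin_two, hat_coeff, sum_add_distrib, sum_e e]
  linear_combination (c + a - b) / 2

section
variable {E : Matrix Ω Ω ℚ} (hE : MInv G E) (hs : Eᵀ = E) (hT : ∀ T, MInv G T → T * E = sv e T • E)
  (ht : (hat e E).trace = 1)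
include hE hs hT ht

theorem hat_decomp {T : Matrix Ω Ω ℚ} (h : MInv G T) : hat e T = algebraMap ℚ 𝓡 (sv e T) • hat e E +
    ((hat e T).trace - algebraMap ℚ 𝓡 (sv e T)) • (1 - hat e E) := by
  refine two_decomp ht (by rw [← hat_mul hσ T hE, hT T h, hat_smul]) ?_
  rw [← hat_mul hσ E h, ← hat_smul, ← h.sv_transpose hσ, ← transpose_transpose (E * T),
    transpose_mul, hs, hT _ h.transpose, transpose_smul, hs]

omit hσ hs hT in
theorem E_diag (y : Ω) : E y y = 1 / 2 := by
  have := congrArg (·.coeff 0) ht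
  simp [trace_fin_two, hat_coeff, hE.diag _ y] at this
  linarith

omit hσ hE hs hT in
theorem E_add {x : ZMod p} (h : x ≠ 0) : E (e (0, 0)) (e (0, x)) + E (e (1, 0)) (e (1, x)) = 0 := by
  simpa [trace_fin_two, hat_coeff, h, AddMonoidAlgebra.one_def] using congrArg (·.coeff x) ht

variable {a b : Ω} (hab : b ≠ a)
include hab

omit hσ hab in
theorem orb_E : sdeg G a b * E a b = sv e (orbM G ℚ a b) / 2 := by
  have := congrFun (congrFun (hT _ (orbM_inv a b)) a) a
  rw [mul_apply, Matrix.smul_apply, E_diag hE ht, sum_congr rfl fun z _ => by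
    rw [← hs, transpose_apply, hE.orbM_mul], ← sum_mul, orbM_row] at this
  rw [this, smul_eq_mul, mul_one_div]

theorem orb_sq : 2 * (sdeg G a b : ℚ) =
    2 * sv e (orbM G ℚ a b) ^ 2 + ∑ x, (hat e (orbM G ℚ a b)).trace.coeff x ^ 2 := by
  have h := orbM_inv (G := G) (K := ℚ) a b
  have h0 := orbM_diag (G := G) (K := ℚ) hab
  have h1 : ∀ y, (orbM G ℚ a b * (orbM G ℚ a b)ᵀ) y y = sdeg G a b := fun y => by
    rw [mul_apply, ← orbM_row, h.row_sum a y]
    exact sum_congr rfl fun z _ => by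
      rcases orbM_cases (G := G) (K := ℚ) a b y z with e | ⟨e, -⟩ <;> simp [e]
  generalize orbM G ℚ a b = T at *
  have h2 := congrArg (fun X => (hat e T * X).trace.coeff 0) (hat_decomp hσ hE hs hT ht h.transpose)
  simp only [mul_add, Matrix.mul_smul, mul_sub, mul_one, ← hat_mul hσ T hE, hT T h, hat_smul,
    ← hat_mul hσ T h.transpose, h.sv_transpose hσ, trace_add, trace_smul, trace_sub, ht, smul_eq_mul,
    sub_mul, ← Algebra.smul_def, mul_comm _ (algebraMap ℚ 𝓡 _)] at h2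
  have h3 : ((hat e Tᵀ).trace * (hat e T).trace).coeff 0 = ∑ x, (hat e T).trace.coeff x ^ 2 := by
    rw [mul_comm, AddMonoidAlgebra.coeff_mul_apply_left, Finsupp.sum_fintype _ _ (by simp)]
    exact sum_congr rfl fun x _ => by simp [trace_fin_two, hat_coeff, sq, h.shift hσ _ _ 0]
  simp [h3, Algebra.algebraMap_eq_smul_one] at h2
  simp [trace_fin_two, hat_coeff, h0, h1] at h2 ⊢
  linear_combination h2

theorem orb_zero (h : sv e (orbM G ℚ a b) = 0) {x : ZMod p} (hx : x ≠ 0) :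
    E (e (0, 0)) (e (0, x)) = 0 := by
  have h1 := orb_sq hσ hE hs hT ht hab
  have h2 := (orbM_inv (G := G) (K := ℚ) a b).blocks hσ
  have h3 := hat_decomp hσ hE hs hT ht (orbM_inv (G := G) (K := ℚ) a b)
  have h4 := orbM_cases (G := G) (K := ℚ) a b
  have h0 := orbM_diag (G := G) (K := ℚ) hab
  rw [(orbM_inv a b).row_sum _ a, orbM_row] at h2
  have hk : (sdeg G a b : ℚ) ≠ 0 := Nat.cast_ne_zero.2 (sdeg_ne a b)
  generalize orbM G ℚ a b = T at *
  have h5 : ∀ x, T (e (0, 0)) (e (0, x)) = T (e (1, 0)) (e (1, x)) := fun x => by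
    have := (sum_eq_zero_iff_of_nonneg (f := fun x => (hat e T).trace.coeff x *
      (2 - (hat e T).trace.coeff x)) fun x _ => by
        rcases h4 (e (0, 0)) (e (0, x)) with u | ⟨u, -⟩ <;>
        rcases h4 (e (1, 0)) (e (1, x)) with v | ⟨v, -⟩ <;>
        norm_num [trace_fin_two, hat_coeff, u, v]).1 (by
      simp only [mul_sub, sum_sub_distrib, ← sum_mul, ← sq]
      rw [h] at h1 h2
      linear_combination h1 + 2 * h2) x (mem_univ _)
    rcases h4 (e (0, 0)) (e (0, x)) with u | ⟨u, -⟩ <;>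
    rcases h4 (e (1, 0)) (e (1, x)) with v | ⟨v, -⟩ <;>
    norm_num [trace_fin_two, hat_coeff, u, v] at this <;> rw [u, v]
  obtain ⟨ev, hev⟩ := exists_ev (p := p)
  have h6 : (hat e T).trace * (hat e E 1 1 - hat e E 0 0) = 0 := by
    have a := congrFun (congrFun h3 0) 0
    have b := congrFun (congrFun h3 1) 1
    have c : hat e T 0 0 = hat e T 1 1 := AddMonoidAlgebra.ext (Finsupp.ext h5)
    simp [h] at a b
    linear_combination c - a + b
  rcases mul_eq_zero.1 ((map_mul ev _ _).symm.trans ((congrArg ev h6).trans (map_zero _))) with u | u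
  · simp only [hev _ u] at h2
    simp [trace_fin_two, hat_coeff, h0, h, hk.symm] at h2
  · have := hev _ u x
    simp [hat_coeff, E_diag hE ht] at this
    linear_combination (E_add ht hx - this) / 2

omit hab in
theorem sv_ne (h1 : ∀ y, ∑ z, E y z = 0) {a b : Ω} (hab : b ≠ a) : sv e (orbM G ℚ a b) ≠ 0 := by
  classical
  intro h
  have h2 : ∀ x, x ≠ 0 → E (e (0, 0)) (e (0, x)) = 0 := fun x => orb_zero hσ hE hs hT ht hab h
  have h3 : ∀ c, c ≠ a → E a c = 0 := fun c hc => by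
    by_contra h3
    have h4 : (hat e (orbM G ℚ a c)).trace = 0 := AddMonoidAlgebra.ext (Finsupp.ext fun x => by
      by_cases hx : x = 0
      · simp [trace_fin_two, hat_coeff, hx, orbM_diag hc]
      have u := hE.orbM_mul a c (e (0, 0)) (e (0, x))
      have v := hE.orbM_mul a c (e (1, 0)) (e (1, x))
      have w := E_add ht hx
      simp [h2 x hx] at w
      simp [h2 x hx, w, h3] at u v
      simp [trace_fin_two, hat_coeff, u, v])
    have h5 := orb_sq hσ hE hs hT ht hc
    have h6 := (orbM_inv (G := G) (K := ℚ) a c).blocks hσ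
    rw [(orbM_inv a c).row_sum _ a, orbM_row] at h6
    have hk : (sdeg G a c : ℚ) ≠ 0 := Nat.cast_ne_zero.2 (sdeg_ne a c)
    simp [h4] at h5 h6
    exact not_semireg hσ hc (Nat.cast_eq_one.1 (mul_left_cancel₀ hk (by
      linear_combination -h5 - (sdeg G a c - sv e (orbM G ℚ a c)) * h6)))
  have := h1 a
  rw [sum_eq_single a (fun c _ => h3 c) (by simp), E_diag hE ht] at this
  norm_num at this

theorem orb_type (h1 : ∀ y, ∑ z, E y z = 0) : ∃ s : ℤ, s ≠ 0 ∧ s ≠ -1 ∧
    (sdeg G a b : ℤ) = s * (2 * s + 1) ∧ E a b = 1 / (2 * (2 * s + 1)) := by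
  have h2 := sv_ne hσ hE hs hT ht h1 hab
  have h3 := orb_sq hσ hE hs hT ht hab
  have h4 := (orbM_inv (G := G) (K := ℚ) a b).blocks hσ
  have h5 := orb_E hE hs hT ht (a := a) (b := b)
  rw [(orbM_inv a b).row_sum _ a, orbM_row] at h4
  have h6 : E a b ≠ 0 := fun h => h2 (by rw [h] at h5; linarith)
  obtain ⟨s, hs⟩ : ∃ s : ℤ, sv e (orbM G ℚ a b) = s := by
    refine (⊥ : Subring ℚ).sum_mem (t := univ) (fun z _ => mul_mem ?_ ?_) |> Subring.mem_bot.1 |>.imp
      fun _ h => h.symm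
    · rcases orbM_cases (G := G) (K := ℚ) a b (e (0, 0)) z with u | ⟨u, -⟩ <;> simp [u]
    · unfold sgn; split_ifs <;> simp
  rw [sum_congr rfl fun x _ => show _ = (hat e (orbM G ℚ a b)).trace.coeff x by
    by_cases hx : x = 0
    · simp [trace_fin_two, hat_coeff, hx, orbM_diag hab]
    have u := hE.orbM_mul a b (e (0, 0)) (e (0, x))
    have v := hE.orbM_mul a b (e (1, 0)) (e (1, x))
    have w := E_add ht hx
    rcases orbM_cases (G := G) (K := ℚ) a b (e (0, 0)) (e (0, x)) with u' | ⟨u', -⟩ <;>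
    rcases orbM_cases (G := G) (K := ℚ) a b (e (1, 0)) (e (1, x)) with v' | ⟨v', -⟩ <;>
    simp [trace_fin_two, hat_coeff, u', v'] at u v ⊢
    exact absurd (by linarith) h6, h4, hs] at h3
  rw [hs] at h2 h5
  have h7 : (sdeg G a b : ℚ) = s * (2 * s + 1) := by linarith
  have h8 : (2 * s + 1 : ℚ) ≠ 0 := by exact_mod_cast (by omega : 2 * s + 1 ≠ 0)
  refine ⟨s, by exact_mod_cast h2, ?_, by exact_mod_cast h7, ?_⟩
  · rintro rfl
    exact not_semireg hσ hab (by norm_num at h7; simpa using h7)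
  · rw [h7] at h5
    rw [eq_div_iff (mul_ne_zero two_ne_zero h8)]
    exact mul_left_cancel₀ h2 (by linear_combination 2 * h5)

omit hab in
theorem rank_three (h1 : ∀ y, ∑ z, E y z = 0) (h2 : E * E = E) (a : Ω) :
    Nat.card (orbitRel.Quotient (stabilizer G a) Ω) = 3 ∧ ∃ m : ℕ, 0 < m ∧
      p = 2 * m ^ 2 + 2 * m + 1 ∧ ∀ b : Ω, b ≠ a → sdeg G a b = m * (2 * m + 1) ∨
        sdeg G a b = (m + 1) * (2 * m + 1) := by
  classical
  have h3 : ∀ i, ∃ b, b ≠ a ∧ E a b = E (e (i, 0)) (e (i, 1)) := fun i => by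
    obtain ⟨g, rfl⟩ := exists_smul_eq G (e (i, 0)) a
    exact ⟨g • e (i, 1), by simp, hE ..⟩
  obtain ⟨b, hb, e1⟩ := h3 0
  obtain ⟨c, hc, e2⟩ := h3 1
  have h4 : E a b + E a c = 0 := by rw [e1, e2, E_add ht one_ne_zero]
  clear e1 e2
  obtain ⟨s, s0, s1, k1, e1⟩ := orb_type hσ hE hs hT ht hb h1
  obtain ⟨r, r0, r1, k2, e2⟩ := orb_type hσ hE hs hT ht hc h1
  have n1 : ∀ s : ℤ, (2 * s + 1 : ℚ) ≠ 0 := fun s => by exact_mod_cast (by omega : 2 * s + 1 ≠ 0)
  obtain rfl : r = -1 - s := by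
    have := n1 s
    have := n1 r
    rw [e1, e2] at h4
    field_simp at h4
    exact_mod_cast (by linear_combination h4 / 2 : (r : ℚ) = -1 - s)
  have h5 : ∀ z, orbM G ℚ a b a z * orbM G ℚ a c a z = 0 := fun z => by
    rcases orbM_cases (G := G) (K := ℚ) a b a z with u | ⟨-, g, g1, rfl⟩
    · simp [u]
    rcases orbM_cases (G := G) (K := ℚ) a c a (g • b) with u | ⟨-, u, u1, u2⟩
    · simp [u]
    rw [← hE g a b, ← hE u a c, g1, u1, u2, ← g1, hE, e1, ← two_mul] at h4
    simp [n1] at h4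
  have h6 : ∀ z, z ≠ a → orbM G ℚ a b a z + orbM G ℚ a c a z = 1 := fun z hz => by
    have := (sum_eq_zero_iff_of_nonneg (f := fun z => (1 - (if z = a then 1 else 0) -
      orbM G ℚ a b a z - orbM G ℚ a c a z) * (E a z * E a z)) fun z _ => by
        refine mul_nonneg ?_ (mul_self_nonneg _)
        have := h5 z
        split_ifs with h
        · simp [h, orbM_diag hb, orbM_diag hc]
        rcases orbM_cases (G := G) (K := ℚ) a b a z with u | ⟨u, -⟩ <;>
        rcases orbM_cases (G := G) (K := ℚ) a c a z with v | ⟨v, -⟩ <;> simp_all).1 (by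
      have u := congrFun (congrFun h2 a) a
      have v : ∀ b z, orbM G ℚ a b a z * (E a z * E a z) = orbM G ℚ a b a z * (E a b * E a b) :=
        fun b z => MInv.orbM_mul (T := fun y z => E y z * E y z) (fun g y z => by simp [hE g]) ..
      rw [mul_apply, sum_congr rfl fun z _ => by rw [← hs, transpose_apply E z a, hs]] at u
      simp only [sub_mul, sum_sub_distrib, one_mul, u, v, ← sum_mul, orbM_row, ite_mul, zero_mul,
        sum_ite_eq', mem_univ, if_true, E_diag hE ht]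
      rw [eq_neg_of_add_eq_zero_right h4, e1, show (sdeg G a b : ℚ) = s * (2 * s + 1) by exact_mod_cast k1,
        show (sdeg G a c : ℚ) = (1 + s) * (2 * s + 1) by exact_mod_cast k2.trans (by ring)]
      have := n1 s
      field_simp
      ring) z (mem_univ _)
    obtain ⟨t, -, -, -, e3⟩ := orb_type hσ hE hs hT ht hz h1
    simp [hz, e3, n1] at this
    linarith
  have h7 : ∀ z, z ≠ a → z ∈ orbit (stabilizer G a) b ∨ z ∈ orbit (stabilizer G a) c := fun z hz => by
    rcases orbM_cases (G := G) (K := ℚ) a b a z with u | ⟨-, u⟩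
    · exact .inr (mem_orbit_stab.2 (orbM_eq_one.1 (by simpa [u] using h6 z hz)))
    · exact .inl (mem_orbit_stab.2 u)
  have h8 : 2 * (p : ℤ) = 1 + sdeg G a b + sdeg G a c := by
    have := sum_congr (s₁ := univ.erase a) rfl fun z hz => h6 z (ne_of_mem_erase hz)
    rw [sum_add_distrib, sum_erase _ (orbM_diag hb a), sum_erase _ (orbM_diag hc a), orbM_row,
      orbM_row, sum_const, card_erase_of_mem (mem_univ _), card_univ, ← Fintype.card_congr e] at this
    have h := hp.out.pos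
    simp only [Fintype.card_prod, Fintype.card_fin, ZMod.card, nsmul_eq_mul, mul_one] at this
    norm_cast at this
    omega
  refine ⟨?_, ?_⟩
  · rw [← Set.ncard_univ, Set.ncard_eq_three]
    have : ∀ z, z ≠ a → (⟦a⟧ : orbitRel.Quotient (stabilizer G a) Ω) ≠ ⟦z⟧ := fun z hz h => by
      obtain ⟨g, h⟩ := (Quotient.exact h.symm : z ∈ orbit _ a)
      exact hz (h.symm.trans g.2)
    refine ⟨⟦a⟧, ⟦b⟧, ⟦c⟧, this b hb, this c hc, fun h => ?_, (Set.eq_univ_of_forall fun q => ?_).symm⟩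
    · simpa [orbM_self, orbM_eq_one.2 (mem_orbit_stab.1 (Quotient.exact h))] using h5 b
    · obtain ⟨z, rfl⟩ := q.exists_rep
      by_cases hz : z = a
      · simp [hz]
      exact .inr ((h7 z hz).imp (fun h => Quotient.sound h) fun h => Quotient.sound h)
  have h9 : ∀ z y, z ∈ orbit (stabilizer G a) y → sdeg G a z = sdeg G a y := fun z y h => by
    rw [sdeg, orbit_eq_iff.2 h, sdeg]
  rcases lt_or_gt_of_ne s0 with h | h
  · obtain ⟨m, hm⟩ := Int.eq_ofNat_of_zero_le (show 0 ≤ -1 - s by omega)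
    obtain rfl : s = -1 - m := by omega
    refine ⟨m, by omega, by zify; nlinarith, fun z hz => ((h7 z hz).imp (h9 _ _) (h9 _ _)).symm.imp
      (fun h => ?_) fun h => ?_⟩ <;> zify at h ⊢ <;> linarith
  · obtain ⟨m, rfl⟩ := Int.eq_ofNat_of_zero_le h.le
    refine ⟨m, by omega, by zify; nlinarith, fun z hz => ((h7 z hz).imp (h9 _ _) (h9 _ _)).imp
      (fun h => ?_) fun h => ?_⟩ <;> zify at h ⊢ <;> linarith

end

theorem twop [Finite G] (a : Ω) : KT Ω (⊤ : Subgroup G) 2 ∨
    Nat.card (orbitRel.Quotient (stabilizer G a) Ω) = 3 ∧ ∃ m : ℕ, 0 < m ∧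
      p = 2 * m ^ 2 + 2 * m + 1 ∧ ∀ b : Ω, b ≠ a → sdeg G a b = m * (2 * m + 1) ∨
        sdeg G a b = (m + 1) * (2 * m + 1) := by
  classical
  obtain ⟨E, hE, hs, hT, hw, h1⟩ := exists_E hσ
  have h0 : sv e E = 1 := by rw [sv, hw, sgn_zero]
  have h2 : E * E = E := by rw [hT E hE, h0, one_smul]
  obtain ⟨ev, hev⟩ := exists_ev (p := p)
  have hp0 : (p : ℚ) ≠ 0 := Nat.cast_ne_zero.2 hp.out.ne_zero
  rcases two_idem (M := (hat e E).map ev) (by rw [← Matrix.map_mul, ← hat_mul hσ E hE, h2]) with h | h | h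
  · refine (not_block (e := e) fun (g : G) x x' hx => ?_).elim
    have h3 := hE.mulVec g (sgn e)
    rw [hw] at h3
    rw [← hx, ← congrFun h3, ← congrFun h3, mv_apply, mv_apply, sum_e e, sum_e e]
    have : ∀ j x y, E (e (0, x)) (e (j, y)) = E (e (0, 0)) (e (j, 0)) := fun j x y => by
      rw [hE.shift hσ]
      exact hev _ (congrFun (congrFun h 0) j) _
    simp only [this]
  · have h3 : ∀ i j x, E (e (i, 0)) (e (j, x)) = (if i = j ∧ x = 0 then 1 else 0) - (2 * p : ℚ)⁻¹ := by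
      intro i
      have h3 : ∀ j x, E (e (i, 0)) (e (j, x)) = (if i = j ∧ x = 0 then 1 else 0) +
          (E (e (i, 0)) (e (j, 0)) - if i = j then 1 else 0) := fun j x => by
        have := hev (hat e E i j - (1 : Matrix (Fin 2) (Fin 2) 𝓡) i j) (by
          rw [map_sub, ← map_apply (f := ev) (M := hat e E), h]
          simp [one_apply, apply_ite ev]) x
        by_cases hij : i = j <;> by_cases hx : x = 0 <;>
          simp [hat_coeff, AddMonoidAlgebra.one_def, one_apply, hij, hx] at this ⊢ <;> exact this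
      have u := h1 (e (i, 0))
      have v := congrFun hw (e (i, 0))
      rw [mv_apply] at v
      rw [sum_e e] at u v
      simp only [sgn_zero, sgn_one, mul_one, mul_neg, sum_neg_distrib] at v
      rw [sum_congr rfl fun x _ => h3 0 x, sum_congr rfl fun x _ => h3 1 x] at u v
      intro j x
      rw [h3]
      fin_cases i <;> fin_cases j <;> simp [sum_add_distrib] at u v ⊢ <;> field_simp <;> linarith
    have h4 : ∀ y z, E y z = (if y = z then 1 else 0) - (2 * p : ℚ)⁻¹ := fun y z => by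
      obtain ⟨⟨i, y⟩, rfl⟩ := e.surjective y
      obtain ⟨⟨j, z⟩, rfl⟩ := e.surjective z
      rw [hE.shift hσ, h3]
      simp [neg_add_eq_zero]
    refine .inl (kt_one_top.two_of a fun b c hb hc => ?_)
    have h5 := fun z => congrFun (congrFun (hT _ (orbM_inv a b)) a) z
    simp only [mul_apply, h4, mul_sub, sum_sub_distrib, mul_ite, mul_one, mul_zero, sum_ite_eq',
      mem_univ, if_true, Matrix.smul_apply] at h5
    have u := h5 b
    have v := h5 c
    rw [if_neg hb.symm, orbM_self] at u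
    rw [if_neg hc.symm, ← u, sub_left_inj] at v
    exact (orbM_eq_one.1 v).imp fun g h => ⟨trivial, h⟩
  · refine .inr (rank_three hσ hE hs hT ?_ h1 h2 a)
    have h3 := hev ((hat e E).trace - 1) (by rw [map_sub, AddMonoidHom.map_trace ev, h]; simp)
    have h4 := hE.blocks hσ
    have h5 : ∑ x, ((hat e E).trace - 1).coeff x = 0 := by
      simp [sum_sub_distrib, h4, h1, h0, AddMonoidAlgebra.one_def]
    simp only [h3, sum_const, card_univ, ZMod.card, nsmul_eq_mul, mul_eq_zero, hp0, false_or] at h5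
    exact sub_eq_zero.1 (AddMonoidAlgebra.ext (Finsupp.ext fun x => (h3 x).trans h5))

end twop

end Cfsg.Agent.Perm
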