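import Cfsg.Agent.Class.Tab
import Cfsg.Agent.Class.Dick2

/-! `SL(2,5)`: finite computations and the icosian table. -/

set_option autoImplicit false

namespace Cfsg.Agent.Perm.Zs

open Cfsg.Agent.Class Matrix
open scoped MatrixGroups

/-- `SL(2,5)`. -/
abbrev S5 := SL(2, ZMod 5)

def sx : S5 := ⟨!![0, 4; 1, 4], by decide⟩
def sy : S5 := ⟨!![0, 1; 4, 4], by decide⟩

def vL (v : V8) : V8 := (-v.2.1, v.1 - v.2.1, -v.2.2.2, v.2.2.1 - v.2.2.2)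
def gm (z : ℤ × ℤ) : ℤ × ℤ := (z.2, z.1 + z.2)
def vR (v : V8) : V8 :=
  (gm v.2.1 - v.2.1 - v.2.2.1 + v.2.2.2, v.2.2.2 - v.2.1, v.1 - v.2.1 - v.2.2.1 + gm v.2.2.2, -v.2.1)

def tabL : List (ℕ × V8) := [
  (45, (0, 0), (1, -1), (-1, 1), (0, 0)), (46, (1, 0), (1, 0), (0, 0), (0, 0)),
  (47, (0, -1), (-1, 0), (1, -1), (0, 0)), (48, (0, 1), (-1, 1), (1, 0), (0, 0)),
  (49, (-1, 0), (0, 0), (-1, 0), (0, 0)), (60, (1, -1), (1, 0), (1, 0), (2, 0)),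
  (61, (-1, 0), (-1, 0), (-1, 0), (-1, 1)), (62, (0, 0), (0, -1), (0, -1), (0, -1)),
  (63, (1, 0), (0, 0), (0, 0), (0, -1)), (64, (-1, 1), (0, 1), (0, 1), (-1, 1)),
  (90, (-1, 1), (-1, 0), (-1, 0), (-2, 0)), (91, (1, -1), (0, -1), (0, -1), (1, -1)),
  (92, (-1, 0), (0, 0), (0, 0), (0, 1)), (93, (0, 0), (0, 1), (0, 1), (0, 1)),
  (94, (1, 0), (1, 0), (1, 0), (1, -1)), (105, (0, 0), (-1, 1), (1, -1), (0, 0)),
  (106, (1, 0), (0, 0), (1, 0), (0, 0)), (107, (0, -1), (1, -1), (-1, 0), (0, 0)),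
  (108, (0, 1), (1, 0), (-1, 1), (0, 0)), (109, (-1, 0), (-1, 0), (0, 0), (0, 0)),
  (126, (1, 0), (0, 0), (0, 0), (0, 0)), (131, (1, -1), (0, 0), (1, -1), (1, -1)),
  (136, (0, 0), (0, 0), (1, 0), (1, 0)), (141, (-1, 1), (0, 0), (-1, 0), (-1, 0)),
  (146, (-1, 0), (0, 0), (-1, 1), (-1, 1)), (151, (1, -1), (1, -1), (0, 0), (1, -1)),
  (157, (1, 0), (1, 0), (1, 0), (1, 0)), (163, (-1, 0), (-1, 0), (0, -1), (-1, 0)),
  (169, (-1, 1), (-1, 1), (0, 1), (-1, 1)), (170, (0, 0), (0, 0), (-1, 0), (0, 0)),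
  (176, (0, 0), (1, 0), (0, 0), (1, 0)), (183, (-1, 0), (0, -1), (-1, 0), (-1, 0)),
  (185, (0, 1), (0, 1), (0, 1), (-1, 1)), (192, (0, -1), (-1, 0), (0, -1), (0, 0)),
  (199, (1, 0), (0, 0), (1, 0), (1, -1)), (201, (-1, 1), (-1, 0), (0, 0), (-1, 0)),
  (209, (-1, 1), (0, 1), (-1, 1), (-1, 1)), (212, (0, -1), (0, -1), (-1, 0), (0, 0)),
  (215, (2, 0), (1, 0), (1, 0), (1, -1)), (223, (0, -1), (0, 0), (1, -1), (1, 0)),
  (226, (-1, 0), (-1, 1), (0, 0), (-1, 1)), (230, (0, 0), (-1, 0), (0, 0), (0, 0)),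
  (239, (1, 0), (1, 0), (0, 0), (1, -1)), (243, (0, -1), (1, -1), (0, 0), (1, 0)),
  (247, (0, 1), (0, 0), (0, 0), (-1, 0)), (253, (0, 1), (0, 1), (0, 1), (0, 0)),
  (258, (0, 0), (0, 1), (1, 0), (0, 1)), (263, (0, -1), (1, -1), (-1, 0), (1, 0)),
  (268, (-1, 0), (-2, 0), (0, -1), (-1, 0)), (273, (1, 0), (1, -1), (0, 0), (0, -1)),
  (278, (0, 0), (1, 0), (0, 1), (0, 1)), (281, (0, 0), (0, 0), (0, 0), (1, 0)),
  (289, (0, 0), (-1, 0), (0, -1), (-1, 0)), (292, (0, 0), (1, -1), (-1, 0), (0, -1)),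
  (295, (0, 0), (-1, 1), (1, 0), (0, 0)), (303, (0, -1), (-1, 0), (1, -1), (1, 0)),
  (309, (0, 0), (0, -1), (-1, 0), (-1, 0)), (310, (0, 1), (0, 0), (0, 0), (0, -1)),
  (316, (1, 0), (0, 1), (1, 0), (0, 0)), (322, (-1, 0), (1, 0), (-1, 1), (0, 1)),
  (328, (-1, 0), (0, -1), (-2, 0), (-1, 0)), (332, (0, 0), (-1, 0), (1, -1), (0, -1)),
  (336, (1, 0), (1, 0), (0, 1), (0, 0)), (340, (-1, 1), (0, 1), (0, 1), (0, 1)),
  (349, (1, -1), (0, 0), (1, -1), (1, 0)), (353, (1, 0), (0, 0), (1, -1), (0, -1)),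
  (355, (0, 0), (1, 0), (-1, 1), (0, 0)), (362, (-1, 0), (-1, 1), (1, 0), (0, 1)),
  (369, (1, -1), (1, -1), (0, 0), (1, 0)), (371, (-1, 1), (-1, 0), (-1, 0), (-1, 0)),
  (377, (0, -1), (0, -1), (0, -1), (0, 0)), (382, (-1, 0), (-1, 1), (0, 0), (0, 1)),
  (387, (1, 0), (2, 0), (0, 1), (1, 0)), (392, (0, 1), (-1, 1), (1, 0), (-1, 0)),
  (397, (0, 0), (0, -1), (-1, 0), (0, -1)), (402, (-1, 0), (0, 0), (-1, 1), (0, 1)),
  (409, (1, -1), (1, 0), (1, 0), (1, 0)), (411, (-1, 1), (-1, 1), (0, 0), (-1, 0)),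
  (418, (1, 0), (1, -1), (-1, 0), (0, -1)), (420, (0, 0), (-1, 0), (1, -1), (0, 0)),
  (427, (1, 0), (0, 1), (2, 0), (1, 0)), (431, (-1, 1), (0, 0), (-1, 1), (-1, 0)),
  (435, (1, -1), (0, -1), (0, -1), (0, -1)), (444, (-1, 0), (-1, 0), (0, -1), (0, 0)),
  (448, (0, 0), (1, 0), (-1, 1), (0, 1)), (452, (0, 1), (1, 0), (-1, 1), (-1, 0)),
  (458, (1, 0), (-1, 0), (1, -1), (0, -1)), (464, (-1, 0), (0, -1), (-1, 0), (0, 0)),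
  (465, (0, -1), (0, 0), (0, 0), (0, 1)), (471, (0, 0), (0, 1), (1, 0), (1, 0)),
  (477, (0, 0), (-1, 0), (0, -1), (0, -1)), (480, (0, 0), (1, -1), (-1, 0), (0, 0)),
  (488, (0, 0), (-1, 1), (1, 0), (0, 1)), (491, (0, 0), (1, 0), (0, 1), (1, 0)),
  (499, (0, 0), (0, 0), (0, 0), (-1, 0)), (504, (-1, 0), (0, 0), (0, 0), (0, 0)),
  (509, (1, 0), (0, 0), (1, -1), (1, -1)), (514, (1, -1), (0, 0), (1, 0), (1, 0)),
  (519, (0, 0), (0, 0), (-1, 0), (-1, 0)), (524, (-1, 1), (0, 0), (-1, 1), (-1, 1)),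
  (529, (1, 0), (1, -1), (0, 0), (1, -1)), (533, (0, -1), (0, 0), (0, 0), (1, 0)),
  (537, (0, 1), (-1, 1), (0, 0), (-1, 0)), (541, (-1, 0), (-1, 0), (0, 0), (-1, 1)),
  (545, (0, 0), (1, 0), (0, 0), (0, 0)), (554, (1, -1), (1, 0), (0, 0), (1, 0)),
  (557, (0, 1), (0, 0), (-1, 1), (-1, 0)), (560, (-2, 0), (-1, 0), (-1, 0), (-1, 1)),
  (568, (0, 1), (0, 1), (1, 0), (0, 0)), (571, (1, -1), (0, -1), (1, -1), (1, -1)),
  (579, (0, 0), (-1, 0), (0, 0), (-1, 0)), (581, (-1, 0), (0, 0), (-1, 0), (-1, 1)),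
  (588, (0, 1), (1, 0), (0, 1), (0, 0)), (590, (0, -1), (0, -1), (0, -1), (1, -1)),
  (597, (1, 0), (0, 1), (1, 0), (1, 0)), (604, (-1, 1), (-1, 1), (0, 0), (-1, 1)),
  (605, (0, 0), (0, 0), (1, 0), (0, 0)), (611, (1, -1), (1, -1), (0, -1), (1, -1)),
  (617, (1, 0), (1, 0), (0, 1), (1, 0)), (623, (-1, 0), (-1, 0), (-1, 0), (-1, 0))]

def tab (g : S5) : V8 :=
  (tabL.lookup ((g.1 0 0).val + 5 * (g.1 0 1).val + 25 * (g.1 1 0).val + 125 * (g.1 1 1).val)).getD 0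

theorem s5_all {P : S5 → Prop}
    (h : ∀ a b c d : ZMod 5, ∀ h : (!![a, b; c, d]).det = 1, P ⟨!![a, b; c, d], h⟩) (g : S5) : P g := by
  have e : g = ⟨!![g.1 0 0, g.1 0 1; g.1 1 0, g.1 1 1], by rw [← Matrix.eta_fin_two g.1]; exact g.2⟩ :=
    Subtype.ext (Matrix.eta_fin_two g.1)
  rw [e]; exact h _ _ _ _ _

theorem tab_x : ∀ g, vL (tab g) = tab (sx * g) := s5_all (by decide +kernel)
theorem tab_y : ∀ g, vR (tab g) = tab (sy * g) := s5_all (by decide +kernel)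

abbrev M4 := ZMod 5 × ZMod 5 × ZMod 5 × ZMod 5

def m4 (u v : M4) : M4 :=
  (u.1 * v.1 + u.2.1 * v.2.2.1, u.1 * v.2.1 + u.2.1 * v.2.2.2,
    u.2.2.1 * v.1 + u.2.2.2 * v.2.2.1, u.2.2.1 * v.2.1 + u.2.2.2 * v.2.2.2)
def i4 (u : M4) : M4 := (u.2.2.2, -u.2.1, -u.2.2.1, u.1)
def d4 (u : M4) : ZMod 5 := u.1 * u.2.2.2 - u.2.1 * u.2.2.1
def e4 (g : S5) : M4 := (g.1 0 0, g.1 0 1, g.1 1 0, g.1 1 1)

theorem e4_inj {g h : S5} : g = h ↔ e4 g = e4 h := by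
  refine ⟨fun e => e ▸ rfl, fun e => Subtype.ext ?_⟩
  simp only [e4, Prod.mk.injEq] at e
  rw [Matrix.eta_fin_two g.1, Matrix.eta_fin_two h.1, e.1, e.2.1, e.2.2.1, e.2.2.2]

theorem e4_mul (g h : S5) : e4 (g * h) = m4 (e4 g) (e4 h) := by
  simp [e4, m4, Matrix.mul_apply, Fin.sum_univ_two]

theorem e4_inv (g : S5) : e4 g⁻¹ = i4 (e4 g) := by
  simp [e4, i4, SpecialLinearGroup.coe_inv, Matrix.adjugate_fin_two]

theorem d4_e4 (g : S5) : d4 (e4 g) = 1 := by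
  have := g.2
  rw [Matrix.det_fin_two] at this
  exact this

theorem e4_surj {u : M4} (h : d4 u = 1) : ∃ g, e4 g = u :=
  ⟨⟨!![u.1, u.2.1; u.2.2.1, u.2.2.2], by rw [Matrix.det_fin_two_of]; exact h⟩, rfl⟩

theorem e4_one : e4 1 = (1, 0, 0, 1) := by decide
theorem e4_neg_one : e4 (-1) = (4, 0, 0, 4) := by decide
theorem e4_sx : e4 sx = (0, 4, 1, 4) := by decide
theorem e4_sy : e4 sy = (0, 1, 4, 4) := by decide

def L4 : List M4 := (tabL.map fun r =>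
  (((r.1 % 5 : ℕ) : ZMod 5), ((r.1 / 5 % 5 : ℕ) : ZMod 5), ((r.1 / 25 % 5 : ℕ) : ZMod 5),
    ((r.1 / 125 : ℕ) : ZMod 5)))

theorem mem_L4 : ∀ u : M4, u ∈ L4 ↔ d4 u = 1 := by decide +kernel

theorem pairs4 : ∀ u ∈ L4, m4 u (m4 u u) = (1, 0, 0, 1) → ∀ v ∈ L4, m4 v (m4 v v) = (1, 0, 0, 1) →
    m4 (m4 (m4 u v) (m4 u v)) (m4 (m4 (m4 u v) (m4 u v)) (m4 u v)) = (4, 0, 0, 4) →
    ∃ h ∈ L4, m4 h (0, 4, 1, 4) = m4 u h ∧
      (m4 h (0, 1, 4, 4) = m4 v h ∨ m4 h (i4 (0, 1, 4, 4)) = m4 v h) := by decide +kernel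

/-- two orbits on golden pairs -/
theorem s5_pairs (u v : S5) (hu : u ^ 3 = 1) (hv : v ^ 3 = 1) (h : (u * v) ^ 5 = -1) :
    ∃ h : S5, u = h * sx * h⁻¹ ∧ (v = h * sy * h⁻¹ ∨ v = h * sy⁻¹ * h⁻¹) := by
  obtain ⟨w, h1, h2, h3⟩ := pairs4 (e4 u) ((mem_L4 _).2 (d4_e4 u))
    (by rw [← e4_mul, ← e4_mul, ← e4_one, ← hu, pow_three]) (e4 v) ((mem_L4 _).2 (d4_e4 v))
    (by rw [← e4_mul, ← e4_mul, ← e4_one, ← hv, pow_three])
    (by simp only [← e4_mul]; rw [← e4_neg_one, ← h]; congr 1; simp only [pow_succ, pow_zero]; group)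
  obtain ⟨g, rfl⟩ := e4_surj ((mem_L4 _).1 h1)
  rw [← e4_sx, ← e4_mul, ← e4_mul, ← e4_inj] at h2
  rw [← e4_sy, ← e4_inv, ← e4_mul, ← e4_mul, ← e4_mul, ← e4_inj, ← e4_inj] at h3
  refine ⟨g, by rw [h2]; group, h3.imp (fun e => by rw [e]; group) (fun e => by rw [e]; group)⟩

theorem ker4 : ∀ u ∈ L4, u = (1, 0, 0, 1) ∨ u = (4, 0, 0, 4) ∨ ∃ h ∈ L4,
    m4 (m4 (m4 u h) (m4 (i4 u) (i4 h))) (m4 (m4 u h) (m4 (i4 u) (i4 h))) = (4, 0, 0, 4) ∨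
    m4 (m4 (m4 u h) (m4 (i4 u) (i4 h))) (m4 (m4 (m4 u h) (m4 (i4 u) (i4 h)))
      (m4 (m4 u h) (m4 (i4 u) (i4 h)))) = (4, 0, 0, 4) := by decide +kernel

theorem s5_ker (N : Subgroup S5) [hN : N.Normal] (h : -1 ∉ N) : N = ⊥ := by
  refine (Subgroup.eq_bot_iff_forall _).2 fun u hu => ?_
  rcases ker4 (e4 u) ((mem_L4 _).2 (d4_e4 u)) with e | e | ⟨w, h1, e⟩
  · exact e4_inj.2 e
  · exact absurd ((e4_inj.2 (e.trans e4_neg_one.symm)) ▸ hu) h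
  · obtain ⟨g, rfl⟩ := e4_surj ((mem_L4 _).1 h1)
    have hc : u * g * (u⁻¹ * g⁻¹) ∈ N := by
      have := mul_mem hu (hN.conj_mem _ (inv_mem hu) g)
      simpa only [mul_assoc] using this
    simp only [← e4_inv, ← e4_mul, ← e4_neg_one, ← e4_inj] at e
    refine absurd ?_ h
    rcases e with e | e <;> rw [← e]
    · exact mul_mem hc hc
    · exact mul_mem hc (mul_mem hc hc)

instance fact5 : Fact (Nat.Prime 5) := ⟨by norm_num⟩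

theorem s5_gen : Subgroup.closure {sx, sy} = ⊤ := by
  have hx : sx ∈ Subgroup.closure {sx, sy} := Subgroup.subset_closure (by simp)
  have hy : sy ∈ Subgroup.closure {sx, sy} := Subgroup.subset_closure (by simp)
  have h1 : slU (1 : ZMod 5) ∈ Subgroup.closure {sx, sy} := by
    have : (slU (1 : ZMod 5) : S5) = sy⁻¹ * sx * sy⁻¹ * sx := by
      rw [e4_inj, e4_mul, e4_mul, e4_mul, e4_inv, e4_sx, e4_sy]
      exact (show e4 (slU (1 : ZMod 5)) = (1, 1, 0, 1) from rfl).trans (by decide)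
    rw [this]; exact mul_mem (mul_mem (mul_mem (inv_mem hy) hx) (inv_mem hy)) hx
  have h2 : slL (1 : ZMod 5) ∈ Subgroup.closure {sx, sy} := by
    have : (slL (1 : ZMod 5) : S5) = sy * sx⁻¹ * sy * sx⁻¹ := by
      rw [e4_inj, e4_mul, e4_mul, e4_mul, e4_inv, e4_sx, e4_sy]
      exact (show e4 (slL (1 : ZMod 5)) = (1, 0, 1, 1) from rfl).trans (by decide)
    rw [this]; exact mul_mem (mul_mem (mul_mem hy (inv_mem hx)) hy) (inv_mem hx)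
  refine SL2_eq_top _ (fun a => ?_) fun a => ?_
  · have := pow_mem h1 a.val
    rwa [slU_pow, mul_one, ZMod.natCast_zmod_val] at this
  · have := pow_mem h2 a.val
    rwa [slL_pow, mul_one, ZMod.natCast_zmod_val] at this

end Cfsg.Agent.Perm.Zs
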