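import Cfsg.Agent.Perm.Zs1

/-! Ring identities for elements of order three in a fixed-point-free group. -/

set_option autoImplicit false

namespace Cfsg.Agent.Perm.Zs

open Cfsg.Agent.Class

section ring
variable {R : Type*} [Ring R]

def T (x y : R) : R := x * y + y * x + x + y + 1

theorem as' {x y p : R} (h : x * y = p) (u : R) : x * (y * u) = p * u := by rw [← mul_assoc, h]

theorem T_swap {x y s : R} (h : T x y = s) : y * x = s - x * y - x - y - 1 := by
  rw [← h, T]; noncomm_ring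

theorem T_comm (x y : R) : T x y = T y x := by unfold T; abel

theorem r_sum {w a b : R} (hw : w * w = -w - 1) (ha : a * a = -a - 1) (hb : b * b = -b - 1)
    (h1 : T w a = 1) (h2 : T w b = 1) :
    T a b + T (w * a * (-1 - w)) b + T ((-1 - w) * a * w) b = 1 ∧
    T (w * a * (-1 - w)) b * T ((-1 - w) * a * w) b = T a b * T a b - T a b - 1 ∧
    T a (w * a * (-1 - w)) = 1 ∧ T a ((-1 - w) * a * w) = 1 := by
  have h3 := T_swap h1
  have h4 := T_swap h2
  have e1 : w * a * (-1 - w) = -1 - a - w - w * a := by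
    noncomm_ring [hw, as' hw, h3, as' h3]
  have e2 : (-1 - w) * a * w = w * a - 1 := by
    noncomm_ring [hw, as' hw, h3, as' h3]
  rw [e1, e2]
  unfold T
  refine ⟨?_, ?_, ?_, ?_⟩ <;>
    noncomm_ring [hw, as' hw, h3, as' h3, ha, as' ha, hb, as' hb, h4, as' h4]

theorem r_cfg {v c d e : R} (hv : v * v = -v - 1) (hc : c * c = -c - 1) (hd : d * d = -d - 1)
    (he : e * e = -e - 1) (h1 : T v c = 0) (h2 : T v d = 0) (h3 : T v e = 0) (h4 : T c d = 0)
    (h5 : T c e = 0) :
    (v - c) * (v - c) = -1 ∧ v * (-1 - c) * v = v - c ∧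
    (v - c) * (d * e - e * d) = (d * e - e * d) * (v - c) ∧
    (v - c) * (v + c + 1) + (v + c + 1) * (v - c) = 0 ∧
    (d * e - e * d) * (d * e - e * d) = T d e * T d e - T d e - 1 - 1 ∧
    (d * e - e * d) * (v + c + 1) + (v + c + 1) * (d * e - e * d) =
      2 * ((v + c + 1) * (d * e - e * d) - (d - e)) ∧
    (v + c + 1) * (v + c + 1) = -1 - 1 ∧ (d - e) * (d - e) = -1 - T d e := by
  have k1 := T_swap h1
  have k2 := T_swap h2
  have k3 := T_swap h3
  have k4 := T_swap h4
  have k5 := T_swap h5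
  unfold T
  refine ⟨?_, ?_, ?_, ?_, ?_, ?_, ?_, ?_⟩ <;>
    noncomm_ring [hv, as' hv, hc, as' hc, hd, as' hd, he, as' he, k1, as' k1, k2, as' k2, k3, as' k3,
      k4, as' k4, k5, as' k5]

theorem r_zero {v c d e : R} (hv : v * v = -v - 1) (hc : c * c = -c - 1) (hd : d * d = -d - 1)
    (he : e * e = -e - 1) (h1 : T v c = 0) (h2 : T v d = 0) (h3 : T v e = 0) (h4 : T c d = 0)
    (h5 : T c e = 0) (h6 : T d e = 0) {E F : R} (hE : E = (-1 - v) * c * v)
    (hF : F = d * e * (-1 - d)) :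
    E * F = F * E ∧ (v - c) * (E + E + 1) + (E + E + 1) * (v - c) = -1 - 1 ∧
    (v - c) * (F + F + 1) + (F + F + 1) * (v - c) = -2 * ((v - c) * (d * e - e * d)) := by
  have k1 := T_swap h1
  have k2 := T_swap h2
  have k3 := T_swap h3
  have k4 := T_swap h4
  have k5 := T_swap h5
  have k6 := T_swap h6
  have e1 : E = v * c + v := by
    rw [hE]; noncomm_ring [hv, as' hv, k1, as' k1]
  have e2 : F = -1 - e - d * e := by
    rw [hF]; noncomm_ring [hd, as' hd, k6, as' k6]
  rw [e1, e2]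
  refine ⟨?_, ?_, ?_⟩ <;>
    noncomm_ring [hv, as' hv, hc, as' hc, hd, as' hd, he, as' he, k1, as' k1, k2, as' k2, k3, as' k3,
      k4, as' k4, k5, as' k5, k6, as' k6]

/-- evaluation of icosian coordinates -/
def ev (t a b : R) (v : V8) : R :=
  v.1.1 • (1 : R) + v.1.2 • t + v.2.1.1 • a + v.2.1.2 • (t * a) + v.2.2.1.1 • b + v.2.2.1.2 • (t * b)
    + v.2.2.2.1 • (a * b) + v.2.2.2.2 • (t * (a * b))

theorem ev_add (t a b : R) (u v : V8) : ev t a b (u + v) = ev t a b u + ev t a b v := by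
  simp only [ev, Prod.fst_add, Prod.snd_add]; module

theorem T_left {a b : R} (ha : a * a = -a - 1) : a * T a b = T a b * a := by
  unfold T; noncomm_ring [ha, as' ha]

theorem ev_L {a b t : R} (ha : a * a = -a - 1) (h : T a b = t) (v : V8) :
    a * ev t a b v = ev t a b (vL v) := by
  have h1 : a * t = t * a := h ▸ T_left ha
  simp only [ev, vL, mul_add, mul_smul_comm, mul_one, h1, as' h1, ha, as' ha, mul_assoc, mul_sub,
    sub_mul, mul_neg, neg_mul, one_mul, Prod.fst_neg, Prod.snd_neg, Prod.fst_sub, Prod.snd_sub]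
  module

theorem ev_R {a b t : R} (hb : b * b = -b - 1) (h : T a b = t) (ht : t * t = t + 1) (v : V8) :
    b * ev t a b v = ev t a b (vR v) := by
  have h1 : b * t = t * b := by rw [← h, T_comm]; exact T_left hb
  have h2 := T_swap h
  simp only [ev, vR, gm, mul_add, add_mul, mul_smul_comm, mul_one, h1, as' h1, hb, as' hb, h2, as' h2,
    ht, as' ht, mul_assoc, mul_sub, sub_mul, mul_neg, neg_mul, one_mul, Prod.fst_neg, Prod.snd_neg,
    Prod.fst_sub, Prod.snd_sub, Prod.fst_add, Prod.snd_add]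
  module

end ring

variable {G R : Type*} [Group G] [Ring R]

/-- The setting: a fixed-point-free representation with an involution. -/
structure ZS (ρ : G →* R) (z : G) : Prop where
  unit : ∀ g, g ≠ 1 → IsUnit (ρ g - 1)
  nt : (1 : R) ≠ 0
  z1 : z ≠ 1
  zz : z * z = 1
  p3 : ∀ a b : G, a ^ 3 = 1 → b ^ 3 = 1 → (a * b) ^ 4 = 1 ∨ (a * b) ^ 6 = 1 ∨ (a * b) ^ 10 = 1

def D3 (a : G) : Prop := a ^ 3 = 1 ∧ a ≠ 1

theorem D3.inv {a : G} (h : D3 a) : D3 a⁻¹ := ⟨by rw [inv_pow, h.1, inv_one], inv_ne_one.2 h.2⟩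

theorem D3.conj {a : G} (h : D3 a) (g : G) : D3 (g * a * g⁻¹) :=
  ⟨by rw [conj_pow, h.1]; group, fun e => h.2 (by
    have : a = g⁻¹ * (g * a * g⁻¹) * g := by group
    rw [this, e]; group)⟩

theorem D3.sq {a : G} (h : D3 a) : a * a = a⁻¹ :=
  eq_inv_of_mul_eq_one_left (by rw [← h.1, pow_three'])

def tau (ρ : G →* R) (a b : G) : R := ρ (a * b) + ρ (a * b)⁻¹

theorem tau_conj (ρ : G →* R) (a b g : G) :
    tau ρ (g * a * g⁻¹) (g * b * g⁻¹) = ρ g * tau ρ a b * ρ g⁻¹ := by
  simp only [tau, mul_add, add_mul, ← map_mul]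
  congr 2 <;> group

theorem rho_inv (ρ : G →* R) (g : G) : ρ g * ρ g⁻¹ = 1 := by rw [← map_mul, mul_inv_cancel, map_one]
theorem rho_inv' (ρ : G →* R) (g : G) : ρ g⁻¹ * ρ g = 1 := by rw [← map_mul, inv_mul_cancel, map_one]

namespace ZS
variable {ρ : G →* R} {z : G} (h : ZS ρ z)
include h

theorem canc {g : G} (hg : g ≠ 1) {x : R} (e : (ρ g - 1) * x = 0) : x = 0 :=
  (h.unit g hg).mul_right_eq_zero.1 e

theorem eq_one {g : G} (e : ρ g = 1) : g = 1 := by
  by_contra hg
  exact h.nt (h.canc hg (by rw [e, sub_self, zero_mul]))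

theorem inj {g k : G} (e : ρ g = ρ k) : g = k :=
  mul_inv_eq_one.1 (h.eq_one (by rw [map_mul, e, rho_inv]))

theorem neg_of_sq {g : G} (hg : g ≠ 1) (e : g * g = 1) : ρ g = -1 := by
  refine eq_neg_of_add_eq_zero_left (h.canc hg ?_)
  have : ρ g * ρ g = 1 := by rw [← map_mul, e, map_one]
  noncomm_ring [this]

theorem rz : ρ z = -1 := h.neg_of_sq h.z1 h.zz

theorem sq_cases {g : G} (e : g * g = 1) : g = 1 ∨ g = z :=
  (em _).imp_right fun hg => h.inj ((h.neg_of_sq hg e).trans h.rz.symm)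

theorem two {x : R} (e : x + x = 0) : x = 0 :=
  h.canc h.z1 (by rw [h.rz]; linear_combination (norm := noncomm_ring) -e)

theorem ne2 : (1 : R) + 1 ≠ 0 := fun e => h.nt (h.two e)

theorem z_comm (g : G) : g * z = z * g := h.inj (by simp [h.rz])

theorem cu {a : G} (ha : D3 a) : ρ a * ρ a = -ρ a - 1 := by
  have e : ρ a * (ρ a * ρ a) = 1 := by rw [← map_mul, ← map_mul, ← pow_three, ha.1, map_one]
  have : ρ a * ρ a + ρ a + 1 = 0 := h.canc ha.2 (by noncomm_ring [e])
  linear_combination (norm := noncomm_ring) this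

theorem cu_inv {a : G} (ha : D3 a) : ρ a⁻¹ = -1 - ρ a := by
  rw [← ha.sq, map_mul, h.cu ha]; abel

theorem ne3 {a : G} (ha : D3 a) : (1 : R) + 1 + 1 ≠ 0 := fun e => h.nt <|
  h.canc ha.inv.2 <| h.canc ha.2 <| by
    rw [h.cu_inv ha, ← e]; noncomm_ring [h.cu ha]

theorem tau_eq {a b : G} (ha : D3 a) (hb : D3 b) : tau ρ a b = T (ρ a) (ρ b) := by
  rw [tau, mul_inv_rev, map_mul, map_mul, h.cu_inv ha, h.cu_inv hb, T]; noncomm_ring

theorem tau_comm {a b : G} (ha : D3 a) (hb : D3 b) : tau ρ a b = tau ρ b a := by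
  rw [h.tau_eq ha hb, h.tau_eq hb ha, T_comm]

theorem tau_inv {a b : G} (ha : D3 a) (hb : D3 b) : tau ρ a b⁻¹ = 1 - tau ρ a b := by
  rw [h.tau_eq ha hb, h.tau_eq ha hb.inv, h.cu_inv hb, T, T]; noncomm_ring

theorem tau_two {a b : G} (e : tau ρ a b = 1 + 1) : a * b = 1 := by
  by_contra hg
  have h1 := rho_inv ρ (a * b)
  have : ρ (a * b) - 1 = 0 := h.canc hg (by
    unfold tau at e
    linear_combination (norm := noncomm_ring) ρ (a * b) * e - h1)
  exact hg (h.eq_one (sub_eq_zero.1 this))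

theorem tau_neg {a b : G} (ha : D3 a) (hb : D3 b) (e : tau ρ a b = -1) : a = b :=
  mul_inv_eq_one.1 (h.tau_two (by rw [h.tau_inv ha hb, e, sub_neg_eq_add]))

theorem tau_self {a : G} (ha : D3 a) : tau ρ a a = -1 := by
  rw [h.tau_eq ha ha, T]; noncomm_ring [h.cu ha]

theorem ord_cases {g : G} (e : g ^ 4 = 1 ∨ g ^ 6 = 1 ∨ g ^ 10 = 1) {t : R} (ht : t = ρ g + ρ g⁻¹) :
    g = 1 ∨ g = z ∨ t = -1 ∨ t = 0 ∨ t = 1 ∨ t * t = t + 1 ∨ t * t = 1 - t := by
  by_cases h1 : g = 1
  · exact Or.inl h1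
  by_cases h2 : g * g = 1
  · exact Or.inr (Or.inl ((h.sq_cases h2).resolve_left h1))
  obtain ⟨x, hx⟩ : ∃ x, x = ρ g := ⟨_, rfl⟩
  obtain ⟨y, hy⟩ : ∃ y, y = ρ g⁻¹ := ⟨_, rfl⟩
  have k1 : x * y = 1 := by rw [hx, hy, rho_inv]
  have k2 : y * x = 1 := by rw [hx, hy, rho_inv']
  have c1 : ∀ u, (x - 1) * u = 0 → u = 0 := fun u => hx ▸ h.canc h1
  have c2 : ∀ u, (x + 1) * u = 0 → u = 0 := fun u hu => h.canc h2 (by
    rw [map_mul, ← hx]; linear_combination (norm := noncomm_ring) (x - 1) * hu)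
  rw [← hx, ← hy] at ht
  right; right
  rcases e with e | e | e
  · have := h.neg_of_sq h2 (by rw [← e]; simp only [pow_succ, pow_zero]; group)
    rw [map_mul, ← hx] at this
    right; left
    rw [ht]; linear_combination (norm := noncomm_ring [as' k2]) y * this
  · rcases h.sq_cases (g := g ^ 3) (by rw [← pow_add, e]) with e | e
    · left
      have := h.cu_inv ⟨e, h1⟩
      rw [← hx, ← hy] at this
      rw [ht, this]; abel
    · have k := congrArg ρ e
      rw [h.rz, pow_three, map_mul, map_mul, ← hx] at k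
      have := c2 (x * x - x + 1) (by linear_combination (norm := noncomm_ring) k)
      right; right; left
      rw [ht]; linear_combination (norm := noncomm_ring [as' k2, k2]) y * this
  · rcases h.sq_cases (g := g ^ 5) (by rw [← pow_add, e]) with e | e
    · have k := congrArg ρ e
      rw [map_one, map_pow, ← hx] at k
      have := c1 (x * x * x * x + x * x * x + x * x + x + 1)
        (by linear_combination (norm := noncomm_ring) k)
      right; right; right; right
      rw [ht]; linear_combination (norm := noncomm_ring [as' k2, k2, k1]) y * y * this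
    · have k := congrArg ρ e
      rw [h.rz, map_pow, ← hx] at k
      have := c2 (x * x * x * x - x * x * x + x * x - x + 1)
        (by linear_combination (norm := noncomm_ring) k)
      right; right; right; left
      rw [ht]; linear_combination (norm := noncomm_ring [as' k2, k2, k1]) y * y * this

theorem mul_ne_z {a b : G} (ha : D3 a) (hb : D3 b) : a * b ≠ z := fun e => by
  have e1 : b = a⁻¹ * z := by rw [← e]; group
  have := hb.1
  rw [e1, (show Commute a⁻¹ z from h.z_comm _).mul_pow, ha.inv.1, one_mul, pow_three, h.zz,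
    mul_one] at this
  exact h.z1 this

theorem tri {a b : G} (ha : D3 a) (hb : D3 b) : a * b = 1 ∨ tau ρ a b = -1 ∨ tau ρ a b = 0 ∨
    tau ρ a b = 1 ∨ tau ρ a b * tau ρ a b = tau ρ a b + 1 := by
  by_cases h0 : a * b = 1
  · exact Or.inl h0
  rcases h.ord_cases (h.p3 a b ha.1 hb.1) (t := tau ρ a b) rfl with e | e | e | e | e | e | e
  · exact Or.inl e
  · exact absurd e (h.mul_ne_z ha hb)
  · tauto
  · tauto
  · tauto
  · tauto
  exfalso
  have k := h.tau_inv ha hb
  obtain ⟨t, ht⟩ : ∃ t, t = tau ρ a b := ⟨_, rfl⟩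
  rcases h.ord_cases (h.p3 a b⁻¹ ha.1 hb.inv.1) k.symm with f | f | f | f | f | f | f
  · rw [mul_inv_eq_one.1 f, h.tau_self hb] at e
    exact h.nt (by linear_combination (norm := noncomm_ring) -e)
  · exact h.mul_ne_z ha hb.inv f
  · exact h0 (h.tau_two (by linear_combination (norm := noncomm_ring) -f))
  all_goals rw [← ht] at e f
  · obtain rfl : t = 1 := by linear_combination (norm := noncomm_ring) -f
    exact h.nt (by linear_combination (norm := noncomm_ring) e)
  · obtain rfl : t = 0 := by linear_combination (norm := noncomm_ring) -f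
    exact h.nt (by linear_combination (norm := noncomm_ring) -e)
  · obtain rfl : t = 0 := h.two (by linear_combination (norm := noncomm_ring) e - f)
    exact h.nt (by linear_combination (norm := noncomm_ring) -e)
  · have k1 : t + t - 1 = 0 := h.two (by linear_combination (norm := noncomm_ring) e - f)
    exact h.nt (by linear_combination (norm := noncomm_ring) (t + t + 1 + 1 + 1) * k1 - 4 * e)

end ZS

end Cfsg.Agent.Perm.Zs
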