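import Cfsg.Agent.Perm.Zs2
import Cfsg.Agent.Class.Dick5
import Cfsg.Agent.Inv.Two
import Cfsg.Agent.PLoc.NPC
import Cfsg.Agent.Core.Quaternion
import Cfsg.Agent.Comp.Syl
import Cfsg.Agent.PF.FT

/-! Zassenhaus: a perfect fixed-point-free group is `SL(2,5)` (abstract part). -/

set_option autoImplicit false

namespace Cfsg.Agent.Perm.Zs

open Cfsg.Agent.Class Cfsg.Agent.PLoc Subgroup MulAction
open scoped Pointwise

variable {G : Type*} [Group G]

theorem solv_of_not_three [Finite G] (hu : ∀ x y : G, x ^ 2 = 1 → y ^ 2 = 1 → y ≠ 1 → x ∈ zpowers y)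
    (h3 : ¬ 3 ∣ Nat.card G) : Group.IsSolvable G := by
  obtain ⟨P⟩ : Nonempty (Sylow 2 G) := inferInstance
  have hn : NPC 2 (⊤ : Subgroup G) := npc_top_of_frobenius P fun Q hQ _ g hg hc => by
    have hQp : IsPGroup 2 Q := P.2.to_le hQ
    have ho : Odd (orderOf g) := Nat.coprime_two_right.1 hc
    rcases Core.isCyclic_or_quaternion_of_unique hQp (fun x y hx hy h1 => by
      obtain ⟨k, hk⟩ := hu x y (congrArg Subtype.val hx) (congrArg Subtype.val hy)
        (fun e => h1 (Subtype.ext e))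
      exact ⟨k, Subtype.ext hk⟩) with h | ⟨-, n, ⟨e⟩⟩
    · exact Inv.mem_centralizer_of_isCyclic hQp h hg ho
    obtain ⟨x, hx⟩ : ∃ x : G, x = e.symm (.a 1) := ⟨_, rfl⟩
    have hxQ : zpowers x ≤ Q := zpowers_le.2 (hx ▸ SetLike.coe_mem _)
    have ha : ∀ i, (e.symm (.a i) : G) = x ^ i.val := fun i => by
      rw [hx]; norm_cast; simp [← map_pow, QuaternionGroup.a_one_pow]
    rcases Inv.odd_centralizes_or hQp (X := zpowers x) inferInstance
      (Inv.relIndex_eq_two_of_card hxQ (by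
        rw [Nat.card_congr e.toEquiv, Nat.card_eq_fintype_card, QuaternionGroup.card,
          Nat.card_zpowers, hx, orderOf_coe, MulEquiv.orderOf_eq, QuaternionGroup.orderOf_a_one]
        ring)) (fun w hw hw' => by
        obtain ⟨q, hq⟩ := e.symm.surjective ⟨w, hw⟩
        obtain rfl : (e.symm q : G) = w := congrArg Subtype.val hq
        rcases q with i | i
        · exact absurd (ha i ▸ pow_mem (mem_zpowers x) _) hw'
        refine Or.inr ⟨by rw [orderOf_coe, MulEquiv.orderOf_eq, QuaternionGroup.orderOf_xa], ?_⟩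
        rintro _ ⟨k, rfl⟩ -
        have : (e.symm (.xa i) : G) * x * (e.symm (.xa i) : G)⁻¹ = x⁻¹ := by
          rw [mul_inv_eq_iff_eq_mul, eq_inv_mul_iff_mul_eq, hx]
          norm_cast
          simp [← map_mul]
        simp only [← conj_zpow, this, inv_zpow]) le_rfl hg ho with h | h | ⟨-, ⟨e'⟩⟩
    · exact h
    · exfalso
      obtain ⟨a, ha1⟩ : ∃ a : Q, a ≠ 1 := by
        have : Nontrivial Q := Finite.one_lt_card_iff_nontrivial.1 (by rw [h.card_four]; norm_num)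
        exact exists_ne 1
      have h2 : ∀ b : Q, (b : G) ^ 2 = 1 := fun b => by
        have := Monoid.pow_exponent_eq_one b
        rw [h.exponent_two] at this
        exact congrArg Subtype.val this
      have : Q ≤ zpowers (a : G) := fun b hb =>
        hu _ _ (h2 ⟨b, hb⟩) (h2 a) (fun e => ha1 (Subtype.ext e))
      have h4 := card_le_of_le this
      rw [h.card_four, Nat.card_zpowers] at h4
      have := orderOf_le_of_pow_eq_one two_pos (h2 a)
      omega
    · obtain ⟨z, hz⟩ := Inv.exists_Q8 e'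
      refine Inv.mem_centralizer_of_mem_sup hQp ?_ hc
      have h6 := hz.relIndex_dvd_six (zpowers_le.2 hg)
      have h7 : (Q ⊔ centralizer (Q : Set G)).relIndex (zpowers g) ∣ orderOf g := by
        rw [← Nat.card_zpowers]; exact relIndex_dvd_card _ _
      have h8 : (orderOf g).Coprime 6 := Nat.Coprime.mul_right hc
        ((Nat.prime_three.coprime_iff_not_dvd.2 fun i => h3 (i.trans (orderOf_dvd_natCard g))).symm)
      exact relIndex_eq_one.1 (Nat.eq_one_of_dvd_coprimes h8 h7 h6) (mem_zpowers g)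
  have hc := isComplement'_pResidual hn P
  have h1 : Group.IsSolvable (pResidual 2 G) := PF.feit_thompson (by
    rw [← pResOf_top]; exact Nat.coprime_two_right.1 (npc_iff_coprime.1 hn))
  have h2 : Group.IsSolvable P := by
    have := P.2.isNilpotent; infer_instance
  have h4 : Group.IsSolvable (G ⧸ pResidual 2 G) :=
    solvable_of_surjective (f := (QuotientGroup.mk' _).comp (P : Subgroup G).subtype) fun q => by
      obtain ⟨g, rfl⟩ := QuotientGroup.mk'_surjective _ q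
      obtain ⟨⟨a, b⟩, rfl⟩ := hc.2 g
      exact ⟨b, by simp [(QuotientGroup.eq_one_iff _).2 a.2]⟩
  exact solvable_of_ker_le_range (pResidual 2 G).subtype (QuotientGroup.mk' (pResidual 2 G)) (by simp)

theorem hom_trivial (hp : commutator G = ⊤) {H : Type*} [Group H] [Group.IsSolvable H] (f : G →* H)
    (g : G) : f g = 1 := by
  have : (⊤ : Subgroup G).map f = ⊥ := Comp.perfect_solvable_eq_bot
    (by rw [← map_commutator]; exact congrArg _ hp) inferInstance
  exact (eq_bot_iff_forall _).1 this _ ⟨g, trivial, rfl⟩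

theorem top_of_index (hp : commutator G = ⊤) {M : Subgroup G} (h0 : M.index ≠ 0) (h : M.index ≤ 4) :
    M = ⊤ := by
  classical
  have : Finite (G ⧸ M) := Nat.finite_of_card_ne_zero h0
  have : Group.IsSolvable (Equiv.Perm (G ⧸ M)) := isSolvable_of_card_dvd_24 (by
    rw [Nat.card_perm]; exact Nat.factorial_dvd_factorial h)
  refine (eq_top_iff' _).2 fun g => ?_
  have := congrArg (fun f : Equiv.Perm (G ⧸ M) => f (1 : G)) (hom_trivial hp (toPermHom G (G ⧸ M)) g)
  have e : ((g * 1 : G) : G ⧸ M) = (1 : G) := this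
  simpa using QuotientGroup.eq.1 e

theorem fix_of_small (hp : commutator G = ⊤) {X : Type*} [MulAction G X] {x a b c d : X}
    (h : ∀ g : G, g • x = a ∨ g • x = b ∨ g • x = c ∨ g • x = d) (g : G) : g • x = x := by
  have h1 : orbit G x ⊆ {a, b, c, d} := by rintro _ ⟨g, rfl⟩; exact h g
  have h2 : (orbit G x).Finite := (Set.toFinite _).subset h1
  have h3 : (orbit G x).ncard ≤ 4 := (Set.ncard_le_ncard h1 (Set.toFinite _)).trans (by
    have := Set.ncard_insert_le a {b, c, d}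
    have := Set.ncard_insert_le b {c, d}
    have := Set.ncard_insert_le c {d}
    simp only [Set.ncard_singleton] at this
    omega)
  have : stabilizer G x = ⊤ := top_of_index hp
    (by rw [index_stabilizer]; exact ((Set.ncard_pos h2).2 (nonempty_orbit x)).ne')
    (by rwa [index_stabilizer])
  exact (eq_top_iff' _).1 this g

variable {R : Type*} [Ring R] {ρ : G →* R} {z : G}

theorem tab_one : tab 1 = ((1, 0), 0, 0, 0) := by decide +kernel

theorem ev_one (t a b : R) : ev t a b ((1, 0), 0, 0, 0) = 1 := by simp [ev]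

namespace ZS
variable (h : ZS ρ z)
include h

theorem golden {a b : G} (ha : D3 a) (hb : D3 b) (ht : tau ρ a b * tau ρ a b = tau ρ a b + 1) :
    ∃ φ : S5 →* G, Function.Injective φ ∧ φ sx = a ∧ φ sy = b ∧ φ (-1) = z ∧
      ∀ g, ρ (φ g) = ev (tau ρ a b) (ρ a) (ρ b) (tab g) := by
  obtain ⟨E, hE⟩ : ∃ E : S5 → R, ∀ g, E g = ev (tau ρ a b) (ρ a) (ρ b) (tab g) := ⟨_, fun _ => rfl⟩
  have E1 : E 1 = 1 := by rw [hE, tab_one, ev_one]
  let Γ : Subgroup (S5 × G) :=
    { carrier := {u | ∀ g, ρ u.2 * E g = E (u.1 * g)}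
      mul_mem' := fun {u v} hu hv g => by
        simp only [Prod.snd_mul, Prod.fst_mul, map_mul, mul_assoc]; rw [hv, hu]
      one_mem' := fun g => by simp
      inv_mem' := fun {u} hu g => by
        have := hu (u.1⁻¹ * g)
        rw [mul_inv_cancel_left] at this
        rw [← this, ← mul_assoc, Prod.snd_inv, rho_inv', one_mul, Prod.fst_inv] }
  have hx : (sx, a) ∈ Γ := fun g => by
    rw [hE, hE, ev_L (h.cu ha) (h.tau_eq ha hb).symm, tab_x]
  have hy : (sy, b) ∈ Γ := fun g => by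
    rw [hE, hE, ev_R (h.cu hb) (h.tau_eq ha hb).symm ht, tab_y]
  obtain ⟨φ, hφ⟩ := exists_hom_of_rel ⊤ Γ (fun k hk => h.eq_one (by simpa [E1] using hk 1))
    (fun g _ => by
      have : Subgroup.closure {sx, sy} ≤ Γ.map (MonoidHom.fst _ _) := (Subgroup.closure_le _).2 (by
        rintro _ (rfl | rfl)
        · exact ⟨_, hx, rfl⟩
        · exact ⟨_, hy, rfl⟩)
      obtain ⟨⟨_, k⟩, h1, rfl⟩ := this (s5_gen ▸ mem_top g)
      exact ⟨k, h1⟩)
  have hE' : ∀ g, ρ (φ (topEquiv.symm g)) = E g := fun g => by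
    simpa [E1] using (hφ (topEquiv.symm g) _).2 rfl 1
  have hz : φ (topEquiv.symm (-1)) = z := h.inj (by
    rw [hE', hE, h.rz, show tab (-1) = ((-1, 0), 0, 0, 0) by decide +kernel]; simp [ev])
  refine ⟨φ.comp (topEquiv (G := S5)).symm.toMonoidHom, ?_, (hφ ⟨sx, trivial⟩ _).1 hx,
    (hφ ⟨sy, trivial⟩ _).1 hy, hz, fun g => (hE' g).trans (hE g)⟩
  rw [← MonoidHom.ker_eq_bot_iff]
  exact s5_ker _ fun e => h.z1 (hz.symm.trans e)

theorem comm3 {a b : G} (ha : D3 a) (hb : D3 b) (e : a * b = b * a) : b = a ∨ b = a⁻¹ := by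
  by_cases h1 : a * b = 1
  · exact Or.inr (eq_inv_of_mul_eq_one_right h1)
  have : D3 (a * b) := ⟨by rw [(show Commute a b from e).mul_pow, ha.1, hb.1, one_mul], h1⟩
  exact Or.inl (h.tau_neg ha hb (by rw [tau, h.cu_inv this]; abel)).symm

theorem conj_N {w a : G} (h1 : tau ρ w a = 1) : tau ρ w (w * a * w⁻¹) = 1 := by
  have := tau_conj ρ w a w
  rwa [mul_inv_cancel_right, h1, mul_one, rho_inv] at this

theorem conj_N' {w a : G} (h1 : tau ρ w a = 1) : tau ρ w (w⁻¹ * a * w) = 1 := by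
  have := tau_conj ρ w a w⁻¹
  rwa [inv_mul_cancel, one_mul, inv_inv, h1, mul_one, rho_inv'] at this

end ZS

/-- same tetrahedron at `w` -/
def Cl (w a b : G) : Prop := b = a ∨ b = w * a * w⁻¹ ∨ b = w⁻¹ * a * w

theorem Cl.symm {w a b : G} (h : Cl w a b) : Cl w b a := by
  rcases h with rfl | rfl | rfl
  · exact Or.inl rfl
  · exact Or.inr (Or.inr (by group))
  · exact Or.inr (Or.inl (by group))

theorem Cl.trans {w a b c : G} (hw : D3 w) (h : Cl w a b) (h' : Cl w b c) : Cl w a c := by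
  have e1 : w * w = w⁻¹ := hw.sq
  have e2 : w⁻¹ * w⁻¹ = w := by rw [hw.inv.sq, inv_inv]
  rcases h with rfl | rfl | rfl
  · exact h'
  · rcases h' with rfl | rfl | rfl
    · exact Or.inr (Or.inl rfl)
    · exact Or.inr (Or.inr (by
        calc _ = (w * w) * a * (w⁻¹ * w⁻¹) := by group
          _ = _ := by rw [e1, e2]))
    · exact Or.inl (by group)
  · rcases h' with rfl | rfl | rfl
    · exact Or.inr (Or.inr rfl)
    · exact Or.inl (by group)
    · exact Or.inr (Or.inl (by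
        calc _ = (w⁻¹ * w⁻¹) * a * (w * w) := by group
          _ = _ := by rw [e1, e2]))

theorem Cl.d3 {w a b : G} (h : Cl w a b) (ha : D3 a) : D3 b := by
  rcases h with rfl | rfl | rfl
  · exact ha
  · exact ha.conj w
  · simpa using ha.conj w⁻¹

theorem Cl.mem {w a b : G} (h : Cl w a b) {H : Subgroup G} (hw : w ∈ H) (ha : a ∈ H) : b ∈ H := by
  rcases h with rfl | rfl | rfl
  · exact ha
  · exact mul_mem (mul_mem hw ha) (inv_mem hw)
  · exact mul_mem (mul_mem (inv_mem hw) ha) hw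

namespace ZS
variable (h : ZS ρ z)
include h

theorem cl_N {w a b : G} (h1 : tau ρ w a = 1) (hc : Cl w a b) : tau ρ w b = 1 := by
  rcases hc with rfl | rfl | rfl
  exacts [h1, h.conj_N h1, h.conj_N' h1]

theorem sum {w a b : G} (hw : D3 w) (ha : D3 a) (hb : D3 b) (h1 : tau ρ w a = 1)
    (h2 : tau ρ w b = 1) :
    tau ρ a b + tau ρ (w * a * w⁻¹) b + tau ρ (w⁻¹ * a * w) b = 1 ∧
    tau ρ (w * a * w⁻¹) b * tau ρ (w⁻¹ * a * w) b = tau ρ a b * tau ρ a b - tau ρ a b - 1 ∧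
    tau ρ a (w * a * w⁻¹) = 1 ∧ tau ρ a (w⁻¹ * a * w) = 1 := by
  have a1 := ha.conj w
  have a2 : D3 (w⁻¹ * a * w) := by simpa using ha.conj w⁻¹
  rw [h.tau_eq hw ha] at h1
  rw [h.tau_eq hw hb] at h2
  rw [h.tau_eq ha hb, h.tau_eq a1 hb, h.tau_eq a2 hb, h.tau_eq ha a1, h.tau_eq ha a2]
  simp only [map_mul, h.cu_inv hw]
  exact r_sum (h.cu hw) (h.cu ha) (h.cu hb) h1 h2

theorem N_ne {w a b : G} (hw : D3 w) (ha : D3 a) (h1 : tau ρ w a = 1) (h2 : tau ρ w b = 1) :
    a * b ≠ 1 := fun e => by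
  rw [eq_inv_of_mul_eq_one_right e, h.tau_inv hw ha, h1, sub_self] at h2
  exact h.nt h2.symm

theorem not_cl {w a b : G} (hw : D3 w) (ha : D3 a) (hb : D3 b) (h1 : tau ρ w a = 1)
    (h2 : tau ρ w b = 1) (hc : ¬ Cl w a b) :
    tau ρ a b = 0 ∨ tau ρ a b * tau ρ a b = tau ρ a b + 1 := by
  rcases h.tri ha hb with e | e | e | e | e
  · exact absurd e (h.N_ne hw ha h1 h2)
  · exact absurd (Or.inl (h.tau_neg ha hb e).symm) hc
  · exact Or.inl e
  swap
  · exact Or.inr e
  exfalso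
  obtain ⟨k1, k2, -⟩ := h.sum hw ha hb h1 h2
  rw [e] at k1 k2
  have a2 : D3 (w⁻¹ * a * w) := by simpa using ha.conj w⁻¹
  rcases h.tri (ha.conj w) hb with f | f | f | f | f
  · exact h.N_ne hw (ha.conj w) (h.conj_N h1) h2 f
  · exact hc (Or.inr (Or.inl (h.tau_neg (ha.conj w) hb f).symm))
  · rw [f] at k2
    exact h.nt (by linear_combination (norm := noncomm_ring) k2)
  · rw [f] at k1
    exact hc (Or.inr (Or.inr (h.tau_neg a2 hb
      (by linear_combination (norm := noncomm_ring) k1)).symm))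
  · generalize tau ρ (w * a * w⁻¹) b = s at *
    generalize tau ρ (w⁻¹ * a * w) b = t at *
    obtain rfl : s = 0 := by linear_combination (norm := noncomm_ring) s * k1 - k2 - f
    exact h.nt (by linear_combination (norm := noncomm_ring) -f)

theorem exists_zero {w a b : G} (hw : D3 w) (ha : D3 a) (hb : D3 b) (h1 : tau ρ w a = 1)
    (h2 : tau ρ w b = 1) (hc : ¬ Cl w a b) : ∃ d, Cl w a d ∧ tau ρ d b = 0 := by
  rcases h.not_cl hw ha hb h1 h2 hc with e | e
  · exact ⟨a, Or.inl rfl, e⟩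
  have c1 : Cl w a (w * a * w⁻¹) := Or.inr (Or.inl rfl)
  rcases h.not_cl hw (ha.conj w) hb (h.conj_N h1) h2 (fun i => hc (c1.trans hw i)) with f | f
  · exact ⟨_, c1, f⟩
  obtain ⟨-, k2, -⟩ := h.sum hw ha hb h1 h2
  refine ⟨_, Or.inr (Or.inr rfl), ?_⟩
  generalize tau ρ (w * a * w⁻¹) b = s at *
  generalize tau ρ (w⁻¹ * a * w) b = t at *
  linear_combination (norm := noncomm_ring) (s - 1) * k2 + (s - 1) * e - f * t

theorem cfg {v c d e : G} (hv : D3 v) (hc : D3 c) (hd : D3 d) (he : D3 e) (h1 : tau ρ v c = 0)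
    (h2 : tau ρ v d = 0) (h3 : tau ρ v e = 0) (h4 : tau ρ c d = 0) (h5 : tau ρ c e = 0)
    (h6 : tau ρ d e = 0 ∨ tau ρ d e * tau ρ d e = tau ρ d e + 1) : False := by
  rw [h.tau_eq hv hc] at h1
  rw [h.tau_eq hv hd] at h2
  rw [h.tau_eq hv he] at h3
  rw [h.tau_eq hc hd] at h4
  rw [h.tau_eq hc he] at h5
  obtain ⟨k1, k2, k3, k4, k5, k6, k7, k8⟩ :=
    r_cfg (h.cu hv) (h.cu hc) (h.cu hd) (h.cu he) h1 h2 h3 h4 h5
  rcases h6 with h6 | h6
  · rw [h.tau_eq hd he] at h6
    have hE : D3 (v⁻¹ * c * v) := by simpa using hc.conj v⁻¹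
    obtain ⟨l1, l2, l3⟩ := r_zero (h.cu hv) (h.cu hc) (h.cu hd) (h.cu he) h1 h2 h3 h4 h5 h6
      (E := ρ (v⁻¹ * c * v)) (F := ρ (d * e * d⁻¹)) (by simp only [map_mul, h.cu_inv hv])
      (by simp only [map_mul, h.cu_inv hd])
    rw [h6] at k5
    generalize ρ v - ρ c = i at *
    generalize ρ d * ρ e - ρ e * ρ d = P at *
    have key : (i * P) * (i * P) = 1 + 1 := by
      linear_combination (norm := noncomm_ring) k1 * (P * P) - k5 - i * k3 * P
    rcases h.comm3 hE (he.conj d) (h.inj (by rw [map_mul, l1, ← map_mul])) with f | f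
    · rw [f, l2] at l3
      have : i * P - 1 = 0 := h.two (by linear_combination (norm := noncomm_ring) l3)
      rw [sub_eq_zero.1 this] at key
      exact h.nt (by linear_combination (norm := noncomm_ring) -key)
    · rw [f, h.cu_inv hE] at l3
      have : i * P + 1 = 0 := h.two (by linear_combination (norm := noncomm_ring) l3 + l2)
      rw [eq_neg_of_add_eq_zero_left this] at key
      exact h.nt (by linear_combination (norm := noncomm_ring) -key)
  · obtain ⟨φ, -, -, -, -, hφ⟩ := h.golden hd he h6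
    have l1 := hφ (sy⁻¹ * sx * sy * sx⁻¹ * sy⁻¹ * sx)
    rw [show tab (sy⁻¹ * sx * sy * sx⁻¹ * sy⁻¹ * sx) = ((1, -1), (1, 0), (1, 0), (2, 0)) by
      decide +kernel] at l1
    rw [h.tau_eq hd he] at h6 l1
    have l2 : ev (T (ρ d) (ρ e)) (ρ d) (ρ e) ((1, -1), (1, 0), (1, 0), (2, 0)) =
        ρ d * ρ e - ρ e * ρ d := by simp only [ev, T]; module
    have l3 : ρ (v * c⁻¹ * v) = ρ v - ρ c := by simp only [map_mul, h.cu_inv hc, k2]
    rw [l2] at l1
    generalize φ (sy⁻¹ * sx * sy * sx⁻¹ * sy⁻¹ * sx) = p at l1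
    generalize v * c⁻¹ * v = q at l3
    generalize ρ v - ρ c = i at *
    generalize ρ d * ρ e - ρ e * ρ d = P at *
    generalize ρ v + ρ c + 1 = m at *
    generalize ρ d - ρ e = j at *
    generalize T (ρ d) (ρ e) = y at *
    have l4 : P * P = -1 := by linear_combination (norm := noncomm_ring) k5 + h6
    have l5 : P * m + m * P = 0 := by
      rcases h.sq_cases (g := q * p) (h.eq_one (by
        simp only [map_mul, l1, l3]
        linear_combination (norm := noncomm_ring) k1 * (P * P) - l4 - i * k3 * P)) with f | f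
      · have f' := congrArg ρ f
        rw [map_mul, l1, l3, map_one] at f'
        obtain rfl : P = -i := by linear_combination (norm := noncomm_ring) k1 * P - i * f'
        linear_combination (norm := noncomm_ring) -k4
      · have f' := congrArg ρ f
        rw [map_mul, l1, l3, h.rz] at f'
        obtain rfl : P = i := by linear_combination (norm := noncomm_ring) k1 * P - i * f'
        exact k4
    have l6 : m * P - j = 0 := h.two (by linear_combination (norm := noncomm_ring) l5 - k6)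
    rw [← sub_eq_zero.1 l6] at k8
    obtain rfl : y = 1 := by
      linear_combination (norm := noncomm_ring) k8 - m * l5 * P + k7 * (P * P) - l4 - l4
    exact h.nt (by linear_combination (norm := noncomm_ring) -h6)

theorem three_cl {w a b c : G} (hw : D3 w) (ha : D3 a) (hb : D3 b) (hc : D3 c)
    (h1 : tau ρ w a = 1) (h2 : tau ρ w b = 1) (h3 : tau ρ w c = 1) :
    Cl w a b ∨ Cl w a c ∨ Cl w b c := by
  by_contra hn
  push Not at hn
  obtain ⟨d, d1, d2⟩ := h.exists_zero hw hb ha h2 h1 fun i => hn.1 i.symm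
  obtain ⟨e, e1, e2⟩ := h.exists_zero hw hc ha h3 h1 fun i => hn.2.1 i.symm
  have hd := d1.d3 hb
  have he := e1.d3 hc
  have k : ∀ x, D3 x → tau ρ w x = 1 → tau ρ w⁻¹ x = 0 := fun x hx e => by
    rw [h.tau_comm hw.inv hx, h.tau_inv hx hw, h.tau_comm hx hw, e, sub_self]
  exact h.cfg hw.inv ha hd he (k _ ha h1) (k _ hd (h.cl_N h2 d1)) (k _ he (h.cl_N h3 e1))
    (h.tau_comm ha hd ▸ d2) (h.tau_comm ha he ▸ e2)
    (h.not_cl hw hd he (h.cl_N h2 d1) (h.cl_N h3 e1) fun i =>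
      hn.2.2 ((d1.trans hw i).trans hw e1.symm))

theorem gold_nb {a b : G} (ha : D3 a) (hb : D3 b) (ht : tau ρ a b * tau ρ a b = tau ρ a b + 1) :
    tau ρ a (b⁻¹ * a⁻¹ * b) = 1 ∧ tau ρ a (b * a⁻¹ * b⁻¹) = 1 ∧
      tau ρ (b⁻¹ * a⁻¹ * b) (b * a⁻¹ * b⁻¹) = 0 ∧
      a * (b⁻¹ * a⁻¹ * b) * a⁻¹ * (b * a⁻¹ * b⁻¹) * a = b := by
  obtain ⟨φ, -, rfl, rfl, -, hφ⟩ := h.golden ha hb ht
  have k : ∀ u v, tau ρ (φ u) (φ v) =
      ev (tau ρ (φ sx) (φ sy)) (ρ (φ sx)) (ρ (φ sy)) (tab (u * v) + tab (u * v)⁻¹) := fun u v => by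
    rw [ev_add, ← hφ, ← hφ, tau, map_inv φ, map_mul φ]
  simp only [← map_inv, ← map_mul]
  refine ⟨?_, ?_, ?_, congrArg φ ?_⟩
  · rw [k, show tab (sx * (sy⁻¹ * sx⁻¹ * sy)) + tab (sx * (sy⁻¹ * sx⁻¹ * sy))⁻¹ = ((1, 0), 0, 0, 0)
      by decide +kernel, ev_one]
  · rw [k, show tab (sx * (sy * sx⁻¹ * sy⁻¹)) + tab (sx * (sy * sx⁻¹ * sy⁻¹))⁻¹ = ((1, 0), 0, 0, 0)
      by decide +kernel, ev_one]
  · rw [k, show tab (sy⁻¹ * sx⁻¹ * sy * (sy * sx⁻¹ * sy⁻¹)) +
      tab (sy⁻¹ * sx⁻¹ * sy * (sy * sx⁻¹ * sy⁻¹))⁻¹ = 0 by decide +kernel]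
    simp [ev]
  · rw [e4_inj]; simp only [e4_mul, e4_inv, e4_sx, e4_sy]; decide

theorem d3_mem {a b : G} (ha : D3 a) (hb : D3 b) (ht : tau ρ a b * tau ρ a b = tau ρ a b + 1)
    {H : Subgroup G} (haH : a ∈ H) (hbH : b ∈ H) {d : G} (hd : D3 d) : d ∈ H := by
  obtain ⟨k1, k2, k3, -⟩ := h.gold_nb ha hb ht
  have c1 : D3 (b⁻¹ * a⁻¹ * b) := by simpa using ha.inv.conj b⁻¹
  have c2 := ha.inv.conj b
  have hN : ∀ c, D3 c → tau ρ a c = 1 → c ∈ H := fun c hc e => by
    rcases h.three_cl ha c1 c2 hc k1 k2 e with f | f | f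
    · obtain ⟨-, -, l1, l2⟩ := h.sum ha c1 c2 k1 k2
      rcases f with f | f | f <;> rw [f] at k3
      · exact (h.nt (neg_eq_zero.1 ((h.tau_self c1).symm.trans k3))).elim
      · exact (h.nt (l1.symm.trans k3)).elim
      · exact (h.nt (l2.symm.trans k3)).elim
    · exact f.mem haH (mul_mem (mul_mem (inv_mem hbH) (inv_mem haH)) hbH)
    · exact f.mem haH (mul_mem (mul_mem hbH (inv_mem haH)) (inv_mem hbH))
  rcases h.tri ha hd with e | e | e | e | e
  · exact eq_inv_of_mul_eq_one_right e ▸ inv_mem haH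
  · exact h.tau_neg ha hd e ▸ haH
  · exact inv_mem_iff.1 (hN _ hd.inv (by rw [h.tau_inv ha hd, e, sub_zero]))
  · exact hN _ hd e
  · obtain ⟨l1, l2, -, l3⟩ := h.gold_nb ha hd e
    rw [← l3]
    exact mul_mem (mul_mem (mul_mem (mul_mem haH (hN _ (by simpa using ha.inv.conj d⁻¹) l1))
      (inv_mem haH)) (hN _ (ha.inv.conj d) l2)) haH

theorem solv [Finite G] {K : Subgroup G} (hK : ∀ d ∈ K, ¬ D3 d) : Group.IsSolvable K := by
  refine solv_of_not_three (fun x y hx hy h1 => ?_) fun h3 => ?_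
  · have e1 := h.sq_cases (g := x) (by rw [← sq]; exact congrArg Subtype.val hx)
    have e2 := (h.sq_cases (g := y) (by rw [← sq]; exact congrArg Subtype.val hy)).resolve_left
      fun e => h1 (Subtype.ext e)
    rcases e1 with e | e
    · exact (Subtype.ext e : x = 1) ▸ one_mem _
    · exact (Subtype.ext (e.trans e2.symm) : x = y) ▸ mem_zpowers _
  · obtain ⟨d, hd⟩ := exists_prime_orderOf_dvd_card' 3 h3
    rw [← orderOf_coe] at hd
    exact hK d d.2 ⟨hd ▸ pow_orderOf_eq_one _, fun e => by simp [e] at hd⟩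

theorem exists_gold [Finite G] (hp : commutator G = ⊤) :
    ∃ a b, D3 a ∧ D3 b ∧ tau ρ a b * tau ρ a b = tau ρ a b + 1 := by
  by_contra hn
  push Not at hn
  obtain ⟨w, hw⟩ : ∃ w : G, D3 w := by
    by_contra h1
    push Not at h1
    exact h.z1 ((eq_bot_iff_forall _).1
      (Comp.perfect_solvable_eq_bot hp (h.solv fun d _ => h1 d)) z trivial)
  obtain ⟨c, hc⟩ : ∃ c, ∀ d, D3 d → tau ρ w d = 1 → Cl w c d := by
    by_cases h1 : ∃ c, D3 c ∧ tau ρ w c = 1
    · obtain ⟨c, h1, h2⟩ := h1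
      refine ⟨c, fun d hd e => by_contra fun hc => ?_⟩
      have k : ∀ x, Cl w c x → tau ρ x d = 0 := fun x hx =>
        (h.not_cl hw (hx.d3 h1) hd (h.cl_N h2 hx) e fun i => hc (hx.trans hw i)).resolve_right
          (hn _ _ (hx.d3 h1) hd)
      have := (h.sum hw h1 hd h2 e).1
      rw [k _ (Or.inl rfl), k _ (Or.inr (Or.inl rfl)), k _ (Or.inr (Or.inr rfl))] at this
      exact h.nt (by simpa using this.symm)
    · exact ⟨1, fun d h2 h3 => absurd ⟨d, h2, h3⟩ h1⟩
  have k1 : ∀ g : G, MulAut.conj g • zpowers w = zpowers w := by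
    letI : MulAction G (Subgroup G) := MulAction.compHom _ (MulAut.conj (G := G))
    refine fun g => fix_of_small hp (x := zpowers w) (a := zpowers w) (b := zpowers c)
      (c := zpowers (w * c * w⁻¹)) (d := zpowers (w⁻¹ * c * w)) (fun g => ?_) g
    have e : g • zpowers w = zpowers (g * w * g⁻¹) := MonoidHom.map_zpowers _ _
    have hd := hw.conj g
    rw [e]
    generalize g * w * g⁻¹ = d at hd
    have k : ∀ d, D3 d → tau ρ w d = 1 → zpowers d = zpowers c ∨
        zpowers d = zpowers (w * c * w⁻¹) ∨ zpowers d = zpowers (w⁻¹ * c * w) := fun d hd e => by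
      rcases hc d hd e with rfl | rfl | rfl <;> simp
    rcases h.tri hw hd with e | e | e | e | e
    · exact Or.inl (by rw [eq_inv_of_mul_eq_one_right e, zpowers_inv])
    · exact Or.inl (by rw [h.tau_neg hw hd e])
    · exact Or.inr (zpowers_inv (g := d) ▸ k _ hd.inv (by rw [h.tau_inv hw hd, e, sub_zero]))
    · exact Or.inr (k _ hd e)
    · exact absurd e (hn _ _ hw hd)
  have k2 : ∀ g : G, g * w * g⁻¹ = w := by
    letI : MulAction G G := MulAction.compHom _ (MulAut.conj (G := G))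
    refine fun g => fix_of_small hp (x := w) (a := w) (b := w⁻¹) (c := w) (d := w) (fun g => ?_) g
    have : g * w * g⁻¹ ∈ zpowers w := k1 g ▸ smul_mem_pointwise_smul _ _ _ (mem_zpowers w)
    obtain ⟨k, hk⟩ := this
    exact (h.comm3 hw (hw.conj g) (by rw [← hk]; exact (Commute.self_zpow w k).eq)).imp_right Or.inl
  have : Fact (Nat.Prime 3) := ⟨Nat.prime_three⟩
  obtain ⟨P⟩ : Nonempty (Sylow 3 G) := inferInstance
  have hn : NPC 3 (⊤ : Subgroup G) := npc_top_of_frobenius P fun Q hQ _ g hg hc =>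
    mem_centralizer_of_omegaOne (by norm_num) (P.2.to_le hQ) hg hc (le_centralizer_iff.1
      ((Subgroup.closure_le _).2 fun x hx => mem_centralizer_iff.2 fun y _ => by
        by_cases h1 : x = 1
        · simp [h1]
        have hy : y * w = w * y := mul_inv_eq_iff_eq_mul.1 (k2 y)
        rcases h.comm3 hw ⟨hx.2, h1⟩ (mul_inv_eq_iff_eq_mul.1 (k2 x)).symm with rfl | rfl
        · exact hy
        · exact (show Commute y w from hy).inv_right.eq) (mem_top g))
  have h1 := npc_iff_coprime.1 hn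
  have h2 : w ∈ pResOf 3 ⊤ := Comp.perfect_le_of_coprime_mem 3 hp (fun x => mem_pResOf) trivial
  have h3 := orderOf_dvd_natCard (⟨w, h2⟩ : pResOf 3 (⊤ : Subgroup G))
  rw [← orderOf_coe, orderOf_eq_prime hw.1 hw.2] at h3
  exact absurd (Nat.eq_one_of_dvd_coprimes h1 h3 dvd_rfl) (by norm_num)

theorem equiv [Finite G] (hp : commutator G = ⊤) : Nonempty (G ≃* S5) := by
  obtain ⟨a, b, ha, hb, ht⟩ := h.exists_gold hp
  obtain ⟨φ, hi, rfl, rfl, hz, -⟩ := h.golden ha hb ht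
  have hD : ∀ d, D3 d → d ∈ φ.range := fun d =>
    h.d3_mem ha hb ht (H := φ.range) ⟨_, rfl⟩ ⟨_, rfl⟩
  have hH : φ.range = Subgroup.closure {φ sx, φ sy} := by
    rw [MonoidHom.range_eq_map, ← s5_gen, MonoidHom.map_closure, Set.image_pair]
  have hN : φ.range.Normal := ⟨fun n hn g => by
    have : φ.range ≤ φ.range.comap (MulAut.conj g).toMonoidHom := by
      nth_rw 1 [hH]
      refine (Subgroup.closure_le _).2 ?_
      rintro _ (rfl | rfl)
      exacts [hD _ (ha.conj g), hD _ (hb.conj g)]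
    exact this hn⟩
  obtain ⟨C, hC⟩ : ∃ C, C = centralizer ({φ sx, φ sy} : Set G) := ⟨_, rfl⟩
  have mC : ∀ g, g ∈ C ↔ g * φ sx * g⁻¹ = φ sx ∧ g * φ sy * g⁻¹ = φ sy := fun g => by
    rw [mul_inv_eq_iff_eq_mul, mul_inv_eq_iff_eq_mul]
    simp [hC, mem_centralizer_iff, eq_comm]
  have hCs : Group.IsSolvable C := h.solv fun d hd h3 => by
    obtain ⟨e1, e2⟩ := (mC d).1 hd
    have e3 : φ sx * φ sy = φ sy * φ sx := by
      rcases h.comm3 ha h3 (mul_inv_eq_iff_eq_mul.1 e1).symm with rfl | rfl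
      · exact mul_inv_eq_iff_eq_mul.1 e2
      · exact (Commute.inv_left_iff.1 (mul_inv_eq_iff_eq_mul.1 e2)).eq
    rw [← map_mul, ← map_mul] at e3
    have := hi e3
    rw [e4_inj, e4_mul, e4_mul] at this
    exact absurd this (by decide)
  let q := QuotientGroup.mk' φ.range
  have key : ∀ g : G, ∃ u : S5, (φ u)⁻¹ * g * φ sx * ((φ u)⁻¹ * g)⁻¹ = φ sx ∧
      ((φ u)⁻¹ * g * φ sy * ((φ u)⁻¹ * g)⁻¹ = φ sy ∨
        (φ u)⁻¹ * g * φ sy * ((φ u)⁻¹ * g)⁻¹ = (φ sy)⁻¹) := fun g => by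
    obtain ⟨x, hx⟩ := hD _ (ha.conj g)
    obtain ⟨y, hy⟩ := hD _ (hb.conj g)
    obtain ⟨u, h1, h2⟩ := s5_pairs x y (hi (by rw [map_pow, hx, (ha.conj g).1, map_one]))
      (hi (by rw [map_pow, hy, (hb.conj g).1, map_one])) (hi (by
        have : (sx * sy) ^ 5 = -1 := by
          rw [e4_inj]; simp only [pow_succ, pow_zero, one_mul, e4_mul, e4_sx, e4_sy]; decide
        rw [map_pow, map_mul, hx, hy, conj_mul, conj_pow, ← map_mul, ← map_pow, this, hz,
          h.z_comm, mul_inv_cancel_right]))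
    rw [h1] at hx
    simp only [map_mul, map_inv] at hx
    refine ⟨u, ?_, h2.imp (fun e => ?_) fun e => ?_⟩
    · calc _ = (φ u)⁻¹ * (g * φ sx * g⁻¹) * φ u := by group
        _ = _ := by rw [← hx]; group
    all_goals
      rw [e] at hy
      simp only [map_mul, map_inv] at hy
      calc _ = (φ u)⁻¹ * (g * φ sy * g⁻¹) * φ u := by group
        _ = _ := by rw [← hy]; group
  have hq : ∀ u g, q ((φ u)⁻¹ * g) = q g := fun u g => by
    have : q (φ u) = 1 := (QuotientGroup.eq_one_iff (N := φ.range) (φ u)).2 ⟨u, rfl⟩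
    rw [map_mul, map_inv, this, inv_one, one_mul]
  have hM : (C.map q).comap q = ⊤ := by
    by_contra h1
    obtain ⟨g₀, h0⟩ : ∃ g, g ∉ (C.map q).comap q := by
      by_contra h2; push Not at h2; exact h1 ((eq_top_iff' _).2 h2)
    have k : ∀ g, g ∉ (C.map q).comap q → ∃ u : S5, (φ u)⁻¹ * g * φ sx * ((φ u)⁻¹ * g)⁻¹ = φ sx ∧
        (φ u)⁻¹ * g * φ sy * ((φ u)⁻¹ * g)⁻¹ = (φ sy)⁻¹ := fun g hg => by
      obtain ⟨u, e1, e2⟩ := key g
      exact ⟨u, e1, e2.resolve_left fun e => hg ⟨_, (mC _).2 ⟨e1, e⟩, hq u g⟩⟩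
    have : ((C.map q).comap q).index = 2 := index_eq_two_iff'.2 ⟨g₀⁻¹, fun g => ?_⟩
    · exact h1 (top_of_index hp (by omega) (by omega))
    by_cases hg : g ∈ (C.map q).comap q
    · exact Or.inr ⟨hg, fun i => h0 (inv_mem_iff.1 ((mul_mem_cancel_right hg).1 i))⟩
    refine Or.inl ⟨?_, hg⟩
    obtain ⟨u, e1, e2⟩ := k g hg
    obtain ⟨v, f1, f2⟩ := k g₀ h0
    refine ⟨((φ v)⁻¹ * g₀)⁻¹ * ((φ u)⁻¹ * g), (mC _).2 ⟨?_, ?_⟩, by
      rw [map_mul, map_inv, hq, hq, map_mul, map_inv]⟩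
    · generalize (φ v)⁻¹ * g₀ = s at *
      generalize (φ u)⁻¹ * g = t at *
      calc _ = s⁻¹ * (t * φ sx * t⁻¹) * s := by group
        _ = _ := by rw [e1]; nth_rw 1 [← f1]; group
    · generalize (φ v)⁻¹ * g₀ = s at *
      generalize (φ u)⁻¹ * g = t at *
      calc _ = s⁻¹ * (t * φ sy * t⁻¹) * s := by group
        _ = _ := by rw [e2, ← f2]; group
  have : Group.IsSolvable (G ⧸ φ.range) :=
    solvable_of_surjective (f := q.comp C.subtype) fun x => by
      obtain ⟨g, rfl⟩ := QuotientGroup.mk'_surjective _ x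
      obtain ⟨c, hc, e⟩ := (eq_top_iff' _).1 hM g
      exact ⟨⟨c, hc⟩, e⟩
  exact ⟨(MulEquiv.ofBijective φ ⟨hi, fun g =>
    (QuotientGroup.eq_one_iff g).1 (hom_trivial hp q g)⟩).symm⟩

end ZS

end Cfsg.Agent.Perm.Zs
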