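import Cfsg.Agent.Perm.Zs3
import Cfsg.Agent.Class.Dick3

/-! Zassenhaus: a perfect fixed-point-free group is `SL(2,5)`. -/

set_option autoImplicit false

namespace Cfsg.Agent.Perm.Zs

open Cfsg.Agent.Class Subgroup MulAction Matrix
open scoped MatrixGroups TensorProduct

theorem perm4_prod : ∀ x : Equiv.Perm (Fin 4), x ^ 3 = 1 → ∀ y : Equiv.Perm (Fin 4), y ^ 3 = 1 →
    (x * y) ^ 2 = 1 ∨ (x * y) ^ 3 = 1 ∨ (x * y) ^ 5 = 1 := by decide +kernel

theorem perm5_prod : ∀ x : Equiv.Perm (Fin 5), x ^ 3 = 1 → ∀ y : Equiv.Perm (Fin 5), y ^ 3 = 1 →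
    (x * y) ^ 2 = 1 ∨ (x * y) ^ 3 = 1 ∨ (x * y) ^ 5 = 1 := by decide +kernel

theorem prod_of_inj {H K : Type*} [Group H] [Group K] (f : H →* K) (hf : Function.Injective f)
    (h : ∀ x : K, x ^ 3 = 1 → ∀ y : K, y ^ 3 = 1 →
      (x * y) ^ 2 = 1 ∨ (x * y) ^ 3 = 1 ∨ (x * y) ^ 5 = 1) {x y : H} (hx : x ^ 3 = 1)
    (hy : y ^ 3 = 1) : (x * y) ^ 2 = 1 ∨ (x * y) ^ 3 = 1 ∨ (x * y) ^ 5 = 1 := by
  have := h (f x) (by rw [← map_pow, hx, map_one]) (f y) (by rw [← map_pow, hy, map_one])
  simpa only [← map_mul, ← map_pow, map_eq_one_iff f hf] using this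

theorem pgl_prod {k : Type*} [Field k] [IsAlgClosed k] {p : ℕ} [Fact p.Prime] [CharP k p]
    (H : Subgroup PGL(2, k)) [Finite H] (hp : ∀ g : H, g ^ p = 1 → g = 1) {x y : H}
    (hx : x ^ 3 = 1) (hy : y ^ 3 = 1) : (x * y) ^ 2 = 1 ∨ (x * y) ^ 3 = 1 ∨ (x * y) ^ 5 = 1 := by
  have d := (dk_pgl (F := k) p).subgroup H
  have ex : ∀ g : H, ∃ x : P1 k, g • x = x := fun g => pgl_ex g.1
  have hu : ∀ x : P1 k, uni p H x = ⊥ := fun x =>
    (eq_bot_iff_forall _).2 fun g hg => hp g (d.mem_uni.1 hg).2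
  have hc : ∀ c : H, x ∈ zpowers c → y ∈ zpowers c → (x * y) ^ 3 = 1 := by
    rintro c ⟨i, rfl⟩ ⟨j, rfl⟩
    rw [(Commute.zpow_zpow_self c i j).mul_pow, hx, hy, one_mul]
  have : Nonempty (P1 k) := ⟨pinf k⟩
  rcases d.dickson ex with ⟨w, hw⟩ | ⟨w, hw⟩ | ⟨-, h2, h3⟩ | ⟨-, -, -, h4⟩ | ⟨w, h1, -⟩
  · obtain ⟨c, -, -, -, -, -, h2⟩ := d.borel w
    exact Or.inr (Or.inl (hc c (h2 (hu w) ▸ hw x) (h2 (hu w) ▸ hw y)))
  · obtain ⟨c, -, -, h2, -⟩ := d.dihedral ex hw
    have k : ∀ s : H, s ^ 3 = 1 → s ∈ zpowers c := fun s hs => by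
      by_contra h
      have h3 := h2 s h
      rw [pow_three', h3, one_mul] at hs
      exact h (hs ▸ one_mem _)
    exact Or.inr (Or.inl (hc c (k x hx) (k y hy)))
  · rcases h3 with h | h | h
    · obtain ⟨e⟩ := h2.equiv_A4 h
      exact prod_of_inj ((Subgroup.subtype _).comp e.toMonoidHom)
        ((subtype_injective _).comp e.injective) perm4_prod hx hy
    · obtain ⟨e⟩ := h2.equiv_S4 h
      exact prod_of_inj e.toMonoidHom e.injective perm4_prod hx hy
    · obtain ⟨e⟩ := h2.equiv_A5 h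
      exact prod_of_inj ((Subgroup.subtype _).comp e.toMonoidHom)
        ((subtype_injective _).comp e.injective) perm5_prod hx hy
  · exact h4 _
  · simp [hu] at h1

variable {G : Type*} [Group G]

theorem pow_char {R : Type*} [Ring R] {p : ℕ} [Fact p.Prime] [CharP R p] {ρ : G →* R}
    (hf : ∀ g, g ≠ 1 → IsUnit (ρ g - 1)) {g : G} (h : g ^ p = 1) : g = 1 := by
  by_contra h1
  have : Nontrivial R := CharP.nontrivial_of_char_ne_one (Fact.out : p.Prime).ne_one
  have := (hf g h1).pow p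
  rw [sub_pow_char_of_commute _ (Commute.one_right _), ← map_pow, h, map_one, one_pow,
    sub_self] at this
  exact not_isUnit_zero this

theorem p3_of_lin [Finite G] {k : Type*} [Field k] [IsAlgClosed k] {p : ℕ} [Fact p.Prime] [CharP k p]
    {U : Type*} [AddCommGroup U] [Module k U] [FiniteDimensional k U] [Nontrivial U]
    {ρ : G →* Module.End k U} (hf : ∀ g, g ≠ 1 → IsUnit (ρ g - 1)) (a b : G) (ha : a ^ 3 = 1)
    (hb : b ^ 3 = 1) : (a * b) ^ 4 = 1 ∨ (a * b) ^ 6 = 1 ∨ (a * b) ^ 10 = 1 := by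
  have hc : a * b = b * a → (a * b) ^ 4 = 1 ∨ (a * b) ^ 6 = 1 ∨ (a * b) ^ 10 = 1 := fun e =>
    Or.inr (Or.inl (by
      rw [show 6 = 3 * 2 from rfl, pow_mul, (show Commute a b from e).mul_pow, ha, hb]; simp))
  by_cases ha1 : a = 1
  · exact hc (by simp [ha1])
  by_cases hb1 : b = 1
  · exact hc (by simp [hb1])
  have fix : ∀ g, ∀ u ≠ 0, ρ g u = u → g = 1 := fun g u hu e => by
    by_contra h
    exact hu (((Module.End.isUnit_iff _).1 (hf g h)).1 (by simp [e]))
  have cu : ∀ a : G, a ^ 3 = 1 → a ≠ 1 → ρ a * ρ a = -ρ a - 1 := fun a ha h1 => by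
    have e : ρ a * (ρ a * ρ a) = 1 := by rw [← map_mul, ← map_mul, ← pow_three, ha, map_one]
    have : ρ a * ρ a + ρ a + 1 = 0 := (hf a h1).mul_right_eq_zero.1 (by noncomm_ring [e])
    linear_combination (norm := noncomm_ring) this
  have ca := cu a ha ha1
  have cb := cu b hb hb1
  obtain ⟨t, ht⟩ := Module.End.exists_eigenvalue (T (ρ a) (ρ b))
  obtain ⟨u, hu⟩ := ht.exists_hasEigenvector
  obtain ⟨v, ω, hv, hω, h1, h2⟩ : ∃ (v : U) (ω : k), v ≠ 0 ∧ ω * ω + ω + 1 = 0 ∧ ρ a v = ω • v ∧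
      T (ρ a) (ρ b) v = t • v := by
    obtain ⟨ω, hω⟩ := IsAlgClosed.exists_root (Polynomial.X ^ 2 + Polynomial.X + 1 : Polynomial k)
      (by rw [show (Polynomial.X ^ 2 + Polynomial.X + 1 : Polynomial k).degree = 2 by
        compute_degree!]; norm_num)
    have hω' : ω * ω + ω + 1 = 0 := by simpa [sq] using hω
    by_cases h : ρ a u = (-1 - ω) • u
    · exact ⟨u, -1 - ω, hu.2, by linear_combination hω', h, hu.apply_eq_smul⟩
    refine ⟨ρ a u - (-1 - ω) • u, ω, sub_ne_zero.2 h, hω', ?_, ?_⟩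
    · have : ρ a (ρ a u) = -ρ a u - u := by simpa using congrArg (· u) ca
      rw [map_sub, map_smul, this]
      have e : (-1 : k) = ω * (1 + ω) := by linear_combination -hω'
      calc _ = ω • ρ a u + (-1 : k) • u := by module
        _ = _ := by rw [e]; nth_rw 2 [← e]; module
    · have := congrArg (· u) (T_left (b := ρ b) ca)
      simp only [Module.End.mul_apply, hu.apply_eq_smul, map_smul] at this
      rw [map_sub, map_smul, ← this, hu.apply_eq_smul]; module
  have h3 : ρ a (ρ b v) = (t - ω - 1) • v + (-ω - 1) • ρ b v := by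
    simp only [T, LinearMap.add_apply, Module.End.mul_apply, h1, map_smul, Module.End.one_apply] at h2
    linear_combination (norm := module) h2
  have h4 : ρ b (ρ b v) = -ρ b v - v := by simpa using congrArg (· v) cb
  obtain ⟨L, hL⟩ : ∃ L : (Fin 2 → k) → U, ∀ x, L x = x 0 • v + x 1 • ρ b v := ⟨_, fun _ => rfl⟩
  by_cases hi : ¬ Function.Injective L
  · obtain ⟨x, y, e, hxy⟩ := Function.not_injective_iff.1 hi
    rw [hL, hL] at e
    have h5 : x 1 - y 1 ≠ 0 := fun h => hxy (by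
      rw [sub_eq_zero.1 h, add_left_inj] at e
      exact funext (Fin.forall_fin_two.2 ⟨smul_left_injective k hv e, sub_eq_zero.1 h⟩))
    have h6 : ρ b v = ((y 0 - x 0) / (x 1 - y 1)) • v := by
      refine smul_right_injective U h5 ?_
      simp only [smul_smul, mul_div_cancel₀ _ h5]
      linear_combination (norm := module) e
    refine hc (eq_of_inv_mul_eq_one (fix _ v hv ?_)).symm
    have : ρ (a * b) v = ρ (b * a) v := by
      simp only [map_mul, Module.End.mul_apply, h6, h1, map_smul, smul_smul, mul_comm]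
    rw [map_mul, Module.End.mul_apply, this, ← Module.End.mul_apply, rho_inv', Module.End.one_apply]
  push Not at hi
  let Γ : Subgroup (G × SL(2, k)) :=
    { carrier := {w | ∀ x, ρ w.1 (L x) = L (SpecialLinearGroup.coeMonoidHom w.2 *ᵥ x)}
      mul_mem' := fun {s w} hs hw x => by
        simp only [Prod.snd_mul, Prod.fst_mul, map_mul, Module.End.mul_apply, ← mulVec_mulVec]
        rw [hw, hs]
      one_mem' := fun x => by simp
      inv_mem' := fun {w} hw x => by
        have := hw (SpecialLinearGroup.coeMonoidHom w.2⁻¹ *ᵥ x)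
        rw [mulVec_mulVec, ← map_mul, mul_inv_cancel, map_one, one_mulVec] at this
        rw [← this, ← Module.End.mul_apply, Prod.fst_inv, rho_inv', Module.End.one_apply,
          Prod.snd_inv] }
  obtain ⟨φ, hφ⟩ := exists_hom_of_rel (Subgroup.closure {a, b}) Γ
    (fun M hM => Subtype.ext (Matrix.mulVec_injective (funext fun x => hi (by
      simpa using (hM x).symm)))) (fun g hg => by
      have : Subgroup.closure {a, b} ≤ Γ.map (MonoidHom.fst _ _) := (Subgroup.closure_le _).2 (by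
        rintro _ (rfl | rfl)
        · refine ⟨(_, sl2 ω (t - ω - 1) 0 (-ω - 1) (by linear_combination -hω)), fun x => ?_, rfl⟩
          simp [hL, h1, h3, mulVec, dotProduct]; module
        · refine ⟨(_, sl2 0 (-1) 1 (-1) (by ring)), fun x => ?_, rfl⟩
          simp [hL, h4, mulVec, dotProduct]; module)
      obtain ⟨⟨_, M⟩, h1, rfl⟩ := this hg
      exact ⟨M, h1⟩)
  let ψ := SpecialLinearGroup.toPGL.comp φ
  have hψ : ∀ g, ψ g = 1 → g.1 ^ 2 = 1 := fun g hg => by
    have e : φ (g ^ 2) = 1 := by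
      rw [map_pow]; rcases toPGL_eq_one_iff.1 hg with e | e <;> simp [e]
    refine fix _ v hv ?_
    simpa [hL] using (hφ (g ^ 2) 1).2 e ![1, 0]
  have : Finite ψ.range := Finite.of_surjective _ ψ.rangeRestrict_surjective
  have : CharP (Module.End k U) p := charP_of_injective_algebraMap (algebraMap k _).injective p
  have key := pgl_prod (p := p) ψ.range (fun g hg => by
      obtain ⟨l, rfl⟩ := ψ.rangeRestrict_surjective g
      have e1 := hψ (l ^ p) (by rw [map_pow]; exact congrArg Subtype.val hg)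
      have e2 : l.1 ^ 2 = 1 := pow_char (p := p) hf (by
        rw [← pow_mul, mul_comm, pow_mul]; exact e1)
      rcases (Fact.out : p.Prime).eq_two_or_odd' with rfl | ⟨m, rfl⟩
      · rw [(Subtype.ext (pow_char hf e2) : l = 1), map_one]
      · rwa [← map_pow, pow_succ, pow_mul, (Subtype.ext e2 : l ^ 2 = 1), one_pow, one_mul] at hg)
    (x := ψ.rangeRestrict ⟨a, subset_closure (by simp)⟩)
    (y := ψ.rangeRestrict ⟨b, subset_closure (by simp)⟩)
    (by rw [← map_pow, ← map_one ψ.rangeRestrict]; exact congrArg _ (Subtype.ext ha))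
    (by rw [← map_pow, ← map_one ψ.rangeRestrict]; exact congrArg _ (Subtype.ext hb))
  simp only [← map_mul, ← map_pow] at key
  refine key.imp (fun e => ?_) (Or.imp (fun e => ?_) fun e => ?_) <;>
    simpa [← pow_mul] using hψ _ (congrArg Subtype.val e)

theorem zas_alg [Finite G] {k : Type*} [Field k] [IsAlgClosed k] {p : ℕ} [Fact p.Prime] [CharP k p]
    {U : Type*} [AddCommGroup U] [Module k U] [FiniteDimensional k U] [Nontrivial U]
    {ρ : G →* Module.End k U} (hf : ∀ g, g ≠ 1 → IsUnit (ρ g - 1)) (hp : commutator G = ⊤)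
    [Nontrivial G] : Nonempty (G ≃* S5) := by
  have h1 : ¬ Group.IsSolvable G := fun h => by
    obtain ⟨g, hg⟩ := exists_ne (1 : G)
    exact hg (hom_trivial hp (MonoidHom.id G) g)
  obtain ⟨z, hz⟩ := exists_prime_orderOf_dvd_card' 2 (PF.even_of_not_solvable h1).two_dvd
  exact ZS.equiv (ρ := ρ) (z := z) ⟨hf, one_ne_zero, fun e => by simp [e] at hz,
    by rw [← sq, ← hz, pow_orderOf_eq_one], p3_of_lin (p := p) hf⟩ hp

/-- Zassenhaus' theorem, linear form. -/
theorem zas [Finite G] {p : ℕ} [Fact p.Prime] {V : Type*} [AddCommGroup V] [Module (ZMod p) V]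
    [Finite V] [Nontrivial V] (ρ : G →* Module.End (ZMod p) V)
    (hf : ∀ g, g ≠ 1 → ∀ v, ρ g v = v → v = 0) (hp : commutator G = ⊤) [Nontrivial G] :
    Nonempty (G ≃* S5) := by
  let k := AlgebraicClosure (ZMod p)
  have : Nontrivial (k ⊗[ZMod p] V) := Module.nontrivial_of_finrank_pos (R := k) (by
    rw [Module.finrank_baseChange]; exact Module.finrank_pos)
  refine zas_alg (k := k) (p := p) (U := k ⊗[ZMod p] V)
    (ρ := (Module.End.baseChangeHom (ZMod p) k V).toMonoidHom.comp ρ) (fun g hg => ?_) hp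
  have : IsUnit (ρ g - 1) := (LinearMap.isUnit_iff_ker_eq_bot _).2
    (LinearMap.ker_eq_bot'.2 fun v hv => hf g hg v (by simpa [sub_eq_zero] using hv))
  simpa using this.map (Module.End.baseChangeHom (ZMod p) k V)

theorem s0690 {K : Type*} [Group K] [Finite K] (G : Subgroup (MulAut K))
    (hf : ∀ φ ∈ G, φ ≠ 1 → ∀ k : K, φ k = k → k = 1) (hp : commutator G = ⊤) (hne : G ≠ ⊥) :
    Nonempty (G ≃* S5) := by
  have : Nontrivial G := (nontrivial_iff_ne_bot G).2 hne
  have h1 : ¬ Group.IsSolvable G := fun h => by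
    obtain ⟨g, hg⟩ := exists_ne (1 : G)
    exact hg (hom_trivial hp (MonoidHom.id G) g)
  obtain ⟨z, hz⟩ := exists_prime_orderOf_dvd_card' 2 (PF.even_of_not_solvable h1).two_dvd
  have hz1 : z.1 ≠ 1 := fun e => by simp [(Subtype.ext e : z = 1)] at hz
  have hz2 : z * z = 1 := by rw [← sq, ← hz, pow_orderOf_eq_one]
  have hc : ∀ x y : K, x * y = y * x := fun x y =>
    MonoidHom.FixedPointFree.commute_all_of_involutive (φ := z.1) (fun k => hf _ z.2 hz1 k)
      (fun k => congrArg (fun f : G => f.1 k) hz2) x y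
  letI : CommGroup K := { (inferInstance : Group K) with mul_comm := hc }
  have : Nontrivial K := not_subsingleton_iff_nontrivial.1 fun _ =>
    hz1 (MulEquiv.ext fun _ => Subsingleton.elim _ _)
  obtain ⟨p, hpp, hd⟩ := Nat.exists_prime_and_dvd (Finite.one_lt_card (α := K)).ne'
  have : Fact p.Prime := ⟨hpp⟩
  obtain ⟨x, hx⟩ := exists_prime_orderOf_dvd_card' p hd
  let W := (powMonoidHom p : K →* K).ker
  have hW : ∀ y, y ∈ W ↔ y ^ p = 1 := fun _ => Iff.rfl
  letI : Module (ZMod p) (Additive W) := AddCommGroup.zmodModule fun y =>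
    Additive.toMul.injective (Subtype.ext y.toMul.2)
  have : Nontrivial W := (nontrivial_iff_ne_bot W).2 fun e => by
    have : x ∈ W := (hW x).2 (hx ▸ pow_orderOf_eq_one x)
    rw [e, mem_bot] at this
    rw [this, orderOf_one] at hx
    exact hpp.ne_one hx.symm
  let f : G → Additive W →+ Additive W := fun φ => AddMonoidHom.mk'
    (fun y => Additive.ofMul ⟨φ.1 y.toMul.1, (hW _).2 (by
      rw [← map_pow, (hW _).1 y.toMul.2, map_one])⟩) fun _ _ =>
    Additive.toMul.injective (Subtype.ext (map_mul _ _ _))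
  exact zas (p := p) (V := Additive W)
    { toFun := fun φ => (f φ).toZModLinearMap p, map_one' := rfl, map_mul' := fun _ _ => rfl }
    (fun g hg v hv => Additive.toMul.injective (Subtype.ext (hf _ g.2 (fun e => hg (Subtype.ext e)) _
      (congrArg (fun y : Additive W => y.toMul.1) hv)))) hp

end Cfsg.Agent.Perm.Zs
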