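import Cfsg.Agent.Perm.Zs4
import Cfsg.Agent.BG.Base3

/-! Linear groups transitive on non-zero vectors. -/

set_option autoImplicit false

namespace Cfsg.Agent.Perm.Zs

open Cfsg.Agent.Class Subgroup

universe u

variable {G : Type*} [Group G] {F : Type*} [Field F] {V : Type u} [AddCommGroup V] [Module F V]

def Ivt (ρ : G →* Module.End F V) (N : Subgroup G) (W : Submodule F V) : Prop :=
  ∀ n ∈ N, ∀ v ∈ W, ρ n v ∈ W

def MinI (ρ : G →* Module.End F V) (N : Subgroup G) (W : Submodule F V) : Prop :=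
  W ≠ ⊥ ∧ Ivt ρ N W ∧ ∀ W' ≤ W, Ivt ρ N W' → W' = ⊥ ∨ W' = W

variable {ρ : G →* Module.End F V} {N : Subgroup G} {W : Submodule F V}

theorem rho_cancel (g : G) (v : V) : ρ g⁻¹ (ρ g v) = v := by
  rw [← Module.End.mul_apply, rho_inv', Module.End.one_apply]

theorem rho_cancel' (g : G) (v : V) : ρ g (ρ g⁻¹ v) = v := by
  rw [← Module.End.mul_apply, rho_inv, Module.End.one_apply]

theorem rho_mul (g h : G) (v : V) : ρ (g * h) v = ρ g (ρ h v) := by
  rw [map_mul, Module.End.mul_apply]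

theorem rho_ne (g : G) {v : V} (hv : v ≠ 0) : ρ g v ≠ 0 := fun e =>
  hv (by rw [← rho_cancel (ρ := ρ) g v, e, map_zero])

theorem Ivt.inf {U : Submodule F V} (h : Ivt ρ N W) (h' : Ivt ρ N U) : Ivt ρ N (W ⊓ U) :=
  fun n hn v hv => ⟨h n hn v hv.1, h' n hn v hv.2⟩

theorem exists_minI [Finite V] (h : Ivt ρ N W) (h0 : W ≠ ⊥) : ∃ U ≤ W, MinI ρ N U := by
  have : Finite (Submodule F V) := Finite.of_injective _ SetLike.coe_injective
  obtain ⟨U, h1, h2⟩ := exists_minimal_le_of_wellFoundedLT (fun U => U ≠ ⊥ ∧ Ivt ρ N U) W ⟨h0, h⟩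
  exact ⟨U, h1, h2.1.1, h2.1.2, fun W' h3 h4 =>
    (em _).imp_right fun h5 => le_antisymm h3 (h2.2 ⟨h5, h4⟩ h3)⟩

theorem Ivt.map [hN : N.Normal] (h : Ivt ρ N W) (g : G) : Ivt ρ N (W.map (ρ g)) := by
  rintro n hn _ ⟨v, hv, rfl⟩
  exact ⟨_, h _ (hN.conj_mem' n hn g) v hv, by rw [← rho_mul, ← rho_mul]; congr 2; group⟩

theorem map_map_inv (g : G) (W : Submodule F V) : (W.map (ρ g⁻¹)).map (ρ g) = W := by
  rw [← Submodule.map_comp, ← Module.End.mul_eq_comp, rho_inv, Module.End.one_eq_id, Submodule.map_id]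

theorem MinI.map [N.Normal] (h : MinI ρ N W) (g : G) : MinI ρ N (W.map (ρ g)) := by
  have e : (W.map (ρ g)).map (ρ g⁻¹) = W := by simpa using map_map_inv (ρ := ρ) g⁻¹ W
  refine ⟨fun e' => h.1 (by rw [← e, e', Submodule.map_bot]), h.2.1.map g, fun U h1 h2 => ?_⟩
  rcases h.2.2 _ (e ▸ Submodule.map_mono h1) (h2.map g⁻¹) with h3 | h3
  · exact Or.inl (by rw [← map_map_inv (ρ := ρ) g U, h3, Submodule.map_bot])
  · exact Or.inr (by rw [← h3, map_map_inv])

theorem MinI.eq {U : Submodule F V} (h : MinI ρ N W) (h' : MinI ρ N U) {v : V} (hv : v ≠ 0)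
    (h1 : v ∈ W) (h2 : v ∈ U) : W = U := by
  have : W ⊓ U ≠ ⊥ := (Submodule.ne_bot_iff _).2 ⟨v, ⟨h1, h2⟩, hv⟩
  exact ((h.2.2 _ inf_le_left (h.2.1.inf h'.2.1)).resolve_left this).symm.trans
    ((h'.2.2 _ inf_le_right (h.2.1.inf h'.2.1)).resolve_left this)

theorem dom [Finite V] (B : Subring (Module.End F V)) (h0 : W ≠ ⊥) (hB : ∀ b ∈ B, ∀ w ∈ W, b w ∈ W)
    (hd : ∀ b ∈ B, ∀ w ∈ W, w ≠ 0 → b w = 0 → ∀ w' ∈ W, b w' = 0) :
    ∃ (D : Type u) (_ : Field D) (r : B →+* D), ∀ b, r b = 0 ↔ ∀ w ∈ W, b.1 w = 0 := by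
  let r : B →+* Module.End F W :=
    { toFun := fun b => b.1.restrict (hB b.1 b.2)
      map_one' := rfl, map_mul' := fun _ _ => rfl, map_zero' := rfl, map_add' := fun _ _ => rfl }
  have hr : ∀ b, r b = 0 ↔ ∀ w ∈ W, b.1 w = 0 := fun b =>
    ⟨fun e w hw => congrArg (fun f : Module.End F W => (f ⟨w, hw⟩).1) e,
      fun e => LinearMap.ext fun w => Subtype.ext (e w.1 w.2)⟩
  have : Finite (Module.End F W) := Finite.of_injective _ DFunLike.coe_injective
  have : Nontrivial W := Submodule.nontrivial_iff_ne_bot.2 h0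
  have : NoZeroDivisors r.range := ⟨by
    rintro ⟨_, a, rfl⟩ ⟨_, b, rfl⟩ e
    refine (em _).symm.imp_left fun hb => Subtype.ext ((hr a).2 ?_)
    have hb' : ¬ ∀ w ∈ W, b.1 w = 0 := fun i => hb (Subtype.ext ((hr b).2 i))
    push Not at hb'
    obtain ⟨w, h1, h2⟩ := hb'
    exact hd _ a.2 _ (hB _ b.2 w h1) h2
      ((hr (a * b)).1 ((map_mul r a b).trans (congrArg Subtype.val e)) w h1)⟩
  have : IsDomain r.range := NoZeroDivisors.to_isDomain _
  exact ⟨r.range, (Finite.isDomain_to_isField _).toField, r.rangeRestrict, fun b =>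
    Subtype.ext_iff.trans (hr b)⟩

/-- the centraliser of an irreducible piece is cyclic -/
theorem cyc_cent [Finite V] [Finite G] (h : MinI ρ N W) {C : Subgroup G}
    (hC : C ≤ centralizer (N : Set G)) (hi : Ivt ρ C W) (hf : ∀ c ∈ C, (∀ w ∈ W, ρ c w = w) → c = 1) :
    IsCyclic C := by
  let B : Subring (Module.End F V) :=
    { carrier := {b | (∀ n ∈ N, ρ n * b = b * ρ n) ∧ ∀ w ∈ W, b w ∈ W}
      mul_mem' := fun {a b} ha hb => ⟨fun n hn => by
        rw [← mul_assoc, ha.1 n hn, mul_assoc, hb.1 n hn, mul_assoc], fun w hw => ha.2 _ (hb.2 w hw)⟩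
      one_mem' := ⟨by simp, fun _ h => h⟩
      add_mem' := fun {a b} ha hb => ⟨fun n hn => by rw [mul_add, add_mul, ha.1 n hn, hb.1 n hn],
        fun w hw => add_mem (ha.2 w hw) (hb.2 w hw)⟩
      zero_mem' := ⟨by simp, fun _ _ => zero_mem W⟩
      neg_mem' := fun {a} ha => ⟨fun n hn => by rw [mul_neg, neg_mul, ha.1 n hn],
        fun w hw => neg_mem (ha.2 w hw)⟩ }
  obtain ⟨D, _, r, hr⟩ := dom B h.1 (fun b hb => hb.2) fun b hb w h1 h2 h3 w' h4 => by
    rcases h.2.2 (W ⊓ LinearMap.ker b) inf_le_left (h.2.1.inf fun n hn v hv => by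
      rw [LinearMap.mem_ker] at hv ⊢
      rw [← Module.End.mul_apply, ← hb.1 n hn, Module.End.mul_apply, hv, map_zero]) with e | e
    · exact absurd ((Submodule.eq_bot_iff _).1 e w ⟨h1, h3⟩) h2
    · exact (e.ge h4).2
  let f : C →* B := (ρ.comp C.subtype).codRestrict B.toSubmonoid fun c =>
    ⟨fun n hn => by simp only [MonoidHom.comp_apply, ← map_mul]; exact congrArg _ (hC c.2 n hn),
      hi c c.2⟩
  refine isCyclic_of_injective_ringHom (r.toMonoidHom.comp f) ((injective_iff_map_eq_one _).2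
    fun c hc => Subtype.ext (hf c c.2 fun w hw => sub_eq_zero.1 ?_))
  exact (hr (f c - 1)).1 (by rw [map_sub, map_one]; exact sub_eq_zero.2 hc) w hw

theorem cyc_of_comm [Finite V] [Nontrivial V] [Finite G] {A : Subgroup G}
    (hf : ∀ g ∈ A, ∀ v, v ≠ 0 → ρ g v = v → g = 1) (hA : IsMulCommutative A) : IsCyclic A := by
  obtain ⟨W, -, h⟩ := exists_minI (ρ := ρ) (N := A) (W := ⊤) (fun _ _ _ _ => trivial) top_ne_bot
  obtain ⟨w, h1, h2⟩ := (Submodule.ne_bot_iff _).1 h.1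
  exact cyc_cent h (BG.abel_of hA) h.2.1 fun c hc e => hf c hc w h2 (e w h1)

/-- a normal subgroup of a transitive linear group is irreducible or abelian -/
theorem irr_or_comm [Finite V] [Nontrivial V] (hi : Function.Injective ρ)
    (ht : ∀ v w : V, v ≠ 0 → w ≠ 0 → ∃ g, ρ g v = w) (N : Subgroup G) [N.Normal] :
    MinI ρ N ⊤ ∨ IsMulCommutative N := by
  obtain ⟨W₀, -, h₀⟩ := exists_minI (ρ := ρ) (N := N) (W := ⊤) (fun _ _ _ _ => trivial) top_ne_bot
  have k : ∀ x ≠ 0, ∃ X, MinI ρ N X ∧ x ∈ X := fun x hx => by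
    obtain ⟨w, h1, h2⟩ := (Submodule.ne_bot_iff _).1 h₀.1
    obtain ⟨g, rfl⟩ := ht w x h2 hx
    exact ⟨_, h₀.map g, w, h1, rfl⟩
  refine (em _).imp_right fun hn => BG.Abel.comm (BG.le_C_iff.2 fun a ha b hb => hi
    (LinearMap.ext fun v => ?_))
  by_cases hv : v = 0
  · simp [hv]
  obtain ⟨W, h, hvW⟩ := k v hv
  obtain ⟨u, hu⟩ : ∃ u, u ∉ W := by
    by_contra h1; push Not at h1
    exact hn (Submodule.eq_top_iff'.2 h1 ▸ h)
  have hu0 : u ≠ 0 := fun e => hu (e ▸ zero_mem W)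
  obtain ⟨U, hU, huU⟩ := k u hu0
  let B : Subring (Module.End F V) :=
    { carrier := {b | ∀ X, Ivt ρ N X → ∀ w ∈ X, b w ∈ X}
      mul_mem' := fun ha hb X hX w hw => ha X hX _ (hb X hX w hw)
      one_mem' := fun _ _ _ h => h
      add_mem' := fun ha hb X hX w hw => add_mem (ha X hX w hw) (hb X hX w hw)
      zero_mem' := fun X _ _ _ => zero_mem X
      neg_mem' := fun ha X hX w hw => neg_mem (ha X hX w hw) }
  have k2 : ∀ b ∈ B, ∀ w ∈ W, w ≠ 0 → (b w = 0 ↔ b u = 0) := fun b hb w hw h0 => by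
    obtain ⟨X, hX, hx⟩ := k (w + u) fun e => hu (eq_neg_of_add_eq_zero_right e ▸ neg_mem hw)
    have h1 := hb X hX.2.1 _ hx
    rw [map_add] at h1
    refine ⟨fun e => by_contra fun h2 => ?_, fun e => by_contra fun h2 => ?_⟩
    · rw [hX.eq hU h2 (by simpa [e] using h1) (hb U hU.2.1 u huU)] at hx
      exact hu (h.eq hU h0 hw ((Submodule.add_mem_iff_left _ huU).1 hx) ▸ huU)
    · rw [hX.eq h h2 (by simpa [e] using h1) (hb W h.2.1 w hw)] at hx
      exact hu ((Submodule.add_mem_iff_right _ hw).1 hx)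
  obtain ⟨D, _, r, hr⟩ := dom B h.1 (fun b hb => hb W h.2.1) fun b hb w h1 h2 h3 w' h4 => by
    by_cases h5 : w' = 0
    · simp [h5]
    · exact (k2 b hb w' h4 h5).2 ((k2 b hb w h1 h2).1 h3)
  let a' : B := ⟨ρ a, fun X hX => hX a ha⟩
  let b' : B := ⟨ρ b, fun X hX => hX b hb⟩
  have := (hr (a' * b' - b' * a')).1 (by rw [map_sub, map_mul, map_mul, mul_comm, sub_self]) v hvW
  rw [map_mul, map_mul]
  exact sub_eq_zero.1 this

theorem free_dvd [Finite V] {A : Subgroup G} (hf : ∀ g ∈ A, ∀ v, v ≠ 0 → ρ g v = v → g = 1)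
    (h : Ivt ρ A W) : Nat.card A ∣ Nat.card W - 1 := by
  letI : MulAction G V := MulAction.compHom V ρ
  have := card_dvd_ncard_of_free A ((W : Set V) \ {0})
    (fun g hg v hv => ⟨h g hg v hv.1, rho_ne g hv.2⟩) fun g hg v hv => hf g hg v hv.2
  rwa [Set.ncard_diff_singleton_of_mem (SetLike.mem_coe.2 (zero_mem W)), ← Nat.card_coe_set_eq] at this

theorem sq_le_card [Finite V] [N.Normal] (ht : ∀ v w : V, v ≠ 0 → w ≠ 0 → ∃ g, ρ g v = w)
    (h : MinI ρ N W) (h1 : W ≠ ⊤) : Nat.card W * Nat.card W ≤ Nat.card V := by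
  obtain ⟨u, hu⟩ : ∃ u, u ∉ W := by
    by_contra h2; push Not at h2
    exact h1 (Submodule.eq_top_iff'.2 h2)
  obtain ⟨w, h2, h3⟩ := (Submodule.ne_bot_iff _).1 h.1
  obtain ⟨g, rfl⟩ := ht w u h3 fun e => hu (e ▸ zero_mem W)
  rw [← Nat.card_prod]
  refine Nat.card_le_card_of_injective (fun x : W × W => x.1.1 + ρ g x.2.1) fun x y e => ?_
  have h4 : ρ g (x.2.1 - y.2.1) = y.1.1 - x.1.1 := by
    rw [map_sub]; beta_reduce at e; linear_combination (norm := abel) e
  have h5 : y.1.1 - x.1.1 = 0 := by_contra fun h5 => hu (h.eq (h.map g) h5 (sub_mem y.1.2 x.1.2)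
    ⟨_, sub_mem x.2.2 y.2.2, h4⟩ ▸ ⟨w, h2, rfl⟩)
  refine Prod.ext (Subtype.ext (sub_eq_zero.1 h5).symm) (Subtype.ext (sub_eq_zero.1 ?_))
  by_contra h6
  exact rho_ne g h6 (h4.trans h5)

/-- quaternion-type normal subgroups -/
theorem quad [Finite V] [Finite G] (hi : Function.Injective ρ) (h : MinI ρ N ⊤)
    (hs : ∃ a b : F, a ^ 2 + b ^ 2 = -1) (hna : ¬ IsMulCommutative N) {i j : Module.End F V}
    (hi2 : i * i = -1) (hj2 : j * j = -1) (hij : j * i = -(i * j))
    (hc : ∀ d : Module.End F V, (∀ n ∈ N, ρ n * d = d * ρ n) → i * d = d * i ∧ j * d = d * j)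
    (hg : ∀ X : Submodule F V, (∀ x ∈ X, i x ∈ X) → (∀ x ∈ X, j x ∈ X) →
      (∀ d : Module.End F V, (∀ n ∈ N, ρ n * d = d * ρ n) → ∀ x ∈ X, d x ∈ X) → Ivt ρ N X) :
    ∃ q, 2 ≤ q ∧ Nat.card V = q * q ∧ Nat.card (centralizer (N : Set G)) ∣ q - 1 := by
  let D := Subalgebra.centralizer F (ρ '' N)
  have mD : ∀ d, d ∈ D ↔ ∀ n ∈ N, ρ n * d = d * ρ n := fun d => by
    simp [D, Subalgebra.mem_centralizer_iff]
  have : Nontrivial V := (Submodule.nontrivial_iff F).1 ⟨_, _, h.1⟩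
  have : Finite (Module.End F V) := Finite.of_injective _ DFunLike.coe_injective
  have inj : ∀ d : D, ∀ v ≠ 0, d.1 v = 0 → d = 0 := fun d v hv e => by
    rcases h.2.2 (LinearMap.ker d.1) le_top (fun n hn v hv => by
      rw [LinearMap.mem_ker] at hv ⊢
      rw [← Module.End.mul_apply, ← (mD _).1 d.2 n hn, Module.End.mul_apply, hv, map_zero]) with f | f
    · exact absurd ((Submodule.eq_bot_iff _).1 f v e) hv
    · exact Subtype.ext (LinearMap.ker_eq_top.1 f)
  have : NoZeroDivisors D := ⟨fun {a b} e => (em _).symm.imp_left fun hb => by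
    obtain ⟨v, hv⟩ := exists_ne (0 : V)
    exact inj a (b.1 v) (fun i => hb (inj b v hv i)) (congrArg (fun d : D => d.1 v) e)⟩
  have : IsDomain D := NoZeroDivisors.to_isDomain _
  have hD := Finite.isDomain_to_isField D
  refine ⟨Nat.card D, Finite.one_lt_card, le_antisymm ?_ ?_, ?_⟩
  · obtain ⟨a, b, hab⟩ := hs
    obtain ⟨s, hs⟩ : ∃ s, s = a • i + b • j := ⟨_, rfl⟩
    have k1 : s * s = 1 := by
      have : s * s = (a ^ 2 + b ^ 2) • (-1 : Module.End F V) := by
        simp only [hs, mul_add, add_mul, smul_mul_smul_comm, hi2, hj2, hij]; module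
      rw [this, hab]; simp
    have k2 : s * (i * j) = -(i * j * s) := by
      simp only [hs, mul_add, add_mul, smul_mul_assoc, mul_smul_comm, mul_assoc, hi2, as' hi2, hj2,
        hij, as' hij, mul_neg, neg_mul, mul_one, one_mul, neg_neg]
      module
    obtain ⟨v, hv, e, he⟩ : ∃ v ≠ 0, ∃ e : F, s v = e • v := by
      obtain ⟨u, hu⟩ := exists_ne (0 : V)
      by_cases h3 : s u + u = 0
      · exact ⟨u, hu, -1, by rw [eq_neg_of_add_eq_zero_left h3, neg_one_smul]⟩
      · exact ⟨_, h3, 1, by rw [map_add, ← Module.End.mul_apply, k1, one_smul, add_comm]; rfl⟩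
    let f : D × D →ₗ[F] V :=
      { toFun := fun x => x.1.1 v + x.2.1 ((i * j) v)
        map_add' := fun x y => by simp; abel
        map_smul' := fun c x => by simp }
    have k3 : ∀ t : Module.End F V, (∀ d : D, t * d.1 = d.1 * t) → t v ∈ f.range →
        t ((i * j) v) ∈ f.range → ∀ x ∈ f.range, t x ∈ f.range := by
      rintro t ht ⟨y, hy⟩ ⟨z, hz⟩ _ ⟨x, rfl⟩
      refine ⟨(x.1 * y.1 + x.2 * z.1, x.1 * y.2 + x.2 * z.2), ?_⟩
      have e1 := congrArg (· v) (ht x.1)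
      have e2 := congrArg (· ((i * j) v)) (ht x.2)
      simp only [Module.End.mul_apply] at e1 e2 hy hz
      simp only [f, LinearMap.coe_mk, AddHom.coe_mk, map_add, Module.End.mul_apply, e1, e2, ← hy,
        ← hz, Subalgebra.coe_add, Subalgebra.coe_mul, LinearMap.add_apply]
      abel
    have m1 : v ∈ f.range := ⟨(1, 0), by simp [f]⟩
    have m2 : (i * j) v ∈ f.range := ⟨(0, 1), by simp [f]⟩
    have c1 : ∀ d : D, i * d.1 = d.1 * i := fun d => (hc _ ((mD _).1 d.2)).1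
    have c2 : ∀ d : D, j * d.1 = d.1 * j := fun d => (hc _ ((mD _).1 d.2)).2
    have n1 := k3 (i * j) (fun d => by rw [mul_assoc, c2, ← mul_assoc, c1, mul_assoc]) m2 (by
      have : i * j * (i * j) = -1 := by noncomm_ring [hi2, hj2, as' hij, as' hi2]
      rw [← Module.End.mul_apply, this]; exact neg_mem m1)
    have n2 := k3 s (fun d => by
      simp only [hs, mul_add, add_mul, smul_mul_assoc, mul_smul_comm, c1, c2])
      (he ▸ Submodule.smul_mem _ _ m1) (by
        rw [← Module.End.mul_apply, k2, LinearMap.neg_apply, Module.End.mul_apply, he, map_smul]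
        exact neg_mem (Submodule.smul_mem _ _ m2))
    have k4 : i * j * s = a • j - b • i := by
      simp only [hs, mul_add, mul_smul_comm, mul_assoc, as' hi2, hj2, hij, mul_neg, neg_mul, mul_one,
        one_mul, neg_neg]
      module
    have k5 : i = b • (i * j * s) - a • s := by
      rw [k4, hs]; linear_combination (norm := module) hab • i
    have k6 : j = -(a • (i * j * s)) - b • s := by
      rw [k4, hs]; linear_combination (norm := module) hab • j
    have n3 : ∀ x ∈ f.range, (i * j * s) x ∈ f.range := fun x hx => n1 _ (n2 x hx)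
    have := h.2.2 f.range le_top (hg _
      (fun x hx => by
        rw [k5]; exact sub_mem (Submodule.smul_mem _ _ (n3 x hx)) (Submodule.smul_mem _ _ (n2 x hx)))
      (fun x hx => by
        rw [k6]
        exact sub_mem (neg_mem (Submodule.smul_mem _ _ (n3 x hx))) (Submodule.smul_mem _ _ (n2 x hx)))
      (by
        rintro d hd _ ⟨x, rfl⟩
        exact ⟨(⟨d, (mD d).2 hd⟩ * x.1, ⟨d, (mD d).2 hd⟩ * x.2), by simp [f]⟩))
    rw [← Nat.card_prod]
    exact Nat.card_le_card_of_surjective f (LinearMap.range_eq_top.1 (this.resolve_left fun e =>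
      hv ((Submodule.eq_bot_iff _).1 e v m1)))
  · obtain ⟨v, hv⟩ := exists_ne (0 : V)
    obtain ⟨u, hu⟩ : ∃ u, ∀ d : D, d.1 v ≠ u := by
      by_contra h1
      push Not at h1
      refine hna (BG.Abel.comm (BG.le_C_iff.2 fun a ha b hb => hi (LinearMap.ext fun x => ?_)))
      obtain ⟨d, hd⟩ := h1 (ρ a v)
      obtain ⟨e, he⟩ := h1 (ρ b v)
      obtain ⟨c, rfl⟩ := h1 x
      have k : ∀ n ∈ N, ∀ (d : D) x, ρ n (d.1 x) = d.1 (ρ n x) := fun n hn d x =>
        congrArg (· x) ((mD _).1 d.2 n hn)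
      rw [rho_mul, rho_mul, k b hb, k a ha, k a ha, k b hb, ← hd, ← he, k a ha, k b hb, ← hd, ← he]
      exact congrArg (fun d : D => c.1 (d.1 v)) (hD.mul_comm e d)
    rw [← Nat.card_prod]
    refine Nat.card_le_card_of_injective (fun x : D × D => x.1.1 v + x.2.1 u) fun x y e => ?_
    have h4 : (x.2 - y.2).1 u = (y.1 - x.1).1 v := by
      simp only [AddSubgroupClass.coe_sub, LinearMap.sub_apply]
      beta_reduce at e
      linear_combination (norm := abel) e
    have h5 : x.2 - y.2 = 0 := by_contra fun h5 => by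
      obtain ⟨c, hc⟩ := hD.mul_inv_cancel h5
      refine hu (c * (y.1 - x.1)) ?_
      have := congrArg (fun d : D => d.1 u) ((hD.mul_comm _ _).trans hc)
      simp only [MulMemClass.coe_mul, Module.End.mul_apply, h4] at this
      simpa using this
    rw [h5] at h4
    exact Prod.ext (sub_eq_zero.1 (inj _ v hv h4.symm)).symm (sub_eq_zero.1 h5)
  · letI := hD.toField
    let f : centralizer (N : Set G) →* D := (ρ.comp (Subgroup.subtype _)).codRestrict
      D.toSubmonoid fun c => (mD _).2 fun n hn => by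
        simp only [MonoidHom.comp_apply, ← map_mul]; exact congrArg _ (c.2 n hn)
    rw [← Nat.card_units]
    exact card_dvd_of_injective f.toHomUnits fun x y e =>
      Subtype.ext (hi (congrArg (fun d : Dˣ => d.1.1) e))

end Cfsg.Agent.Perm.Zs
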