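import Cfsg.Agent.Perm.Zs5
import Cfsg.Agent.Class.Exc1

/-! Linear groups regular on non-zero vectors (exceptional near-fields). -/

set_option autoImplicit false

namespace Cfsg.Agent.Perm.Zs

open Cfsg.Agent.Class Cfsg.Agent.BG Subgroup
open scoped TensorProduct

variable {G : Type*} [Group G]

theorem card_S5 : Nat.card S5 = 120 := by
  have := card_SL (F := ZMod 5) 2 (by norm_num)
  simp only [ZMod.card, Fin.prod_univ_two, Fin.val_zero, Fin.val_one] at this
  change _ * Nat.card S5 = _ at this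
  omega

theorem ZS.struct {R : Type*} [Ring R] {ρ : G →* R} {z : G} (h : ZS ρ z) [Finite G] {φ : S5 →* G}
    (hi : Function.Injective φ) (hz : φ (-1) = z)
    (ht : tau ρ (φ sx) (φ sy) * tau ρ (φ sx) (φ sy) = tau ρ (φ sx) (φ sy) + 1) :
    φ.range.Normal ∧ C[φ.range].index ∣ 120 ∧ ¬ 3 ∣ #C[φ.range] := by
  have ha : D3 (φ sx) := ⟨by rw [← map_pow, show sx ^ 3 = 1 by decide, map_one],
    fun e => absurd (hi (e.trans (map_one φ).symm)) (by decide)⟩
  have hb : D3 (φ sy) := ⟨by rw [← map_pow, show sy ^ 3 = 1 by decide, map_one],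
    fun e => absurd (hi (e.trans (map_one φ).symm)) (by decide)⟩
  have hD : ∀ d, D3 d → d ∈ φ.range := fun d =>
    h.d3_mem ha hb ht (H := φ.range) ⟨_, rfl⟩ ⟨_, rfl⟩
  have hH : φ.range = Subgroup.closure {φ sx, φ sy} := by
    rw [MonoidHom.range_eq_map, ← s5_gen, MonoidHom.map_closure, Set.image_pair]
  have hN : φ.range.Normal := ⟨fun n hn g => by
    have : φ.range ≤ φ.range.comap (MulAut.conj g).toMonoidHom := by
      nth_rw 1 [hH]
      refine (Subgroup.closure_le _).2 ?_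
      rintro _ (rfl | rfl)
      exacts [hD _ (ha.conj g), hD _ (hb.conj g)]
    exact this hn⟩
  obtain ⟨C, hC⟩ : ∃ C, C = C[φ.range] := ⟨_, rfl⟩
  have mC : ∀ g, g ∈ C ↔ g * φ sx * g⁻¹ = φ sx ∧ g * φ sy * g⁻¹ = φ sy := fun g => by
    rw [mul_inv_eq_iff_eq_mul, mul_inv_eq_iff_eq_mul, hC, hH, centralizer_closure]
    simp [mem_centralizer_iff, eq_comm]
  have hCn : C.Normal := hC ▸ inferInstance
  rw [← hC]
  refine ⟨hN, ?_, fun h3 => ?_⟩
  swap
  · obtain ⟨d, hd⟩ := exists_prime_orderOf_dvd_card' 3 h3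
    rw [← orderOf_coe] at hd
    have h3 : D3 d.1 := ⟨hd ▸ pow_orderOf_eq_one _, fun e => by simp [e] at hd⟩
    obtain ⟨e1, e2⟩ := (mC d).1 d.2
    have e3 : φ sx * φ sy = φ sy * φ sx := by
      rcases h.comm3 ha h3 (mul_inv_eq_iff_eq_mul.1 e1).symm with e | e <;> rw [e] at e2
      · exact mul_inv_eq_iff_eq_mul.1 e2
      · exact (Commute.inv_left_iff.1 (mul_inv_eq_iff_eq_mul.1 e2)).eq
    rw [← map_mul, ← map_mul] at e3
    have := hi e3
    rw [e4_inj, e4_mul, e4_mul] at this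
    exact absurd this (by decide)
  have key : ∀ g : G, ∃ u : S5, (φ u)⁻¹ * g * φ sx * ((φ u)⁻¹ * g)⁻¹ = φ sx ∧
      ((φ u)⁻¹ * g * φ sy * ((φ u)⁻¹ * g)⁻¹ = φ sy ∨
        (φ u)⁻¹ * g * φ sy * ((φ u)⁻¹ * g)⁻¹ = (φ sy)⁻¹) := fun g => by
    obtain ⟨x, hx⟩ := hD _ (ha.conj g)
    obtain ⟨y, hy⟩ := hD _ (hb.conj g)
    obtain ⟨u, h1, h2⟩ := s5_pairs x y (hi (by rw [map_pow, hx, (ha.conj g).1, map_one]))
      (hi (by rw [map_pow, hy, (hb.conj g).1, map_one])) (hi (by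
        have : (sx * sy) ^ 5 = -1 := by
          rw [e4_inj]; simp only [pow_succ, pow_zero, one_mul, e4_mul, e4_sx, e4_sy]; decide
        rw [map_pow, map_mul, hx, hy, conj_mul, conj_pow, ← map_mul, ← map_pow, this, hz,
          h.z_comm, mul_inv_cancel_right]))
    rw [h1] at hx
    simp only [map_mul, map_inv] at hx
    refine ⟨u, ?_, h2.imp (fun e => ?_) fun e => ?_⟩
    · calc _ = (φ u)⁻¹ * (g * φ sx * g⁻¹) * φ u := by group
        _ = _ := by rw [← hx]; group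
    all_goals
      rw [e] at hy
      simp only [map_mul, map_inv] at hy
      calc _ = (φ u)⁻¹ * (g * φ sy * g⁻¹) * φ u := by group
        _ = _ := by rw [← hy]; group
  have hM : (φ.range ⊔ C).index ∣ 2 := by
    by_cases h1 : φ.range ⊔ C = ⊤
    · simp [h1]
    obtain ⟨g₀, h0⟩ : ∃ g, g ∉ φ.range ⊔ C := by
      by_contra h2; push Not at h2; exact h1 ((eq_top_iff' _).2 h2)
    have m : ∀ u, φ u ∈ φ.range ⊔ C := fun u => mem_sup_left ⟨u, rfl⟩
    have k : ∀ g, g ∉ φ.range ⊔ C → ∃ u : S5, (φ u)⁻¹ * g * φ sx * ((φ u)⁻¹ * g)⁻¹ = φ sx ∧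
        (φ u)⁻¹ * g * φ sy * ((φ u)⁻¹ * g)⁻¹ = (φ sy)⁻¹ := fun g hg => by
      obtain ⟨u, e1, e2⟩ := key g
      exact ⟨u, e1, e2.resolve_left fun e => hg
        ((mul_mem_cancel_left (inv_mem (m u))).1 (mem_sup_right ((mC _).2 ⟨e1, e⟩)))⟩
    refine (index_eq_two_iff.2 ⟨g₀⁻¹, fun g => ?_⟩).dvd
    by_cases hg : g ∈ φ.range ⊔ C
    · exact Or.inr ⟨hg, fun i => h0 (inv_mem_iff.1 ((mul_mem_cancel_left hg).1 i))⟩
    refine Or.inl ⟨?_, hg⟩
    obtain ⟨u, e1, e2⟩ := k g hg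
    obtain ⟨v, f1, f2⟩ := k g₀ h0
    have : (φ u)⁻¹ * g * ((φ v)⁻¹ * g₀)⁻¹ ∈ C := (mC _).2 (by
      generalize (φ v)⁻¹ * g₀ = s at *
      generalize (φ u)⁻¹ * g = t at *
      have f3 : s⁻¹ * φ sx * s = φ sx := by nth_rw 1 [← f1]; group
      have f4 : s⁻¹ * φ sy * s = (φ sy)⁻¹ := by
        calc _ = s⁻¹ * (s * φ sy * s⁻¹)⁻¹ * s := by rw [f2, inv_inv]
          _ = _ := by group
      constructor
      · calc _ = t * (s⁻¹ * φ sx * s) * t⁻¹ := by group
          _ = _ := by rw [f3, e1]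
      · calc _ = t * (s⁻¹ * φ sy * s) * t⁻¹ := by group
          _ = (t * φ sy * t⁻¹)⁻¹ := by rw [f4]; group
          _ = _ := by rw [e2, inv_inv])
    have := mul_mem (mul_mem (m u) (mem_sup_right this)) (inv_mem (m v))
    convert this using 1; group
  have h60 : (zpowers z).relIndex φ.range = 60 := by
    have := card_mul_relIndex (A := zpowers z) (B := φ.range) (zpowers_le.2 ⟨_, hz⟩)
    rw [Nat.card_zpowers, orderOf_eq_prime (by rw [sq, h.zz]) h.z1,
      ← Nat.card_congr (MonoidHom.ofInjective hi).toEquiv, card_S5] at this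
    omega
  rw [← relIndex_mul_index (le_sup_right : C ≤ φ.range ⊔ C), relIndex_sup_right]
  exact mul_dvd_mul (h60 ▸ relIndex_dvd_of_le_left _ (zpowers_le.2 ((mC z).2
    ⟨by rw [← h.z_comm, mul_inv_cancel_right], by rw [← h.z_comm, mul_inv_cancel_right]⟩))) hM

variable {p : ℕ} [Fact p.Prime] {V : Type*} [AddCommGroup V] [Module (ZMod p) V] [Finite V]
  {ρ : G →* Module.End (ZMod p) V}

theorem unit_of_fpf (hf : ∀ g v, v ≠ 0 → ρ g v = v → g = 1) (g : G) (hg : g ≠ 1) :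
    IsUnit (ρ g - 1) := (LinearMap.isUnit_iff_ker_eq_bot _).2
  (LinearMap.ker_eq_bot'.2 fun v hv => by_contra fun h =>
    hg (hf g v h (by simpa [sub_eq_zero] using hv)))

theorem zs_of [Finite G] [Nontrivial V] (hf : ∀ g v, v ≠ 0 → ρ g v = v → g = 1) {z : G} (h1 : z ≠ 1)
    (h2 : z * z = 1) : ZS ρ z := by
  let k := AlgebraicClosure (ZMod p)
  have : Nontrivial (k ⊗[ZMod p] V) := Module.nontrivial_of_finrank_pos (R := k) (by
    rw [Module.finrank_baseChange]; exact Module.finrank_pos)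
  refine ⟨unit_of_fpf hf, one_ne_zero, h1, h2, p3_of_lin (k := k) (p := p) (U := k ⊗[ZMod p] V)
    (ρ := (Module.End.baseChangeHom (ZMod p) k V).toMonoidHom.comp ρ) (fun g hg => ?_)⟩
  simpa using (unit_of_fpf hf g hg).map (Module.End.baseChangeHom (ZMod p) k V)

structure Reg (ρ : G →* Module.End (ZMod p) V) : Prop where
  nt : Nontrivial V
  reg : ∀ v w : V, v ≠ 0 → w ≠ 0 → ∃! g, ρ g v = w

def NoI (ρ : G →* Module.End (ZMod p) V) : Prop :=
  ∀ A : Subgroup G, A.Normal → IsCyclic A → ∃ W, W ≠ ⊥ ∧ W ≠ ⊤ ∧ Ivt ρ A W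

theorem NoI.nt (h : NoI ρ) : Nontrivial V := by
  obtain ⟨W, h1, -⟩ := h ⊥ inferInstance inferInstance
  exact (Submodule.nontrivial_iff (ZMod p)).1 ⟨_, _, h1⟩

theorem perfect_of_der {N : Subgroup G} (h : ⁅N, N⁆ = N) : commutator N = ⊤ :=
  map_injective N.subtype_injective (by rw [map_subtype_commutator, h, map_subtype_top])

namespace Reg
variable (h : Reg ρ)
include h

theorem fpf (g : G) (v : V) (hv : v ≠ 0) (e : ρ g v = v) : g = 1 :=
  (h.reg v v hv hv).unique e (by simp)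

theorem tr (v w : V) (hv : v ≠ 0) (hw : w ≠ 0) : ∃ g, ρ g v = w := (h.reg v w hv hw).exists

theorem inj : Function.Injective ρ := (injective_iff_map_eq_one _).2 fun g e => by
  have := h.nt
  obtain ⟨v, hv⟩ := exists_ne (0 : V)
  exact h.fpf g v hv (by simp [e])

theorem card : Nat.card G = Nat.card V - 1 := by
  have := h.nt
  obtain ⟨v, hv⟩ := exists_ne (0 : V)
  rw [Nat.card_congr (Equiv.ofBijective (fun g : G => (⟨ρ g v, rho_ne g hv⟩ : {w : V // w ≠ 0}))
    ⟨fun a b e => (h.reg v _ hv (rho_ne b hv)).unique (congrArg Subtype.val e) rfl, fun w =>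
      (h.tr v w hv w.2).imp fun g e => Subtype.ext e⟩)]
  classical
  have := Fintype.ofFinite V
  simp

variable [Finite G]

theorem cyc {A : Subgroup G} (hA : IsMulCommutative A) : IsCyclic A :=
  have := h.nt
  cyc_of_comm (ρ := ρ) (fun g _ => h.fpf g) hA

theorem s0684 (hI : NoI ρ) {A : Subgroup G} (hn : A.Normal) (hA : IsMulCommutative A) :
    IsCyclic A ∧ ∃ W, W ≠ ⊤ ∧ MinI ρ A W ∧ #A ∣ Nat.card W - 1 := by
  obtain ⟨W, h1, h2, h3⟩ := hI A hn (h.cyc hA)
  obtain ⟨U, h4, h5⟩ := exists_minI h3 h1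
  exact ⟨h.cyc hA, U, fun e => h2 (top_le_iff.1 (e ▸ h4)), h5,
    free_dvd (fun g _ => h.fpf g) h5.2.1⟩

theorem s0685 (hI : NoI ρ) {A : Subgroup G} (hn : A.Normal) (hA : IsMulCommutative A)
    (hm : ∀ B : Subgroup G, B.Normal → IsMulCommutative B → A ≤ B → B = A) :
    A < C[A] ∧ ¬ IsMulCommutative C[A] := by
  have key : C[A] ≠ A := fun e => by
    obtain ⟨h1, W, h2, h3, h4⟩ := h.s0684 hI hn hA
    have h5 := sq_le_card h.tr h3 h2
    have h6 := Inv.relIndex_centralizer_dvd_card_mulAut A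
    rw [e, normalizer_eq_top, relIndex_top_right, IsCyclic.card_mulAut] at h6
    have h7 := (Nat.le_of_dvd (Nat.totient_pos.2 Nat.card_pos) h6).trans (Nat.totient_le _)
    have : Nontrivial W := Submodule.nontrivial_iff_ne_bot.2 h3.1
    have h8 : 1 < Nat.card W := Finite.one_lt_card
    have h9 := Nat.le_of_dvd (by omega) h4
    have h10 := A.card_mul_index
    rw [h.card] at h10
    obtain ⟨m, hm⟩ : ∃ m, Nat.card W = m + 1 := ⟨_, (Nat.succ_pred_eq_of_pos (by omega)).symm⟩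
    rw [hm] at h5 h8 h9
    have := Nat.mul_le_mul h9 (h7.trans h9)
    simp only [Nat.add_sub_cancel] at this
    have : m * m + 2 * m ≤ Nat.card V - 1 := Nat.le_sub_one_of_lt (by nlinarith)
    omega
  exact ⟨lt_of_le_of_ne (abel_of hA) key.symm, fun i => key (hm _ inferInstance i (abel_of hA))⟩

theorem s0687 {A : Subgroup G} (hm : ∀ B : Subgroup G, B.Normal → IsMulCommutative B → A ≤ B → B = A)
    {N : Subgroup G} (hn : N.Normal) (h1 : N ≤ C[A]) (h2 : ¬ IsMulCommutative N) :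
    MinI ρ N ⊤ ∧ C[N] = A := by
  have := h.nt
  have h3 := (irr_or_comm h.inj h.tr N).resolve_right h2
  have := cyc_cent h3 le_rfl (fun _ _ _ _ => trivial) fun c _ e =>
    h.inj (LinearMap.ext fun v => by simpa using e v trivial)
  exact ⟨h3, hm _ inferInstance inferInstance (cent_symm h1)⟩

theorem s0686 {A : Subgroup G} (hAn : A.Normal) (hA : IsMulCommutative A)
    (hm : ∀ B : Subgroup G, B.Normal → IsMulCommutative B → A ≤ B → B = A)
    {N : Subgroup G} (hn : N.Normal) (h1 : N ≤ C[A]) (h2 : ¬ IsMulCommutative N)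
    (h3 : ∀ M : Subgroup G, M.Normal → M ≤ N → ¬ IsMulCommutative M → M = N) :
    Nonempty (N ≃* QuaternionGroup 2) ∨ Nonempty (N ≃* S5) := by
  have := h.nt
  by_cases hd : IsMulCommutative (⁅N, N⁆ : Subgroup G)
  swap
  · have : Nontrivial N := (nontrivial_iff_ne_bot _).2 fun e => h2 (e ▸ inferInstance)
    exact Or.inr (zas (ρ.comp N.subtype) (fun g hg v e => by_contra fun hv =>
      hg (Subtype.ext (h.fpf _ v hv e))) (perfect_of_der (h3 _ inferInstance (der_le N) hd)))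
  left
  have h4 : ⁅N, N⁆ ≤ C[N] := (le_sup_right.trans (hm (A ⊔ ⁅N, N⁆) inferInstance
    (Abel.sup (abel_of hA) (abel_of hd) (cent_symm ((der_le N).trans h1))).comm
    le_sup_left).le).trans (cent_symm h1)
  have h5 : ∀ x y w : N, x * y * x⁻¹ * y⁻¹ * w = w * (x * y * x⁻¹ * y⁻¹) := fun x y w =>
    Subtype.ext (h4 (comm_mem x.2 y.2) w w.2).symm
  have h6 : Nil N := Subgroup.isNilpotent_of_ker_le_center (Abelianization.of (G := N)) (by
    rw [Abelianization.ker_of]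
    exact commutator_le.2 fun x _ y _ => mem_center_iff.2 fun w => (h5 x y w).symm)
  obtain ⟨q, hq, h7⟩ : ∃ q, q.Prime ∧ ¬ Abel O[{q}](N) := by
    by_contra h7
    push Not at h7
    exact h2 (h6.abel_of_O fun q hq _ => h7 q hq).comm
  have : Fact q.Prime := ⟨hq⟩
  have h8 := h3 _ (BG.normal_iff.2 (normO _ (norm_of_normal ⊤))) (O_le _ N) fun i => h7 (abel_of i)
  rcases Core.isCyclic_or_quaternion_of_forall_comm_isCyclic (h8 ▸ (O_pig {q} N).pg hq :
    IsPGroup q N) (fun B hB => by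
      have := h.cyc (A := B.map N.subtype) inferInstance
      exact isCyclic_of_surjective _ (B.equivMapOfInjective _ N.subtype_injective).symm.surjective)
    with i | ⟨-, n, ⟨e⟩⟩
  · exact absurd (Cyc.abel i).comm h2
  have k := congrArg e (h5 (e.symm (.a 1)) (e.symm (.xa 0)) (e.symm (.xa 0)))
  simp only [map_mul, map_inv, MulEquiv.apply_symm_apply] at k
  have k2 : (QuaternionGroup.a 1 : QuaternionGroup (2 ^ (n + 1))) * .xa 0 * (.a 1)⁻¹ * (.xa 0)⁻¹ =
      .a 2 := by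
    rw [mul_inv_eq_iff_eq_mul, mul_inv_eq_iff_eq_mul]
    simp only [QuaternionGroup.a_mul_xa, QuaternionGroup.xa_mul_a]
    congr 1; ring
  rw [k2] at k
  simp only [QuaternionGroup.a_mul_xa, QuaternionGroup.xa_mul_a, QuaternionGroup.xa.injEq] at k
  have k3 : ((4 : ℕ) : ZMod (2 * 2 ^ (n + 1))) = 0 := by push_cast; linear_combination -k
  have k4 := Nat.le_of_dvd (by norm_num) ((ZMod.natCast_eq_zero_iff _ _).1 k3)
  obtain rfl : n = 0 := by
    by_contra h0
    have : 2 ^ 2 ≤ 2 ^ (n + 1) := Nat.pow_le_pow_right (by norm_num) (by omega)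
    omega
  exact ⟨e⟩

theorem s0688 (hI : NoI ρ) [Group.IsSolvable G] :
    Nat.card V = 25 ∨ Nat.card V = 49 ∨ Nat.card V = 121 ∨ Nat.card V = 529 := by
  have := h.nt
  obtain ⟨A, -, ⟨hAn, hA⟩, hm⟩ := BG.exists_maximal
    (P := fun B : Subgroup G => B.Normal ∧ IsMulCommutative B) (A := ⊥) ⟨inferInstance, inferInstance⟩
  replace hm : ∀ B : Subgroup G, B.Normal → IsMulCommutative B → A ≤ B → B = A :=
    fun B a b => hm B ⟨a, b⟩
  obtain ⟨N, h1, ⟨hn, h2⟩, h3⟩ := BG.exists_minimal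
    (P := fun B : Subgroup G => B.Normal ∧ ¬ IsMulCommutative B) (A := C[A])
    ⟨inferInstance, (h.s0685 hI hAn hA hm).2⟩
  obtain ⟨h4, h5⟩ := h.s0687 hm hn h1 h2
  rcases h.s0686 hAn hA hm hn h1 h2 (fun M a b c => h3 M ⟨a, c⟩ b) with ⟨⟨e⟩⟩ | ⟨⟨e⟩⟩
  swap
  · have := hom_trivial (SL2_perfect (F := ZMod 5) (by simp)) e.symm.toMonoidHom sx
    exact absurd (e.symm.map_eq_one_iff.1 this) (by decide)
  obtain ⟨z, hQ⟩ := Inv.exists_Q8 e
  obtain ⟨i, hi, j, hj, i2, j2, n1, n2⟩ := hQ.exists_pair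
  have zs := zs_of h.fpf (z := z) (fun e => by simpa [e] using hQ.zord)
    (by rw [← sq, ← hQ.zord, pow_orderOf_eq_one])
  have sq : ∀ t, t * t = z → ρ t * ρ t = -1 := fun t e => by rw [← map_mul, e, zs.rz]
  have iv : ∀ t, t * t = z → ρ t⁻¹ = -ρ t := fun t e => by
    linear_combination (norm := noncomm_ring [as' (rho_inv' ρ t)]) ρ t⁻¹ * sq t e
  obtain ⟨q, q2, hV, hq⟩ := quad h.inj h4 (ZMod.sq_add_sq p (-1)) h2 (sq i i2) (sq j j2) (by
      have := hQ.inv j hj i hi j2 i2 n1.symm (fun e => n2 (by rw [e, inv_inv]))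
      rw [← map_mul ρ i, mul_inv_eq_iff_eq_mul.1 this, map_mul, iv j j2, neg_mul, neg_neg])
    (fun d hd => ⟨hd i hi, hd j hj⟩) fun X a b _ n hn v hv => by
      rcases hQ.all i hi j hj i2 j2 n1 n2 n hn with rfl | rfl | rfl | rfl | rfl | rfl | rfl | rfl
      · simpa using hv
      · simpa [zs.rz] using hv
      · exact a v hv
      · simpa [iv i i2] using a v hv
      · exact b v hv
      · simpa [iv j j2] using b v hv
      · simpa using a _ (b v hv)
      · simpa [iv _ (hQ.mul_sq hi hj i2 j2 n1 n2), -mul_inv_rev] using a _ (b v hv)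
  have hz : zpowers z ≤ C[N] := zpowers_le.2 fun g hg => hQ.zcomm g hg
  have h6 : (zpowers z).relIndex N = 4 := by
    have := BG.card_mul_relIndex (zpowers_le.2 hQ.zmem)
    rw [Nat.card_zpowers, hQ.zord, hQ.card] at this
    omega
  have h7 : C[N].index ∣ 4 * 6 := by
    rw [← relIndex_mul_index (le_sup_right : C[N] ≤ N ⊔ C[N]), relIndex_sup_right]
    exact mul_dvd_mul (h6 ▸ relIndex_dvd_of_le_left _ hz)
      (by simpa using hQ.relIndex_dvd_six (norm_of_normal ⊤))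
  have h8 : Nat.card G = (q - 1) * (q + 1) := by
    rw [h.card, hV, mul_comm (q - 1), ← Nat.sq_sub_sq, pow_two, one_pow]
  have h9 : q + 1 ∣ 24 := Nat.dvd_of_mul_dvd_mul_left (by omega : 0 < q - 1)
    (h8 ▸ C[N].card_mul_index ▸ mul_dvd_mul hq h7)
  have h10 : 8 ∣ (q - 1) * (q + 1) := h8 ▸ hQ.card ▸ card_subgroup_dvd_card N
  have h11 : q ≠ 3 := by
    rintro rfl
    have hN : N = ⊤ := eq_top_of_card_eq _ (by rw [h8, hQ.card])
    obtain ⟨W, a, b, c⟩ := hI (zpowers i) ⟨fun n hn g => by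
      obtain ⟨k, rfl⟩ := hn
      rw [← conj_zpow]
      refine zpow_mem ?_ k
      rcases hQ.conj i hi g (hN ▸ trivial) with e | e <;> simp [e]⟩ inferInstance
    have d := free_dvd (fun g _ => h.fpf g) c
    rw [Nat.card_zpowers, hQ.ord4 i2] at d
    have d1 : Nat.card W ∣ 3 ^ 2 := (show Nat.card V = 3 ^ 2 from hV) ▸
      W.toAddSubgroup.card_addSubgroup_dvd_card
    have : Nontrivial W := Submodule.nontrivial_iff_ne_bot.2 a
    have d2 : 1 < Nat.card W := Finite.one_lt_card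
    have d3 : Nat.card W ≠ 9 := fun e => b (Submodule.toAddSubgroup_eq_top.1
      (AddSubgroup.eq_top_of_card_eq _ (e.trans hV.symm)))
    obtain ⟨k, k1, k2⟩ := (Nat.dvd_prime_pow Nat.prime_three).1 d1
    interval_cases k <;> omega
  have := Nat.le_of_dvd (by norm_num) h9
  rw [hV]
  have : q ≤ 23 := by omega
  interval_cases q <;> omega

theorem s0689 (hs : ¬ Group.IsSolvable G) : (Nat.card V = 121 ∧ Nonempty (G ≃* S5)) ∨
    (Nat.card V = 841 ∧ Nonempty (G ≃* S5 × Multiplicative (ZMod 7))) ∨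
    (Nat.card V = 3481 ∧ Nonempty (G ≃* S5 × Multiplicative (ZMod 29))) := by
  have := h.nt
  obtain ⟨N, -, hn, h3⟩ := BG.exists_minimal (P := fun B : Subgroup G => ¬ Sol B) (A := ⊤)
    (fun i => hs (sol_top.1 i))
  have hp : commutator N = ⊤ := perfect_of_der (h3 _ (fun i => hn (by
    have : Group.IsSolvable (commutator N) := by
      rw [← map_subtype_commutator] at i
      exact (sol_map_inj N.subtype_injective).1 i
    exact solvable_of_ker_le_range (commutator N).subtype Abelianization.of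
      (by rw [Abelianization.ker_of, range_subtype]))) (der_le N))
  obtain ⟨z, hz⟩ := exists_prime_orderOf_dvd_card' 2 (PF.even_of_not_solvable hn).two_dvd
  have z1 : z ≠ 1 := fun e => by simp [e] at hz
  have z2 : z * z = 1 := by rw [← sq, ← hz, pow_orderOf_eq_one]
  obtain ⟨a, b, ha, hb, ht⟩ := (zs_of (ρ := ρ.comp N.subtype)
    (fun g v hv e => Subtype.ext (h.fpf _ v hv e)) z1 z2).exists_gold hp
  have zs := zs_of h.fpf (z := z.1) (fun e => z1 (Subtype.ext e)) (congrArg Subtype.val z2)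
  replace ha : D3 a.1 := ⟨congrArg Subtype.val ha.1, fun e => ha.2 (Subtype.ext e)⟩
  replace hb : D3 b.1 := ⟨congrArg Subtype.val hb.1, fun e => hb.2 (Subtype.ext e)⟩
  change tau ρ a.1 b.1 * tau ρ a.1 b.1 = tau ρ a.1 b.1 + 1 at ht
  generalize a.1 = a at *
  generalize b.1 = b at *
  obtain ⟨φ, hi, rfl, rfl, hz, hφ⟩ := zs.golden ha hb ht
  obtain ⟨k1, k2, k3⟩ := zs.struct hi hz ht
  have hna : ¬ IsMulCommutative φ.range := fun i => by
    have := hi (mem_C_comm (abel_of i) ⟨sx, rfl⟩ ⟨sy, rfl⟩ |>.trans (map_mul φ _ _).symm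
      |> (map_mul φ _ _).trans)
    rw [e4_inj, e4_mul, e4_mul] at this
    exact absurd this (by decide)
  have irr := (irr_or_comm h.inj h.tr φ.range).resolve_right hna
  obtain ⟨i, hi0⟩ : ∃ i, i = sy⁻¹ * sx⁻¹ * sy * sx⁻¹ := ⟨_, rfl⟩
  obtain ⟨j, hj0⟩ : ∃ j, j = sx⁻¹ * sy⁻¹ * sx⁻¹ * sy := ⟨_, rfl⟩
  have t1 : tab i = ((-1, 0), (0, 0), (-1, 0), (-1, 1)) := by rw [hi0]; decide +kernel
  have t2 : tab j = ((1, 0), (0, 0), (1, -1), (0, -1)) := by rw [hj0]; decide +kernel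
  have t3 : tab (i * j) = ((1, 0), (2, 0), (0, 1), (1, 0)) := by rw [hi0, hj0]; decide +kernel
  have sq : ∀ u v, u * v = -1 → ρ (φ u) * ρ (φ v) = -1 := fun u v e => by
    rw [← map_mul, ← map_mul, e, hz, zs.rz]
  have two : ∀ (X : Submodule (ZMod p) V) x, x + x ∈ X → x ∈ X := fun X x hx => by
    have h2 : (2 : ZMod p) ≠ 0 := fun e => zs.ne2 (by
      rw [← two_smul (ZMod p), e, zero_smul])
    have := X.smul_mem (2 : ZMod p)⁻¹ hx
    rwa [← two_smul (ZMod p), smul_smul, inv_mul_cancel₀ h2, one_smul] at this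
  obtain ⟨t, htt⟩ : ∃ t, t = tau ρ (φ sx) (φ sy) := ⟨_, rfl⟩
  rw [← htt] at ht hφ
  have c1 : ρ (φ sx) * t = t * ρ (φ sx) := by rw [htt, zs.tau_eq ha hb]; exact T_left (zs.cu ha)
  have c2 : ρ (φ sy) * t = t * ρ (φ sy) := by
    rw [htt, zs.tau_eq ha hb, T_comm]; exact T_left (zs.cu hb)
  have tc : ∀ n ∈ φ.range, ρ n * t = t * ρ n := by
    rintro _ ⟨g, rfl⟩
    simp only [hφ g, ev, mul_add, add_mul, smul_mul_assoc, mul_smul_comm, mul_assoc, c1, as' c1, c2,
      one_mul, mul_one]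
  obtain ⟨q, q2, hV, hq⟩ := quad (i := ρ (φ i)) (j := ρ (φ j)) h.inj irr (ZMod.sq_add_sq p (-1)) hna
    (sq i i (by rw [hi0, e4_inj]; simp only [e4_mul, e4_inv, e4_sx, e4_sy]; decide))
    (sq j j (by rw [hj0, e4_inj]; simp only [e4_mul, e4_inv, e4_sx, e4_sy]; decide))
    (by
      have : j * i = -1 * (i * j) := by
        rw [hi0, hj0, e4_inj]; simp only [e4_mul, e4_inv, e4_sx, e4_sy]; decide
      simp only [← map_mul]
      rw [this, map_mul φ, hz, map_mul ρ, zs.rz, neg_one_mul])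
    (fun d hd => ⟨hd _ ⟨i, rfl⟩, hd _ ⟨j, rfl⟩⟩) fun X a b c => by
      have c' := c t tc
      have a1 : ∀ x ∈ X, ρ (φ sx) x ∈ X := fun x hx => two X _ (by
        have : ρ (φ sx) + ρ (φ sx) = ρ (φ i) + ρ (φ j) + ρ (φ i) * ρ (φ j) - 1 := by
          rw [← map_mul, ← map_mul, hφ i, hφ j, hφ (i * j), t1, t2, t3]
          simp only [ev]; module
        rw [← LinearMap.add_apply, this]
        exact sub_mem (add_mem (add_mem (a x hx) (b x hx)) (a _ (b x hx))) hx)
      have a2 : ∀ x ∈ X, ρ (φ sy) x ∈ X := fun x hx => two X _ (by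
        have : ρ (φ sy) + ρ (φ sy) = ρ (φ j) - t * ρ (φ j) - t * ρ (φ i) - 1 := by
          rw [hφ i, hφ j, t1, t2]
          simp only [ev, mul_add, mul_smul_comm, ht, as' ht, add_mul, mul_one, one_mul]; module
        rw [← LinearMap.add_apply, this]
        exact sub_mem (sub_mem (sub_mem (b x hx) (c' _ (b x hx))) (c' _ (a x hx))) hx)
      rintro _ ⟨g, rfl⟩ x hx
      simp only [hφ g, ev, LinearMap.add_apply, LinearMap.smul_apply, Module.End.mul_apply,
        Module.End.one_apply]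
      refine add_mem (add_mem (add_mem (add_mem (add_mem (add_mem (add_mem ?_ ?_) ?_) ?_) ?_) ?_) ?_)
        ?_ <;> refine zsmul_mem ?_ _ <;> solve_by_elim
  have h8 : Nat.card G = (q - 1) * (q + 1) := by
    rw [h.card, hV, mul_comm (q - 1), ← Nat.sq_sub_sq, pow_two, one_pow]
  have h7 := C[φ.range].card_mul_index
  have h9 : q + 1 ∣ 120 := Nat.dvd_of_mul_dvd_mul_left (by omega : 0 < q - 1)
    (h8 ▸ h7 ▸ mul_dvd_mul hq k2)
  have h10 : 120 ∣ (q - 1) * (q + 1) := h8 ▸ card_S5 ▸ card_dvd_of_injective φ hi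
  have prod : ∀ m : ℕ, m.Prime → m.Coprime 120 → Nat.card G = 120 * m →
      Nonempty (G ≃* S5 × Multiplicative (ZMod m)) := fun m hm h1 h2 => by
    have : Fact m.Prime := ⟨hm⟩
    obtain ⟨c, hc⟩ := exists_prime_orderOf_dvd_card' (G := C[φ.range]) m
      ((h1.coprime_dvd_right k2).dvd_of_dvd_mul_right (by rw [h7, h2]; exact dvd_mul_left _ _))
    rw [← orderOf_coe] at hc
    have e : Multiplicative (ZMod m) ≃* zpowers c.1 :=
      mulEquivOfPrimeCardEq (p := m) (by simp) (by rw [Nat.card_zpowers, hc])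
    let ψ := (zpowers c.1).subtype.comp e.toMonoidHom
    let f := φ.noncommCoprod ψ fun u v => zpowers_le.2 c.2 (e v).2 _ ⟨u, rfl⟩
    refine ⟨(MulEquiv.ofBijective f ((Nat.bijective_iff_injective_and_card f).2
      ⟨(injective_iff_map_eq_one _).2 fun ⟨u, v⟩ h3 => ?_, by
        rw [Nat.card_prod, card_S5, h2]; simp⟩)).symm⟩
    have h4 : φ u = (ψ v)⁻¹ := eq_inv_of_mul_eq_one_left h3
    have h5 : orderOf (φ u) ∣ 120 := by
      rw [orderOf_injective φ hi, ← card_S5]; exact orderOf_dvd_natCard u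
    have h6 : orderOf (φ u) ∣ m := by
      rw [h4, orderOf_inv]; exact (orderOf_dvd_of_mem_zpowers (e v).2).trans hc.dvd
    have h7 := orderOf_eq_one_iff.1 (Nat.eq_one_of_dvd_coprimes h1 h6 h5)
    rw [h7, eq_comm, inv_eq_one] at h4
    exact Prod.ext (hi (h7.trans (map_one φ).symm)) (e.map_eq_one_iff.1 (Subtype.ext h4))
  have h11 : q ≠ 19 := by
    rintro rfl
    obtain ⟨m, hm⟩ := k2
    have := Nat.pos_of_dvd_of_pos ⟨m, hm⟩ (by norm_num)
    refine k3 (Nat.dvd_of_mul_dvd_mul_right this ⟨m, ?_⟩)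
    rw [h7, h8, mul_assoc, ← hm]
    norm_num
  have h12 : q ≠ 119 := by
    rintro rfl
    rw [Module.natCard_eq_pow_finrank (K := ZMod p), Nat.card_zmod] at hV
    have k : ∀ r, r.Prime → r ∣ 119 * 119 → r = p := fun r hr e =>
      (Nat.prime_dvd_prime_iff_eq hr Fact.out).1 (hr.dvd_of_dvd_pow (hV ▸ e))
    have := (k 7 (by norm_num) (by norm_num)).trans (k 17 (by norm_num) (by norm_num)).symm
    omega
  have := Nat.le_of_dvd (by norm_num) h9
  have h13 : q = 11 ∨ q = 29 ∨ q = 59 := by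
    have : q ≤ 119 := by omega
    clear * - h9 h10 h11 h12 q2 this
    interval_cases q <;> omega
  rcases h13 with rfl | rfl | rfl
  · exact Or.inl ⟨hV, ⟨(MulEquiv.ofBijective φ ((Nat.bijective_iff_injective_and_card φ).2
      ⟨hi, by rw [card_S5, h8]⟩)).symm⟩⟩
  · exact Or.inr (Or.inl ⟨hV, prod 7 (by norm_num) (by norm_num) h8⟩)
  · exact Or.inr (Or.inr ⟨hV, prod 29 (by norm_num) (by norm_num) h8⟩)

end Reg

/-- the tautological representation -/
def tautRep (H : Subgroup (V ≃ₗ[ZMod p] V)) : H →* Module.End (ZMod p) V :=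
  LinearEquiv.automorphismGroup.toLinearMapMonoidHom.comp H.subtype

instance finite_linH (H : Subgroup (V ≃ₗ[ZMod p] V)) : Finite H :=
  have : Finite (V ≃ₗ[ZMod p] V) := Finite.of_injective _ DFunLike.coe_injective
  inferInstance

end Cfsg.Agent.Perm.Zs
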